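import Cfsg.Agent.Lib.Classical.TensorPow.Slot

/-!
A space of matrices on a tensor power closed under products and under the natural conjugations, not made of
scalars, is everything.
-/

set_option autoImplicit false
set_option linter.unusedSectionVars false

namespace Cfsg.Agent.Classical.TensorPow

open Matrix Module MaxTv TensorMax

variable {F : Type*} [Field F] [Fintype F] {κ β : Type} [Fintype κ] [DecidableEq κ] [Fintype β] [DecidableEq β]

local notation "X" => (κ → β)
local notation "Mn" => Matrix (κ → β) (κ → β) F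
local notation "Mb" => Matrix β β F

/-- The matrix acting at one factor. -/
def et (j : κ) (T : Matrix β β F) : Matrix (κ → β) (κ → β) F :=
  wm 1 (Function.update (1 : κ → Matrix β β F) j T)

theorem wm1_mul (gs hs : κ → Mb) : wm (1 : Equiv.Perm κ) gs * wm 1 hs = wm 1 (gs * hs) := by
  rw [wm_mul, mul_one]; rfl

theorem wm1_one : wm (1 : Equiv.Perm κ) (1 : κ → Mb) = 1 := wm_one

theorem one_eq_sum_single : (1 : Mb) = ∑ a, Matrix.single a a (1 : F) := by
  ext p q
  simp only [Matrix.sum_apply, Matrix.single_apply, Matrix.one_apply]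
  by_cases e : p = q
  · subst e; simp
  · rw [if_neg e]
    exact (Finset.sum_eq_zero fun a _ => if_neg fun h => e (h.1.symm.trans h.2)).symm

theorem update_mul (j : κ) (S T : Mb) :
    Function.update (1 : κ → Mb) j S * Function.update (1 : κ → Mb) j T = Function.update (1 : κ → Mb) j (S * T) := by
  funext l
  by_cases e : l = j <;> simp [e]

theorem et_mul (j : κ) (S T : Mb) : et j S * et j T = et j (S * T) := by
  rw [et, et, et, wm1_mul, update_mul]

theorem et_one (j : κ) : et (F := F) (κ := κ) (β := β) j 1 = 1 := by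
  rw [et, Function.update_eq_self_iff.2 (show (1 : Mb) = (1 : κ → Mb) j from rfl), wm1_one]

theorem et_comm {i j : κ} (h : i ≠ j) (S T : Mb) : et i S * et j T = et j T * et i S := by
  rw [et, et, wm1_mul, wm1_mul]
  congr 1
  funext l
  by_cases e : l = i <;> by_cases e' : l = j <;> simp_all

theorem et_apply (j : κ) (T : Mb) (x y : X) :
    et j T x y = T (x j) (y j) * ∏ l ∈ Finset.univ.erase j, (1 : Mb) (x l) (y l) := by
  rw [et, wm, Matrix.of_apply, ← Finset.mul_prod_erase _ _ (Finset.mem_univ j), Equiv.Perm.coe_one,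
    Function.update_self]
  congr 1
  refine Finset.prod_congr rfl fun l hl => ?_
  rw [Function.update_of_ne (Finset.ne_of_mem_erase hl)]
  rfl

theorem et_add (j : κ) (S T : Mb) : et (κ := κ) j (S + T) = et j S + et j T := by
  ext x y
  simp only [Matrix.add_apply, et_apply, add_mul]

theorem et_smul (j : κ) (c : F) (T : Mb) : et (κ := κ) j (c • T) = c • et j T := by
  ext x y
  simp only [Matrix.smul_apply, et_apply, smul_eq_mul, mul_assoc]

theorem et_sum (j : κ) {ι : Type} (s : Finset ι) (f : ι → Mb) : et (κ := κ) j (∑ a ∈ s, f a) = ∑ a ∈ s, et j (f a) := by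
  classical
  induction s using Finset.induction_on with
  | empty =>
    rw [Finset.sum_empty, Finset.sum_empty, ← zero_smul F (1 : Mb), et_smul, zero_smul]
  | insert a s ha ih => rw [Finset.sum_insert ha, Finset.sum_insert ha, et_add, ih]

theorem et_val (j : κ) (A : GL β F) : et j (A : Mb) = (pe j A : Mn) := by
  rw [et]
  refine wm_congr rfl fun l => ?_
  by_cases e : l = j <;> simp [e]

theorem wm_update_ne (gs : κ → Mb) {j : κ} (hj : gs j = 1) (T : Mb) :
    wm 1 gs * et j T = et j T * wm 1 gs := by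
  rw [et, wm1_mul, wm1_mul]
  congr 1
  funext l
  by_cases e : l = j
  · subst e; simp [hj]
  · simp [e]

theorem wm_update (gs : κ → Mb) {j : κ} (hj : gs j = 1) (T : Mb) :
    wm 1 gs * et j T = wm 1 (Function.update gs j T) := by
  rw [et, wm1_mul]
  congr 1
  funext l
  by_cases e : l = j
  · subst e; simp [hj]
  · simp [e]

theorem wm_update_smul (gs : κ → Mb) (j : κ) (c : F) (T : Mb) :
    wm (1 : Equiv.Perm κ) (Function.update gs j (c • T)) = c • wm 1 (Function.update gs j T) := by
  ext x y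
  simp only [Matrix.smul_apply, wm, Matrix.of_apply, Equiv.Perm.coe_one, id_eq, smul_eq_mul]
  rw [← Finset.mul_prod_erase _ _ (Finset.mem_univ j), ← Finset.mul_prod_erase (f := fun l =>
    Function.update gs j T l (x l) (y l)) _ (Finset.mem_univ j)]
  simp only [Function.update_self, Matrix.smul_apply, smul_eq_mul, mul_assoc]
  congr 2
  exact Finset.prod_congr rfl fun l hl => by
    rw [Function.update_of_ne (Finset.ne_of_mem_erase hl), Function.update_of_ne (Finset.ne_of_mem_erase hl)]

theorem wm_update_add (gs : κ → Mb) (j : κ) (S T : Mb) :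
    wm (1 : Equiv.Perm κ) (Function.update gs j (S + T)) =
      wm 1 (Function.update gs j S) + wm 1 (Function.update gs j T) := by
  ext x y
  have e : ∀ U : Mb, wm (1 : Equiv.Perm κ) (Function.update gs j U) x y =
      U (x j) (y j) * ∏ l ∈ Finset.univ.erase j, gs l (x l) (y l) := fun U => by
    rw [wm, Matrix.of_apply, ← Finset.mul_prod_erase _ _ (Finset.mem_univ j), Equiv.Perm.coe_one]
    simp only [id_eq, Function.update_self]
    congr 1
    exact Finset.prod_congr rfl fun l hl => by rw [Function.update_of_ne (Finset.ne_of_mem_erase hl)]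
  rw [Matrix.add_apply, e, e, e, Matrix.add_apply, add_mul]

theorem wm_eq_zero_iff (gs : κ → Mb) (h : ∀ l, gs l ≠ 0) : wm (1 : Equiv.Perm κ) gs ≠ 0 := by
  have h' : ∀ l, ∃ a b, gs l a b ≠ 0 := fun l => by
    by_contra hcon
    push Not at hcon
    exact h l (Matrix.ext hcon)
  choose a b hab using h'
  intro e
  exact Finset.prod_ne_zero_iff.2 (fun l _ => hab l) (congrFun (congrFun e a) b)

/-- The contraction of one factor. -/
def yop (j : κ) (v φ : β → F) (R : Matrix (κ → β) (κ → β) F) : Matrix (κ → β) (κ → β) F :=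
  ∑ a, et j (vecMulVec (Pi.single a 1) φ) * R * et j (vecMulVec v (Pi.single a 1))

/-- Commuting with everything at the factor. -/
def Com (j : κ) (R : Matrix (κ → β) (κ → β) F) : Prop := ∀ T : Matrix β β F, et j T * R = R * et j T

theorem com_of_single {j : κ} {R : Mn}
    (h : ∀ p q : β, et j (Matrix.single p q (1 : F)) * R = R * et j (Matrix.single p q (1 : F))) : Com j R := by
  intro T
  conv_lhs => rw [Matrix.matrix_eq_sum_single T]
  conv_rhs => rw [Matrix.matrix_eq_sum_single T]
  simp only [et_sum, Finset.sum_mul, Finset.mul_sum]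
  refine Finset.sum_congr rfl fun p _ => Finset.sum_congr rfl fun q _ => ?_
  rw [show Matrix.single p q (T p q) = T p q • Matrix.single p q (1 : F) by
    rw [Matrix.smul_single, smul_eq_mul, mul_one], et_smul, Matrix.smul_mul, Matrix.mul_smul, h]

theorem single_eq_vmv (p q : β) :
    (Matrix.single p q (1 : F)) = vecMulVec (Pi.single p 1) (Pi.single q (1 : F)) := by
  ext a b
  simp only [Matrix.single_apply, Matrix.vecMulVec_apply, Pi.single_apply]
  by_cases e : p = a <;> by_cases e' : q = b <;> simp [e, e', eq_comm]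

theorem vmv_mul (u φ v ψ : β → F) : vecMulVec u φ * vecMulVec v ψ = (φ ⬝ᵥ v) • vecMulVec u ψ := by
  rw [Matrix.vecMulVec_mul_vecMulVec, Matrix.vecMulVec_smul]

theorem vmv_ne_zero {v φ : β → F} (hv : v ≠ 0) (hφ : φ ≠ 0) : vecMulVec v φ ≠ (0 : Mb) := by
  obtain ⟨a, ha⟩ := Function.ne_iff.1 hv
  obtain ⟨b, hb⟩ := Function.ne_iff.1 hφ
  exact fun e => mul_ne_zero ha hb (congrFun (congrFun e a) b)

theorem yop_com (j : κ) (v φ : β → F) (R : Mn) : Com j (yop j v φ R) := by
  refine com_of_single fun p q => ?_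
  rw [yop, Finset.mul_sum, Finset.sum_mul, Finset.sum_eq_single q, Finset.sum_eq_single p]
  · rw [← mul_assoc, ← mul_assoc, et_mul, mul_assoc, mul_assoc _ _ (et j (Matrix.single p q 1)), et_mul,
      single_eq_vmv, vmv_mul, vmv_mul]
    simp [mul_assoc]
  · intro a _ ha
    rw [mul_assoc _ _ (et j (Matrix.single p q 1)), et_mul, single_eq_vmv, vmv_mul, et_smul]
    simp [ha]
  · simp
  · intro a _ ha
    rw [← mul_assoc, ← mul_assoc, et_mul, single_eq_vmv, vmv_mul, et_smul]
    simp [Ne.symm ha]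
  · simp

theorem et_yop (j : κ) (v φ ε : β → F) (R : Mn) :
    et j (vecMulVec v ε) * yop j v φ R = et j (vecMulVec v φ) * R * et j (vecMulVec v ε) := by
  have he : vecMulVec v ε = ∑ a, ε a • vecMulVec v (Pi.single a (1 : F)) := by
    ext p q
    simp [Matrix.sum_apply, Matrix.vecMulVec_apply, Pi.single_apply, mul_comm]
  conv_rhs => rw [he, et_sum, Finset.mul_sum]
  rw [yop, Finset.mul_sum]
  refine Finset.sum_congr rfl fun a _ => ?_
  rw [← mul_assoc, ← mul_assoc, et_mul, vmv_mul, et_smul, et_smul, dotProduct_single, mul_one, Matrix.smul_mul,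
    Matrix.smul_mul, Matrix.mul_smul]

theorem yop_decomp (j : κ) (R : Mn) :
    R = ∑ a, ∑ b, et j (Matrix.single a b (1 : F)) * yop j (Pi.single b 1) (Pi.single a 1) R := by
  conv_lhs => rw [← one_mul R, ← mul_one (1 * R), ← et_one j]
  rw [one_eq_sum_single, et_sum, Finset.sum_mul, Finset.sum_mul]
  refine Finset.sum_congr rfl fun a _ => ?_
  rw [Finset.mul_sum]
  refine Finset.sum_congr rfl fun b _ => ?_
  rw [yop, Finset.mul_sum, Finset.sum_eq_single b]
  · rw [← mul_assoc, ← mul_assoc, et_mul]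
    simp [single_eq_vmv, vmv_mul]
  · intro c _ hc
    rw [← mul_assoc, ← mul_assoc, et_mul, single_eq_vmv, vmv_mul, et_smul]
    simp [Ne.symm hc]
  · simp

theorem yop_add_left (j : κ) (v w φ : β → F) (R : Mn) : yop j (v + w) φ R = yop j v φ R + yop j w φ R := by
  simp only [yop, Matrix.add_vecMulVec, et_add, mul_add, Finset.sum_add_distrib]

theorem yop_add_right (j : κ) (v φ ψ : β → F) (R : Mn) : yop j v (φ + ψ) R = yop j v φ R + yop j v ψ R := by
  simp only [yop, Matrix.vecMulVec_add, et_add, add_mul, Finset.sum_add_distrib]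

theorem yop_neg_right (j : κ) (v φ : β → F) (R : Mn) : yop j v (-φ) R = -yop j v φ R := by
  rw [eq_neg_iff_add_eq_zero, ← yop_add_right, neg_add_cancel, yop]
  refine Finset.sum_eq_zero fun a _ => ?_
  rw [show vecMulVec (Pi.single a (1 : F)) (0 : β → F) = (0 : F) • (1 : Mb) by simp, et_smul, zero_smul, zero_mul,
    zero_mul]

/-- Vanishing contractions: the matrix is a contraction of itself, so commutes at the factor. -/
theorem eq_yop_of_vanish {j : κ} {R : Mn} (h : ∀ v φ : β → F, φ ⬝ᵥ v = 0 → yop j v φ R = 0) (b₀ : β) :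
    R = yop j (Pi.single b₀ 1) (Pi.single b₀ 1) R := by
  have hd : ∀ a, yop j (Pi.single a 1) (Pi.single a 1) R = yop j (Pi.single b₀ 1) (Pi.single b₀ 1) R := fun a => by
    by_cases e : a = b₀
    · rw [e]
    have h1 := h (Pi.single a 1 + Pi.single b₀ 1) (Pi.single a 1 + -Pi.single b₀ 1) (by simp [e, Ne.symm e])
    rw [yop_add_right, yop_neg_right, yop_add_left, yop_add_left, h (Pi.single b₀ 1) (Pi.single a 1) (by simp [e]),
      h (Pi.single a 1) (Pi.single b₀ 1) (by simp [Ne.symm e])] at h1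
    simpa [← sub_eq_add_neg, sub_eq_zero] using h1
  conv_lhs => rw [yop_decomp j R]
  rw [Finset.sum_congr rfl fun a _ => Finset.sum_eq_single a (fun b _ hb => by
    rw [h _ _ (by simp [Ne.symm hb]), mul_zero]) (by simp)]
  simp only [hd]
  rw [← Finset.sum_mul, ← et_sum]
  convert one_mul _ using 2
  rw [← one_eq_sum_single, et_one]

/-- A matrix commuting at every factor is scalar. -/
theorem scalar_of_com {R : Mn} (h : ∀ j, Com j R) : ∃ c : F, R = c • (1 : Mn) := by
  classical
  have hp : ∀ (s : Finset κ) (gs : κ → Mb), (∀ l ∉ s, gs l = 1) → wm 1 gs * R = R * wm 1 gs := by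
    intro s
    induction s using Finset.induction_on with
    | empty =>
      intro gs hgs
      rw [show gs = 1 from funext fun l => hgs l (Finset.notMem_empty l), wm1_one, one_mul, mul_one]
    | insert a s ha ih =>
      intro gs hgs
      have e : wm (1 : Equiv.Perm κ) gs = wm 1 (Function.update gs a 1) * et a (gs a) := by
        rw [wm_update _ (Function.update_self _ _ _), Function.update_idem, Function.update_eq_self]
      have h1 := ih (Function.update gs a 1) fun l hl => by
        by_cases el : l = a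
        · rw [el, Function.update_self]
        · rw [Function.update_of_ne el, hgs l (by simp [el, hl])]
      rw [e, mul_assoc, h a, ← mul_assoc, h1, mul_assoc]
  have hsingle : ∀ x y : X, wm (1 : Equiv.Perm κ) (fun l => Matrix.single (x l) (y l) (1 : F)) =
      Matrix.single x y (1 : F) := fun x y => by
    ext p q
    simp only [wm, Matrix.of_apply, Equiv.Perm.coe_one, id_eq, Matrix.single_apply]
    by_cases e : x = p ∧ y = q
    · rw [if_pos e]
      exact Finset.prod_eq_one fun l _ => by simp [← e.1, ← e.2]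
    · rw [if_neg e]
      rw [not_and_or] at e
      rcases e with e | e <;> obtain ⟨l, hl⟩ := Function.ne_iff.1 e <;>
        exact Finset.prod_eq_zero (Finset.mem_univ l) (by simp [hl])
  obtain ⟨c, hc⟩ := Matrix.mem_range_scalar_of_commute_single (M := R) fun x y _ => by
    have h1 := hp Finset.univ (fun l => Matrix.single (x l) (y l) (1 : F)) (by simp)
    rwa [hsingle] at h1
  exact ⟨c, by rw [← hc, Matrix.scalar_apply, Matrix.smul_one_eq_diagonal]⟩

theorem single_eq_wm (x y : X) :
    Matrix.single x y (1 : F) = wm (1 : Equiv.Perm κ) fun l => vecMulVec (Pi.single (x l) 1) (Pi.single (y l) (1 : F)) := by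
  ext p q
  simp only [wm, Matrix.of_apply, Equiv.Perm.coe_one, id_eq, Matrix.single_apply, ← single_eq_vmv]
  by_cases e : x = p ∧ y = q
  · rw [if_pos e]
    exact (Finset.prod_eq_one fun l _ => by simp [← e.1, ← e.2]).symm
  · rw [if_neg e]
    rw [not_and_or] at e
    rcases e with e | e <;> obtain ⟨l, hl⟩ := Function.ne_iff.1 e <;>
      exact (Finset.prod_eq_zero (Finset.mem_univ l) (by simp [hl])).symm

/-- The hypotheses on the set. -/
structure TAlg (P : Matrix (κ → β) (κ → β) F → Prop) : Prop where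
  add : ∀ {R S}, P R → P S → P (R + S)
  smul : ∀ {R} (c : F), P R → P (c • R)
  mul : ∀ {R S}, P R → P S → P (R * S)
  conj : ∀ {R} (j : κ) (v φ : β → F), φ ⬝ᵥ v = 0 → P R →
    P (et j (1 + vecMulVec v φ) * R * et j (1 - vecMulVec v φ))
  swap : ∀ {gs : κ → Matrix β β F} (j k : κ), P (wm 1 gs) → P (wm 1 (gs ∘ Equiv.swap j k))

/-- A nilpotent matrix of rank one. -/
def Nil1 (T : Matrix β β F) : Prop :=
  ∃ v φ : β → F, v ≠ 0 ∧ φ ≠ 0 ∧ φ ⬝ᵥ v = 0 ∧ T = vecMulVec v φ

variable {P : Matrix (κ → β) (κ → β) F → Prop} (hP : TAlg P) (hb : 3 ≤ Fintype.card β)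
include hP hb

theorem TAlg.sub {R S : Mn} (h : P R) (h' : P S) : P (R - S) := by
  rw [sub_eq_add_neg, ← neg_one_smul F S]
  exact hP.add h (hP.smul _ h')

/-- One step of the reduction. -/
theorem sandwich_mem {R : Mn} (hR : P R) (j : κ) {v φ : β → F} (hv : φ ⬝ᵥ v = 0) :
    ∃ ε : β → F, ε ≠ 0 ∧ ε ⬝ᵥ v = 0 ∧ P (et j (vecMulVec v φ) * R * et j (vecMulVec v ε)) := by
  classical
  rcases eq_or_ne v 0 with rfl | hv0
  · obtain ⟨ε, hε, -, -⟩ := exists_perp2 hb (0 : β → F) 0
    refine ⟨ε, hε, dotProduct_zero _, ?_⟩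
    rw [show vecMulVec (0 : β → F) φ = (0 : F) • (1 : Mb) by simp, et_smul, zero_smul, zero_mul, zero_mul]
    simpa using hP.smul (0 : F) hR
  obtain ⟨u, hu0, hu⟩ : ∃ u, u ∉ (F ∙ v) ∧ φ ⬝ᵥ u = 0 := by
    by_contra hcon
    push Not at hcon
    let L : (β → F) →ₗ[F] F :=
      { toFun := fun x => φ ⬝ᵥ x
        map_add' := fun a b => dotProduct_add φ a b
        map_smul' := fun c a => dotProduct_smul c φ a }
    have hle : LinearMap.ker L ≤ (F ∙ v) := fun x hx => by_contra fun h => hcon x h hx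
    have h1 := L.finrank_range_add_finrank_ker
    have h2 := Submodule.finrank_mono hle
    have h3 := Submodule.finrank_le (LinearMap.range L)
    rw [finrank_self] at h3
    rw [finrank_span_singleton hv0] at h2
    rw [Module.finrank_fintype_fun_eq_card] at h1
    omega
  obtain ⟨δ, hδ1, hδ0⟩ := exists_dot_one hu0
  have hδv : δ ⬝ᵥ v = 0 := hδ0 v (Submodule.mem_span_singleton_self v)
  obtain ⟨ε, hε0, hεv, hεu⟩ := exists_perp2 hb v u
  refine ⟨ε, hε0, hεv, ?_⟩
  set D : Mb → Mn → Mn := fun T S => et j T * S - S * et j T - et j T * S * et j T with hD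
  have hdiff : ∀ (x χ : β → F) (S : Mn), χ ⬝ᵥ x = 0 → P S → P (D (vecMulVec x χ) S) := fun x χ S h hS => by
    have h1 := TAlg.sub hP hb (hP.conj j x χ h hS) hS
    convert h1 using 1
    rw [hD, et_add, et_one, show (1 : Mb) - vecMulVec x χ = 1 + (-1 : F) • vecMulVec x χ by simp [sub_eq_add_neg],
      et_add, et_one, et_smul]
    simp only [add_mul, mul_add, one_mul, mul_one, neg_smul, one_smul, mul_neg]
    abel
  set T := vecMulVec v φ with hT
  set T' := vecMulVec v δ with hT'
  set U := vecMulVec u ε with hU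
  have hS : P (et j T * R * et j T' + et j T' * R * et j T) := by
    have h1 := TAlg.sub hP hb (TAlg.sub hP hb (hdiff v φ R hv hR)
      (hdiff v (φ + δ) R (by rw [add_dotProduct, hv, hδv, add_zero]) hR)) (hP.smul (-1 : F) (hdiff v δ R hδv hR))
    convert h1 using 1
    simp only [hD]
    rw [hT, hT', Matrix.vecMulVec_add, et_add]
    simp only [add_mul, mul_add, neg_smul, one_smul]
    abel
  have h2 := hP.smul (-1 : F) (hdiff u ε _ hεu hS)
  convert h2 using 1
  have e1 : U * T = 0 := by rw [hU, hT, vmv_mul, hεv, zero_smul]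
  have e2 : U * T' = 0 := by rw [hU, hT', vmv_mul, hεv, zero_smul]
  have e3 : T * U = 0 := by rw [hT, hU, vmv_mul, hu, zero_smul]
  have e4 : T' * U = vecMulVec v ε := by rw [hT', hU, vmv_mul, hδ1, one_smul]
  have z : et (F := F) (κ := κ) (β := β) j 0 = 0 := by rw [← zero_smul F (1 : Mb), et_smul, zero_smul]
  rw [hD, ← hU]
  simp only [mul_add, ← mul_assoc, et_mul, e1, e2, z, zero_mul, add_zero, zero_sub, sub_zero]
  rw [add_mul, mul_assoc _ (et j T') (et j U), et_mul, e4, mul_assoc _ (et j T) (et j U), et_mul, e3, z, mul_zero,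
    add_zero, neg_smul, one_smul, neg_neg]

theorem et_com_injective {j : κ} {v ε : β → F} (hv : v ≠ 0) (hε : ε ≠ 0) {W : Mn} (hW : Com j W)
    (h : et j (vecMulVec v ε) * W = 0) : W = 0 := by
  obtain ⟨w, hw⟩ := exists_dual hv
  obtain ⟨u, hu⟩ := exists_dual hε
  rw [dotProduct_comm] at hu
  have ha : ∀ a, et j (Matrix.single a a (1 : F)) * W = 0 := fun a => by
    have e : Matrix.single a a (1 : F) = vecMulVec (Pi.single a 1) w * (vecMulVec v ε * vecMulVec u (Pi.single a 1)) := by
      rw [vmv_mul, hu, one_smul, vmv_mul, hw, one_smul, single_eq_vmv]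
    rw [e, ← et_mul, ← et_mul, mul_assoc, mul_assoc, hW, ← mul_assoc (et j (vecMulVec v ε)), h, zero_mul, mul_zero]
  rw [← one_mul W, ← et_one j, one_eq_sum_single, et_sum, Finset.sum_mul]
  exact Finset.sum_eq_zero fun a _ => ha a

/-- A non-scalar member gives a pure member. -/
theorem exists_pure_mem {R₀ : Mn} (hR₀ : P R₀) (hns : ∀ c : F, R₀ ≠ c • (1 : Mn)) :
    ∃ gs : κ → Mb, P (wm 1 gs) ∧ (∀ l, gs l = 1 ∨ Nil1 (gs l)) ∧ ∃ j, Nil1 (gs j) := by
  classical
  have main : ∀ s : Finset κ, ∃ (gs : κ → Mb) (Y : Mn), P (wm 1 gs * Y) ∧ wm 1 gs * Y ≠ 0 ∧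
      (∀ l, gs l = 1 ∨ Nil1 (gs l)) ∧ (∀ l ∉ s, gs l = 1) ∧ (∀ l ∈ s, Com l Y) ∧
      ((∃ j, Nil1 (gs j)) ∨ (gs = 1 ∧ wm 1 gs * Y = R₀)) := by
    intro s
    induction s using Finset.induction_on with
    | empty =>
      refine ⟨1, R₀, by rwa [wm1_one, one_mul], ?_, fun l => Or.inl rfl, fun l _ => rfl, by simp,
        Or.inr ⟨rfl, by rw [wm1_one, one_mul]⟩⟩
      rw [wm1_one, one_mul]
      exact fun e => hns 0 (by rw [e, zero_smul])
    | insert j s hj ih =>
      obtain ⟨gs, Y, hmem, hne, hall, hout, hcom, hor⟩ := ih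
      have hgj : gs j = 1 := hout j hj
      have hyop : ∀ v φ : β → F, yop j v φ (wm 1 gs * Y) = wm 1 gs * yop j v φ Y := fun v φ => by
        rw [yop, yop, Finset.mul_sum]
        refine Finset.sum_congr rfl fun a _ => ?_
        rw [← mul_assoc (et j _) (wm 1 gs), ← wm_update_ne gs hgj, mul_assoc, mul_assoc, mul_assoc]
      have hcom' : ∀ v φ : β → F, ∀ l ∈ insert j s, Com l (yop j v φ Y) := fun v φ l hl => by
        by_cases e : l = j
        · exact e ▸ yop_com l v φ Y
        intro T
        rw [yop, Finset.mul_sum, Finset.sum_mul]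
        refine Finset.sum_congr rfl fun a _ => ?_
        rw [mul_assoc _ _ (et l T), ← et_comm e, ← mul_assoc, ← mul_assoc, et_comm e, mul_assoc (et j _) (et l T) Y,
          hcom l ((Finset.mem_insert.1 hl).resolve_left e) T, ← mul_assoc, ← mul_assoc]
      by_cases hy : ∀ v φ : β → F, φ ⬝ᵥ v = 0 → yop j v φ (wm 1 gs * Y) = 0
      · obtain ⟨b₀⟩ : Nonempty β := Fintype.card_pos_iff.1 (by omega)
        have h1 := (eq_yop_of_vanish hy b₀).trans (hyop _ _)
        exact ⟨gs, _, h1 ▸ hmem, h1 ▸ hne, hall, fun l hl => hout l fun h => hl (Finset.mem_insert_of_mem h),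
          hcom' _ _, hor.imp id fun h => ⟨h.1, h1 ▸ h.2⟩⟩
      · push Not at hy
        obtain ⟨v, φ, hvφ, hy⟩ := hy
        have hv0 : v ≠ 0 := fun e => hy (by
          rw [e, yop]
          refine Finset.sum_eq_zero fun a _ => ?_
          rw [show vecMulVec (0 : β → F) (Pi.single a (1 : F)) = (0 : F) • (1 : Mb) by simp, et_smul, zero_smul,
            mul_zero])
        obtain ⟨ε, hε0, hεv, hε⟩ := sandwich_mem hP hb hmem j hvφ
        rw [← et_yop] at hε
        have hne' : et j (vecMulVec v ε) * yop j v φ (wm 1 gs * Y) ≠ 0 := fun e =>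
          hy (et_com_injective hP hb hv0 hε0 (yop_com j v φ _) e)
        rw [hyop, ← mul_assoc, ← wm_update_ne gs hgj, wm_update gs hgj] at hε hne'
        have hn : Nil1 (vecMulVec v ε) := ⟨v, ε, hv0, hε0, hεv, rfl⟩
        refine ⟨_, _, hε, hne', fun l => ?_, fun l hl => ?_, hcom' _ _, Or.inl ⟨j, ?_⟩⟩
        · by_cases e : l = j
          · subst e; rw [Function.update_self]; exact Or.inr hn
          · rw [Function.update_of_ne e]; exact hall l
        · rw [Finset.mem_insert, not_or] at hl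
          rw [Function.update_of_ne hl.1]; exact hout l hl.2
        · rw [Function.update_self]; exact hn
  obtain ⟨gs, Y, hmem, hne, hall, -, hcom, hor⟩ := main Finset.univ
  obtain ⟨c, hc⟩ := scalar_of_com fun j => hcom j (Finset.mem_univ j)
  rw [hc, Matrix.mul_smul, mul_one] at hmem hne hor
  have hc0 : c ≠ 0 := fun e => hne (by rw [e, zero_smul])
  refine ⟨gs, ?_, hall, hor.resolve_right fun h => hns c ?_⟩
  · have := hP.smul c⁻¹ hmem
    rwa [smul_smul, inv_mul_cancel₀ hc0, one_smul] at this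
  · rw [← h.2, h.1, wm1_one]

theorem conj_update {gs : κ → Mb} {k : κ} {T : Mb} {x χ : β → F} (hχ : χ ⬝ᵥ x = 0)
    (h : P (wm 1 (Function.update gs k T))) :
    P (wm 1 (Function.update gs k ((1 + vecMulVec x χ) * T * (1 - vecMulVec x χ)))) := by
  convert hP.conj k x χ hχ h using 1
  rw [et, et, wm1_mul, wm1_mul]
  congr 1
  funext l
  by_cases e : l = k <;> simp [e]

theorem update_sub {gs : κ → Mb} {k : κ} {S T : Mb} (hS : P (wm 1 (Function.update gs k S)))
    (hT : P (wm 1 (Function.update gs k T))) : P (wm 1 (Function.update gs k (S - T))) := by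
  rw [sub_eq_add_neg, ← neg_one_smul F T, wm_update_add, wm_update_smul]
  exact hP.add hS (hP.smul _ hT)

theorem update_left {gs : κ → Mb} {k : κ} {v u φ : β → F} (hv : v ≠ 0) (hu : φ ⬝ᵥ u = 0)
    (h : P (wm 1 (Function.update gs k (vecMulVec v φ)))) :
    P (wm 1 (Function.update gs k (vecMulVec u φ))) := by
  by_cases hm : u ∈ (F ∙ v)
  · obtain ⟨c, rfl⟩ := Submodule.mem_span_singleton.1 hm
    rw [Matrix.smul_vecMulVec, wm_update_smul]
    exact hP.smul c h
  by_cases hu0 : u = 0
  · exact absurd (hu0 ▸ zero_mem _) hm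
  have hm' : v ∉ (F ∙ u) := fun h' => by
    obtain ⟨c, hc⟩ := Submodule.mem_span_singleton.1 h'
    have hc0 : c ≠ 0 := fun e => hv (by rw [← hc, e, zero_smul])
    exact hm (Submodule.mem_span_singleton.2 ⟨c⁻¹, by rw [← hc, smul_smul, inv_mul_cancel₀ hc0, one_smul]⟩)
  obtain ⟨ε, hεv, hε0⟩ := exists_dot_one hm'
  have hεu : ε ⬝ᵥ u = 0 := hε0 u (Submodule.mem_span_singleton_self u)
  have h1 := update_sub hP hb (conj_update hP hb hεu h) h
  convert h1 using 4
  rw [add_mul, one_mul, vmv_mul, hεv, one_smul, mul_sub, mul_one, add_mul, vmv_mul, vmv_mul, hu, zero_smul,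
    zero_smul, add_zero, sub_zero, add_sub_cancel_left]

theorem update_right {gs : κ → Mb} {k : κ} {v φ ψ : β → F} (hφ : φ ≠ 0) (hv : φ ⬝ᵥ v = 0) (hψ : ψ ⬝ᵥ v = 0)
    (h : P (wm 1 (Function.update gs k (vecMulVec v φ)))) :
    P (wm 1 (Function.update gs k (vecMulVec v ψ))) := by
  by_cases hm : ψ ∈ (F ∙ φ)
  · obtain ⟨c, rfl⟩ := Submodule.mem_span_singleton.1 hm
    rw [Matrix.vecMulVec_smul, wm_update_smul]
    exact hP.smul c h
  have hm' : φ ∉ (F ∙ (φ - ψ)) := fun h' => by
    obtain ⟨c, hc⟩ := Submodule.mem_span_singleton.1 h'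
    have hc0 : c ≠ 0 := fun e => hφ (by rw [← hc, e, zero_smul])
    refine hm (Submodule.mem_span_singleton.2 ⟨1 - c⁻¹, ?_⟩)
    have h2 : φ - ψ = c⁻¹ • φ := by
      conv_rhs => arg 2; rw [← hc]
      rw [smul_smul, inv_mul_cancel₀ hc0, one_smul]
    rw [sub_smul, one_smul, ← h2, sub_sub_cancel]
  obtain ⟨x, hx, hx0⟩ := exists_dot_one hm'
  rw [dotProduct_comm] at hx
  have hεx : (φ - ψ) ⬝ᵥ x = 0 := by rw [dotProduct_comm]; exact hx0 _ (Submodule.mem_span_singleton_self _)
  have hεv : (φ - ψ) ⬝ᵥ v = 0 := by rw [sub_dotProduct, hv, hψ, sub_zero]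
  have h1 := conj_update hP hb hεx h
  convert h1 using 4
  rw [add_mul, one_mul, vmv_mul, hεv, zero_smul, add_zero, mul_sub, mul_one, vmv_mul, hx, one_smul]
  rw [Matrix.vecMulVec_sub, sub_sub_cancel]

theorem repl {gs : κ → Mb} {k : κ} {T : Mb} (hg : Nil1 (gs k)) (hT : Nil1 T) (h : P (wm 1 gs)) :
    P (wm 1 (Function.update gs k T)) := by
  obtain ⟨v, φ, hv, hφ, hvφ, e⟩ := hg
  obtain ⟨w, ψ, hw, hψ, hwψ, rfl⟩ := hT
  rw [← Function.update_eq_self k gs, e] at h
  obtain ⟨χ, hχ, h1, h2⟩ := exists_perp2 hb v w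
  exact update_right hP hb hχ h2 hwψ (update_left hP hb hv h2 (update_right hP hb hφ hvφ h1 h))

theorem repl_all {gs gs' : κ → Mb} (h : P (wm 1 gs))
    (hrel : ∀ l, gs' l = gs l ∨ (Nil1 (gs l) ∧ Nil1 (gs' l))) : P (wm 1 gs') := by
  classical
  have main : ∀ s : Finset κ, P (wm 1 fun l => if l ∈ s then gs' l else gs l) := by
    intro s
    induction s using Finset.induction_on with
    | empty => simpa using h
    | insert k s hk ih =>
      have e : (fun l => if l ∈ insert k s then gs' l else gs l) =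
          Function.update (fun l => if l ∈ s then gs' l else gs l) k (gs' k) := by
        funext l
        by_cases el : l = k
        · subst el; simp
        · simp [el]
      rw [e]
      rcases hrel k with hk' | ⟨h1, h2⟩
      · rwa [Function.update_eq_self_iff.2 (by simp [hk, hk'])]
      · exact repl hP hb (by simpa [hk] using h1) h2 ih
  simpa using main Finset.univ

/-- Everything belongs to the set. -/
theorem talg_all {R₀ : Mn} (hR₀ : P R₀) (hns : ∀ c : F, R₀ ≠ c • (1 : Mn)) (R : Mn) : P R := by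
  classical
  obtain ⟨gs₀, h₀, hall₀, j₀, hj₀⟩ := exists_pure_mem hP hb hR₀ hns
  have main : ∀ s : Finset κ, ∃ gs : κ → Mb, P (wm 1 gs) ∧ (∀ l, gs l = 1 ∨ Nil1 (gs l)) ∧
      (∀ l ∈ s, Nil1 (gs l)) ∧ ∃ j, Nil1 (gs j) := by
    intro s
    induction s using Finset.induction_on with
    | empty => exact ⟨gs₀, h₀, hall₀, by simp, j₀, hj₀⟩
    | insert k s hk ih =>
      obtain ⟨gs, hmem, hall, hs, j, hj⟩ := ih
      by_cases hkn : Nil1 (gs k)
      · refine ⟨gs, hmem, hall, fun l hl => ?_, j, hj⟩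
        rcases Finset.mem_insert.1 hl with rfl | hl
        · exact hkn
        · exact hs l hl
      have hk1 : gs k = 1 := (hall k).resolve_right hkn
      have hjk : j ≠ k := fun e => hkn (e ▸ hj)
      have h2 := hP.swap j k hmem
      have hch : ∀ l, ∃ T' : Mb, Nil1 (gs l) → Nil1 T' ∧ Nil1 (gs l * T') := fun l => by
        by_cases hl : Nil1 (gs l)
        · obtain ⟨v, φ, hv, hφ, hvφ, e⟩ := hl
          obtain ⟨w, hw⟩ := exists_dual hφ
          rw [dotProduct_comm] at hw
          have hw0 : w ≠ 0 := fun e' => by rw [e', dotProduct_zero] at hw; exact zero_ne_one hw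
          obtain ⟨ψ, hψ, hψv, hψw⟩ := exists_perp2 hb v w
          exact ⟨vecMulVec w ψ, fun _ => ⟨⟨w, ψ, hw0, hψ, hψw, rfl⟩,
            ⟨v, ψ, hv, hψ, hψv, by rw [e, vmv_mul, hw, one_smul]⟩⟩⟩
        · exact ⟨1, fun h => absurd h hl⟩
      choose T' hT' using hch
      let gs2 : κ → Mb := fun l => if l = j then 1 else if l = k then gs j else if Nil1 (gs l) then T' l else gs l
      have hgs2 : P (wm 1 gs2) := repl_all hP hb h2 fun l => by
        simp only [gs2, Function.comp_apply]
        by_cases e1 : l = j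
        · subst e1; simp [hk1]
        by_cases e2 : l = k
        · subst e2; simp [e1]
        rw [if_neg e1, if_neg e2, Equiv.swap_apply_of_ne_of_ne e1 e2]
        by_cases hl : Nil1 (gs l)
        · rw [if_pos hl]; exact Or.inr ⟨hl, (hT' l hl).1⟩
        · rw [if_neg hl]; exact Or.inl rfl
      have h3 := hP.mul hmem hgs2
      rw [wm1_mul] at h3
      have hn : ∀ l, Nil1 (gs l) ∨ l = k → Nil1 ((gs * gs2) l) := fun l hl => by
        simp only [Pi.mul_apply, gs2]
        by_cases e1 : l = j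
        · subst e1; simp [hj]
        by_cases e2 : l = k
        · subst e2; simp [e1, hk1, hj]
        rw [if_neg e1, if_neg e2, if_pos (hl.resolve_right e2)]
        exact (hT' l (hl.resolve_right e2)).2
      refine ⟨_, h3, fun l => ?_, fun l hl => hn l ?_, k, hn k (Or.inr rfl)⟩
      · by_cases hl : Nil1 (gs l) ∨ l = k
        · exact Or.inr (hn l hl)
        · rw [not_or] at hl
          have e1 : l ≠ j := fun e => hl.1 (e ▸ hj)
          left
          have hg2 : gs2 l = gs l := by
            show (if l = j then _ else if l = k then _ else if Nil1 (gs l) then _ else _) = _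
            rw [if_neg e1, if_neg hl.2, if_neg hl.1]
          rw [Pi.mul_apply, hg2, (hall l).resolve_right hl.1, mul_one]
      · rcases Finset.mem_insert.1 hl with rfl | hl
        · exact Or.inr rfl
        · exact Or.inl (hs l hl)
  obtain ⟨gs, hmem, -, hs, -⟩ := main Finset.univ
  have hfull : ∀ gs' : κ → Mb, (∀ l, Nil1 (gs' l)) → P (wm 1 gs') := fun gs' h =>
    repl_all hP hb hmem fun l => Or.inr ⟨hs l (Finset.mem_univ l), h l⟩
  have hpure : ∀ v ψ : κ → β → F, (∀ l, v l ≠ 0) → (∀ l, ψ l ≠ 0) →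
      P (wm 1 fun l => vecMulVec (v l) (ψ l)) := by
    intro v ψ hv hψ
    have hch : ∀ l, ∃ φ w : β → F, φ ≠ 0 ∧ w ≠ 0 ∧ φ ⬝ᵥ v l = 0 ∧ φ ⬝ᵥ w = 1 ∧ ψ l ⬝ᵥ w = 0 := fun l => by
      obtain ⟨x, hx⟩ := exists_dual (hψ l)
      rw [dotProduct_comm] at hx
      obtain ⟨φ, hφ, hφv, hφx⟩ := exists_perp2 hb (v l) x
      have hnot : φ ∉ (F ∙ ψ l) := fun hm => by
        obtain ⟨c, rfl⟩ := Submodule.mem_span_singleton.1 hm
        rw [smul_dotProduct, hx, smul_eq_mul, mul_one] at hφx
        exact hφ (by rw [hφx, zero_smul])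
      obtain ⟨w, hw, hw0⟩ := exists_dot_one hnot
      rw [dotProduct_comm] at hw
      exact ⟨φ, w, hφ, fun e => by rw [e, dotProduct_zero] at hw; exact zero_ne_one hw, hφv, hw,
        by rw [dotProduct_comm]; exact hw0 _ (Submodule.mem_span_singleton_self _)⟩
    choose φ w hφ hw h1 h2 h3 using hch
    have h4 := hP.mul (hfull _ fun l => ⟨v l, φ l, hv l, hφ l, h1 l, rfl⟩)
      (hfull _ fun l => ⟨w l, ψ l, hw l, hψ l, h3 l, rfl⟩)
    rw [wm1_mul] at h4
    convert h4 using 2
    congr 1
    funext l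
    rw [Pi.mul_apply, vmv_mul, h2 l, one_smul]
  have hzero : P 0 := by simpa using hP.smul (0 : F) hR₀
  rw [Matrix.matrix_eq_sum_single R]
  refine Finset.sum_induction _ P (fun a b => hP.add) hzero fun x _ =>
    Finset.sum_induction _ P (fun a b => hP.add) hzero fun y _ => ?_
  rw [show Matrix.single x y (R x y) = R x y • Matrix.single x y (1 : F) by
    rw [Matrix.smul_single, smul_eq_mul, mul_one], single_eq_wm]
  exact hP.smul _ (hpure _ _ (fun l => by simp) fun l => by simp)

end Cfsg.Agent.Classical.TensorPow
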