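import Mathlib.GroupTheory.OrderOfElement

/-!
Two involutions centralising a set of involutions.
-/

set_option autoImplicit false

namespace Cfsg.Agent.Classical.TensorPow

variable {G : Type*} [Group G]

theorem conj_pow_invol {a b : G} (ha : a * a = 1) (hb : b * b = 1) (j : ℕ) :
    (a * b) ^ j * a * ((a * b) ^ j)⁻¹ = (a * b) ^ (2 * j) * a := by
  have h : SemiconjBy a (a * b)⁻¹ (a * b) := by
    show a * (a * b)⁻¹ = a * b * a
    rw [mul_inv_rev, eq_inv_of_mul_eq_one_left ha |>.symm, eq_inv_of_mul_eq_one_left hb |>.symm, mul_assoc]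
  have h1 := (h.pow_right j).eq
  rw [inv_pow] at h1
  rw [mul_assoc, h1, ← mul_assoc, ← pow_add, two_mul]

/-- Two involutions centralising `E`: a common central involution outside `E`, or a conjugation among them. -/
theorem dih_cases [Finite G] (E : Set G) {a b : G} (ha : a * a = 1) (hb : b * b = 1) :
    (∃ l : ℕ, ∃ w, w = (a * b) ^ l ∧ w * w = 1 ∧ w ∉ E ∧ w * a = a * w ∧ w * b = b * w) ∨
    (∃ j : ℕ, ∃ y e, y = (a * b) ^ j ∧ (e ∈ E ∨ e = 1) ∧ y * a * y⁻¹ = b * e) ∨
    (∃ j : ℕ, ∃ y e, y = (a * b) ^ j ∧ e ∈ E ∧ e ≠ 1 ∧ y * a * y⁻¹ = a * e ∧ y * b * y⁻¹ = b * e) := by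
  classical
  set r := a * b with hr
  have hai : a⁻¹ = a := inv_eq_of_mul_eq_one_right ha
  have hbi : b⁻¹ = b := inv_eq_of_mul_eq_one_right hb
  have hra : r⁻¹ * a = b := by rw [hr, mul_inv_rev, hai, hbi, mul_assoc, ha, mul_one]
  have hk : 0 < orderOf r := orderOf_pos r
  rcases Nat.even_or_odd' (orderOf r) with ⟨l, hl | hl⟩
  · have hl0 : 0 < l := by omega
    set w := r ^ l with hw
    have hww : w * w = 1 := by rw [hw, ← pow_add, ← two_mul, ← hl, pow_orderOf_eq_one]
    have hw1 : w ≠ 1 := fun e => by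
      have := Nat.le_of_dvd hl0 (orderOf_dvd_of_pow_eq_one e)
      omega
    have hwa : w * a = a * w := by
      have h1 := conj_pow_invol ha hb l
      rw [← hr, ← hl, pow_orderOf_eq_one, one_mul, ← hw, mul_inv_eq_iff_eq_mul] at h1
      exact h1
    have hwr : w * r = r * w := by rw [hw, ← pow_succ, ← pow_succ']
    have hwb : w * b = b * w := by
      have e : b = a * r := by rw [hr, ← mul_assoc, ha, one_mul]
      calc w * b = w * (a * r) := by rw [← e]
        _ = a * (w * r) := by rw [← mul_assoc, hwa, mul_assoc]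
        _ = a * (r * w) := by rw [hwr]
        _ = b * w := by rw [← mul_assoc, ← e]
    by_cases hwE : w ∈ E
    · rcases Nat.even_or_odd' l with ⟨j, hj | hj⟩
      · refine Or.inr (Or.inr ⟨j, r ^ j, w, rfl, hwE, hw1, ?_, ?_⟩)
        · rw [conj_pow_invol ha hb, ← hj, ← hr, ← hw, hwa]
        · have e : b = a * r := by rw [hr, ← mul_assoc, ha, one_mul]
          have hjr : r * (r ^ j)⁻¹ = (r ^ j)⁻¹ * r := ((Commute.refl r).pow_right j).inv_right.eq
          calc r ^ j * b * (r ^ j)⁻¹ = r ^ j * a * (r * (r ^ j)⁻¹) := by rw [e]; simp only [mul_assoc]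
            _ = r ^ j * a * (r ^ j)⁻¹ * r := by rw [hjr, ← mul_assoc]
            _ = w * a * r := by rw [conj_pow_invol ha hb, ← hj, ← hr, ← hw]
            _ = b * w := by rw [mul_assoc, ← e, hwb]
      · refine Or.inr (Or.inl ⟨j, r ^ j, w, rfl, Or.inl hwE, ?_⟩)
        have e1 : r ^ (2 * j) = w * r⁻¹ := by rw [hw, hj, pow_succ, mul_inv_cancel_right]
        rw [conj_pow_invol ha hb, ← hr, e1, mul_assoc, hra, hwb]
    · exact Or.inl ⟨l, w, rfl, hww, hwE, hwa, hwb⟩
  · refine Or.inr (Or.inl ⟨l, r ^ l, 1, rfl, Or.inr rfl, ?_⟩)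
    have e1 : r ^ (2 * l) = r⁻¹ := by
      refine eq_inv_of_mul_eq_one_left ?_
      rw [← pow_succ, ← hl, pow_orderOf_eq_one]
    rw [conj_pow_invol ha hb, ← hr, e1, hra, mul_one]

end Cfsg.Agent.Classical.TensorPow
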