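import Cfsg.Agent.Lib.Classical.TensorPow.Comp
import Cfsg.Agent.Lib.Classical.TensorPow.Dih

/-!
Maximal sets of commuting involutions with a centraliser outside the stabiliser.
-/

set_option autoImplicit false
set_option linter.unusedSectionVars false

namespace Cfsg.Agent.Classical.TensorPow

open Matrix Module MaxTv TensorMax

variable {F : Type*} [Field F] [Fintype F] {κ β : Type} [Fintype κ] [DecidableEq κ] [Fintype β] [DecidableEq β]

local notation "X" => (κ → β)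
local notation "Mn" => Matrix (κ → β) (κ → β) F
local notation "Mb" => Matrix β β F

variable {M : Subgroup (GL (κ → β) F)}

/-- Centralising a set. -/
def CommE (E : Set (GL (κ → β) F)) (y : GL (κ → β) F) : Prop := ∀ e ∈ E, y * e = e * y

theorem CommE.mul {E : Set (GL X F)} {y z : GL X F} (hy : CommE E y) (hz : CommE E z) : CommE E (y * z) :=
  fun e he => ((show Commute y e from hy e he).mul_left (show Commute z e from hz e he)).eq

theorem CommE.inv {E : Set (GL X F)} {y : GL X F} (hy : CommE E y) : CommE E y⁻¹ :=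
  fun e he => (show Commute y e from hy e he).inv_left.eq

theorem CommE.conj {E : Set (GL X F)} {x y : GL X F} (hx : CommE E x) (hy : CommE E y) : CommE E (x * y * x⁻¹) :=
  (hx.mul hy).mul hx.inv

theorem CommE.pow {E : Set (GL X F)} {y : GL X F} (hy : CommE E y) (k : ℕ) : CommE E (y ^ k) :=
  fun e he => ((show Commute y e from hy e he).pow_left k).eq

/-- A set of commuting involutions of the stabiliser, centralised outside it, admissible at a slot. -/
structure Ok (M : Subgroup (GL (κ → β) F)) (i : κ) (E : Set (GL (κ → β) F)) : Prop where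
  mem : ∀ e ∈ E, e ∈ M ∧ e ∈ Wr F κ β ∧ e * e = 1
  comm : ∀ e ∈ E, CommE E e
  bad : ∃ x ∈ M, x ∉ Wr F κ β ∧ CommE E x
  adm : ∃ S : GL β F, SigT S ∧ CommE E (pe i S)

/-- A maximal such set. -/
def MaxE (M : Subgroup (GL (κ → β) F)) (i : κ) (E : Set (GL (κ → β) F)) : Prop :=
  Ok M i E ∧ ∀ E', Ok M i E' → E ⊆ E' → E' ⊆ E

theorem exists_maxE {i : κ} {E₀ : Set (GL X F)} (h : Ok M i E₀) : ∃ E, E₀ ⊆ E ∧ MaxE M i E := by
  classical
  have hfin : {E : Set (GL X F) | Ok M i E ∧ E₀ ⊆ E}.Finite := Set.toFinite _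
  obtain ⟨E, hE⟩ := hfin.exists_maximal ⟨E₀, h, subset_rfl⟩
  exact ⟨E, hE.1.2, hE.1.1, fun E' h' hle => hE.2 ⟨h', hE.1.2.trans hle⟩ hle⟩

/-- Above a maximal set the centraliser is in the stabiliser. -/
theorem MaxE.cent {i : κ} {E : Set (GL X F)} (hE : MaxE M i E) {w : GL X F} (hw : w ∈ M) (hwW : w ∈ Wr F κ β)
    (hww : w * w = 1) (hwE : CommE E w) {S : GL β F} (hS : SigT S) (hSE : CommE E (pe i S))
    (hSw : pe i S * w = w * pe i S) (hn : w ∉ E) {y : GL X F} (hy : y ∈ M) (hyE : CommE E y)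
    (hyw : y * w = w * y) : y ∈ Wr F κ β := by
  by_contra hno
  refine hn (hE.2 (insert w E) ⟨?_, ?_, ⟨y, hy, hno, ?_⟩, ⟨S, hS, ?_⟩⟩ (Set.subset_insert w E) (Set.mem_insert w E))
  · rintro e (rfl | he)
    · exact ⟨hw, hwW, hww⟩
    · exact hE.1.mem e he
  · rintro e (rfl | he) f (rfl | hf)
    · rfl
    · exact hwE f hf
    · exact (hwE e he).symm
    · exact hE.1.comm e he f hf
  · rintro e (rfl | he)
    · exact hyw
    · exact hyE e he
  · rintro e (rfl | he)
    · exact hSw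
    · exact hSE e he

theorem exists_eig_of_invol {U : GL β F} (hU2 : U * U = 1) (hU : ∀ c : F, (U : Mb) ≠ c • 1) :
    ∃ v : β → F, v ≠ 0 ∧ (U : Mb) *ᵥ v = (1 : F) • v := by
  obtain ⟨x, hx⟩ : ∃ x, (U : Mb) *ᵥ x + x ≠ 0 := by
    by_contra hcon
    push Not at hcon
    refine hU (-1) (Matrix.ext_iff_mulVec.2 fun x => ?_)
    rw [Matrix.smul_mulVec, Matrix.one_mulVec, neg_smul, one_smul]
    exact eq_neg_of_add_eq_zero_left (hcon x)
  refine ⟨_, hx, ?_⟩
  rw [Matrix.mulVec_add, Matrix.mulVec_mulVec, ← Units.val_mul, hU2, Units.val_one, Matrix.one_mulVec, one_smul,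
    add_comm]

theorem Cx.cent_pure_invol (hM : Cx M) {i : κ} {U : GL β F} (hU2 : U * U = 1) (hU : ∀ c : F, (U : Mb) ≠ c • 1)
    {y : GL X F} (hy : y ∈ M) (hc : y * pe i U = pe i U * y) : y ∈ Wr F κ β := by
  obtain ⟨v, hv, hUv⟩ := exists_eig_of_invol hU2 hU
  exact hM.pure_cent_le hU hv hUv hy hc

theorem MaxE.pure_not_mem (hM : Cx M) {i : κ} {E : Set (GL X F)} (hE : MaxE M i E) {j : κ} {U : GL β F}
    (hU2 : U * U = 1) (hU : ∀ c : F, (U : Mb) ≠ c • 1) : pe j U ∉ E := fun he => by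
  obtain ⟨x, hx, hno, hxE⟩ := hE.1.bad
  exact hno (hM.cent_pure_invol hU2 hU hx (hxE _ he))

/-- The result of the argument with two involutions. -/
def Out (M : Subgroup (GL (κ → β) F)) (E : Set (GL (κ → β) F)) (s u : GL (κ → β) F) : Prop :=
  (∃ h e, h ∈ M ∧ h ∈ Wr F κ β ∧ CommE E h ∧ (e ∈ E ∨ e = 1) ∧ h * u * h⁻¹ = s * e) ∨
  (∃ e y₁ y₂, e ∈ E ∧ e ≠ 1 ∧ y₁ ∈ Wr F κ β ∧ y₂ ∈ Wr F κ β ∧ y₁ * s * y₁⁻¹ = s * e ∧ y₂ * u * y₂⁻¹ = u * e)

theorem Ok.of_mem_one {i : κ} {E : Set (GL X F)} (hE : Ok M i E) {e : GL X F} (he : e ∈ E ∨ e = 1) :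
    e * e = 1 ∧ e ∈ Wr F κ β ∧ ∀ y, CommE E y → y * e = e * y := by
  rcases he with he | rfl
  · exact ⟨(hE.mem e he).2.2, (hE.mem e he).2.1, fun y hy => hy e he⟩
  · exact ⟨one_mul 1, one_mem _, fun y _ => by rw [mul_one, one_mul]⟩

/-- The involutions `u` and a conjugate of `s`, when common centralising involutions are admissible. -/
theorem MaxE.orient1 (hM : Cx M) {i : κ} {E : Set (GL X F)} (hE : MaxE M i E) {S : GL β F} (hS : SigT S)
    (hSE : CommE E (pe i S)) {u : GL X F} (huM : u ∈ M) (huW : u ∈ Wr F κ β) (huu : u * u = 1) (huE : CommE E u)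
    (hsu : pe i S * u = u * pe i S) (hun : u ∉ E)
    (hadm : ∀ w ∈ M, w ∈ Wr F κ β → w * w = 1 → CommE E w → w * u = u * w →
      ∃ S', SigT S' ∧ CommE E (pe i S') ∧ pe i S' * w = w * pe i S') : Out M E (pe i S) u := by
  classical
  obtain ⟨x, hx, hno, hxE⟩ := hE.1.bad
  have hsM : pe i S ∈ M := hM.mem_wr (TensorPow.pe_mem i S) (sigT_det_pe hM.ht hS i)
  have hss : pe i S * pe i S = 1 := by rw [← map_mul, sigT_sq hS, map_one]
  set s := pe i S with hs
  set b := x * s * x⁻¹ with hb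
  have hbM : b ∈ M := mul_mem (mul_mem hx hsM) (inv_mem hx)
  have hbE : CommE E b := hxE.conj hSE
  have hbW : b ∉ Wr F κ β := fun h => hno (hM.sig_fusion hx hS h)
  have hr : ∀ k, CommE E ((u * b) ^ k) ∧ (u * b) ^ k ∈ M := fun k =>
    ⟨(huE.mul hbE).pow k, pow_mem (mul_mem huM hbM) k⟩
  rcases dih_cases E huu (conj_invol hss : b * b = 1) with ⟨l, w, rfl, hww, hwE', hwu, hwb⟩ |
      ⟨j, y, e, rfl, he, hy⟩ | ⟨j, y, e, rfl, he, he1, hyu, hyb⟩
  · exfalso
    obtain ⟨hwE, hwM⟩ := hr l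
    have hwW := hE.cent huM huW huu huE hS hSE hsu hun hwM hwE hwu
    obtain ⟨S', hS', hS'E, hS'w⟩ := hadm _ hwM hwW hww hwE hwu
    exact hbW (hE.cent hwM hwW hww hwE hS' hS'E hS'w hwE' hbM hbE hwb.symm)
  · obtain ⟨hyE, hyM⟩ := hr j
    obtain ⟨hee, heW, hec⟩ := hE.1.of_mem_one he
    set y := (u * b) ^ j
    set h := x⁻¹ * y with hh
    have hhE : CommE E h := hxE.inv.mul hyE
    have hhM : h ∈ M := mul_mem (inv_mem hx) hyM
    have h1 : h * u * h⁻¹ = s * e := by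
      calc h * u * h⁻¹ = x⁻¹ * (y * u * y⁻¹) * x := by rw [hh]; group
        _ = s * (x⁻¹ * (e * x)) := by rw [hy]; group
        _ = s * e := by rw [← hec x hxE, inv_mul_cancel_left]
    refine Or.inl ⟨h, e, hhM, ?_, hhE, he, h1⟩
    have h2 : h⁻¹ * s * h⁻¹⁻¹ = u * e := by
      calc h⁻¹ * s * h⁻¹⁻¹ = h⁻¹ * (s * e) * (e * h) := by
            rw [show h⁻¹ * (s * e) * (e * h) = h⁻¹ * s * (e * e) * h by group, hee, mul_one, inv_inv]
        _ = h⁻¹ * (h * u * h⁻¹) * (h * e) := by rw [h1, hec h hhE]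
        _ = u * e := by group
    exact inv_mem_iff.1 (hM.sig_fusion (inv_mem hhM) hS (h2 ▸ mul_mem huW heW))
  · obtain ⟨hyE, hyM⟩ := hr j
    obtain ⟨-, heW, hec⟩ := hE.1.of_mem_one (Or.inl he)
    set y := (u * b) ^ j
    set y₁ := x⁻¹ * y * x
    have h1 : y₁ * s * y₁⁻¹ = s * e := by
      calc y₁ * s * y₁⁻¹ = x⁻¹ * (y * b * y⁻¹) * x := by simp only [y₁, hb]; group
        _ = s * (x⁻¹ * (e * x)) := by rw [hyb]; group
        _ = s * e := by rw [← hec x hxE, inv_mul_cancel_left]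
    have hy₁ : y₁ ∈ Wr F κ β :=
      hM.sig_fusion (mul_mem (mul_mem (inv_mem hx) hyM) hx) hS (h1 ▸ mul_mem (TensorPow.pe_mem i S) heW)
    refine Or.inr ⟨e, y₁, y, he, he1, hy₁, hM.sig_fusion (i := i) hyM hS ?_, h1, hyu⟩
    have h3 : y * s * y⁻¹ * (u * e) = u * e * (y * s * y⁻¹) := by
      rw [← hyu]
      calc y * s * y⁻¹ * (y * u * y⁻¹) = y * (s * u) * y⁻¹ := by group
        _ = y * (u * s) * y⁻¹ := by rw [hsu]
        _ = _ := by group
    have hc := hyE.conj hSE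
    refine hE.cent huM huW huu huE hS hSE hsu hun (mul_mem (mul_mem hyM hsM) (inv_mem hyM)) hc ?_
    refine mul_right_cancel (b := e) ?_
    calc y * s * y⁻¹ * u * e = u * e * (y * s * y⁻¹) := by rw [mul_assoc _ u e, h3]
      _ = u * (y * s * y⁻¹) * e := by rw [mul_assoc, mul_assoc u, hec _ hc]

/-- The involutions `s` and a conjugate of `u`, when the conjugates of `u` are controlled. -/
theorem MaxE.orient2 (hM : Cx M) {i : κ} {E : Set (GL X F)} (hE : MaxE M i E) {S : GL β F} (hS : SigT S)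
    (hSE : CommE E (pe i S)) {u : GL X F} (huM : u ∈ M) (huW : u ∈ Wr F κ β) (huu : u * u = 1) (huE : CommE E u)
    (hfu : ∀ y ∈ M, CommE E y → y * u * y⁻¹ ∈ Wr F κ β → y ∈ Wr F κ β) : Out M E (pe i S) u := by
  classical
  obtain ⟨x, hx, hno, hxE⟩ := hE.1.bad
  have hsM : pe i S ∈ M := hM.mem_wr (TensorPow.pe_mem i S) (sigT_det_pe hM.ht hS i)
  have hss : pe i S * pe i S = 1 := by rw [← map_mul, sigT_sq hS, map_one]
  set s := pe i S with hs
  set b := x * u * x⁻¹ with hb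
  have hbM : b ∈ M := mul_mem (mul_mem hx huM) (inv_mem hx)
  have hbE : CommE E b := hxE.conj huE
  have hbW : b ∉ Wr F κ β := fun h => hno (hfu x hx hxE h)
  have hr : ∀ k, CommE E ((s * b) ^ k) ∧ (s * b) ^ k ∈ M := fun k =>
    ⟨(hSE.mul hbE).pow k, pow_mem (mul_mem hsM hbM) k⟩
  rcases dih_cases E hss (conj_invol huu : b * b = 1) with ⟨l, w, rfl, hww, hwE', hws, hwb⟩ |
      ⟨j, y, e, rfl, he, hy⟩ | ⟨j, y, e, rfl, he, he1, hys, hyb⟩
  · exfalso
    obtain ⟨hwE, hwM⟩ := hr l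
    have hwW := hM.cent_pure_invol (sigT_sq hS) (sigT_nonscalar (by have := hM.hb; omega) hS) hwM hws
    exact hbW (hE.cent hwM hwW hww hwE hS hSE hws.symm hwE' hbM hbE hwb.symm)
  · obtain ⟨hyE, hyM⟩ := hr j
    obtain ⟨hee, heW, hec⟩ := hE.1.of_mem_one he
    set y := (s * b) ^ j
    set h := x⁻¹ * y with hh
    have hhE : CommE E h := hxE.inv.mul hyE
    have hhM : h ∈ M := mul_mem (inv_mem hx) hyM
    have h1 : h * s * h⁻¹ = u * e := by
      calc h * s * h⁻¹ = x⁻¹ * (y * s * y⁻¹) * x := by rw [hh]; group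
        _ = u * (x⁻¹ * (e * x)) := by rw [hy]; group
        _ = u * e := by rw [← hec x hxE, inv_mul_cancel_left]
    have hhW : h ∈ Wr F κ β := hM.sig_fusion hhM hS (h1 ▸ mul_mem huW heW)
    refine Or.inl ⟨h⁻¹, e, inv_mem hhM, inv_mem hhW, hhE.inv, he, ?_⟩
    calc h⁻¹ * u * h⁻¹⁻¹ = h⁻¹ * (u * e) * (e * h) := by
          rw [show h⁻¹ * (u * e) * (e * h) = h⁻¹ * u * (e * e) * h by group, hee, mul_one, inv_inv]
      _ = h⁻¹ * (h * s * h⁻¹) * (h * e) := by rw [h1, hec h hhE]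
      _ = s * e := by group
  · obtain ⟨hyE, hyM⟩ := hr j
    obtain ⟨-, heW, hec⟩ := hE.1.of_mem_one (Or.inl he)
    set y := (s * b) ^ j
    set y₂ := x⁻¹ * y * x
    have h1 : y₂ * u * y₂⁻¹ = u * e := by
      calc y₂ * u * y₂⁻¹ = x⁻¹ * (y * b * y⁻¹) * x := by simp only [y₂, hb]; group
        _ = u * (x⁻¹ * (e * x)) := by rw [hyb]; group
        _ = u * e := by rw [← hec x hxE, inv_mul_cancel_left]
    have hy : y ∈ Wr F κ β := hM.sig_fusion hyM hS (hys ▸ mul_mem (TensorPow.pe_mem i S) heW)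
    refine Or.inr ⟨e, y, y₂, he, he1, hy, ?_, hys, h1⟩
    exact hfu y₂ (mul_mem (mul_mem (inv_mem hx) hyM) hx) ((hxE.inv.mul hyE).mul hxE) (h1 ▸ mul_mem huW heW)

/-- Conjugates of pure elements are pure. -/
theorem conj_pure {g : GL X F} (hg : g ∈ Wr F κ β) (i : κ) (A : GL β F) :
    ∃ (k : κ) (C : GL β F), g * pe i A * g⁻¹ = pe k (C * A * C⁻¹) ∧ (k = i → Comp i g C) := by
  obtain ⟨π, hs, rfl⟩ := hg
  refine ⟨π⁻¹ i, hs (π⁻¹ i), pe_conj_eq i A (perm_apply_inv π i), fun hk => ?_⟩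
  have h : π i = i := by
    conv_lhs => rw [← hk, perm_apply_inv]
  rw [hk]
  exact comp_of_wgl hs h

theorem conj_nonscalar {A : GL β F} (hA : ∀ c : F, (A : Mb) ≠ c • 1) (C : GL β F) (c : F) :
    ((C * A * C⁻¹ : GL β F) : Mb) ≠ c • 1 := fun e => hA c (by
  have h : A = C⁻¹ * (C * A * C⁻¹) * C := by group
  rw [h, Units.val_mul, Units.val_mul, e, Matrix.mul_smul, mul_one, Matrix.smul_mul, ← Units.val_mul,
    inv_mul_cancel, Units.val_one])

theorem pure_prod [Nontrivial β] {i j k : κ} (hij : i ≠ j) {A B W : GL β F} (h : pe i A * pe j B = pe k W) :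
    (∃ c : F, (A : Mb) = c • 1) ∨ (∃ c : F, (B : Mb) = c • 1) := by
  have h' : wgl 1 (fun l => Function.update (1 : κ → GL β F) i A l * Function.update (1 : κ → GL β F) j B l) =
      wgl 1 (Function.update (1 : κ → GL β F) k W) := by
    have := (wgl_mul (1 : Equiv.Perm κ) 1 (Function.update (1 : κ → GL β F) i A) (Function.update (1 : κ → GL β F) j B)).symm
    rw [mul_one] at this
    exact this.trans h
  obtain ⟨-, hc⟩ := wgl_unique h'.symm
  by_cases hk : k = i
  · obtain ⟨c, -, e⟩ := hc j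
    rw [Function.update_of_ne hij.symm, Function.update_self, Pi.one_apply, one_mul,
      Function.update_of_ne (fun e => hij.symm (e.trans hk)), Pi.one_apply, Units.val_one] at e
    exact Or.inr ⟨c, e⟩
  · obtain ⟨c, -, e⟩ := hc i
    rw [Function.update_self, Function.update_of_ne hij, Pi.one_apply, mul_one, Function.update_of_ne (Ne.symm hk),
      Pi.one_apply, Units.val_one] at e
    exact Or.inl ⟨c, e⟩

theorem pe_scalar_one [Nonempty β] {i : κ} {W : GL β F} (h : (W : Mb) = (1 : F) • 1) : pe i W = 1 := by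
  rw [one_smul] at h
  rw [show W = 1 from Units.ext h, map_one]

/-- The components in the result: a conjugate of `U` is `± S`. -/
theorem MaxE.lemmaP (hM : Cx M) {i : κ} {E : Set (GL X F)} (hE : MaxE M i E) {S U : GL β F} (hS : SigT S)
    (hU2 : U * U = 1) (hU : ∀ c : F, (U : Mb) ≠ c • 1) (hUS : ∀ c : F, (U : Mb) ≠ c • (S : Mb))
    (h : Out M E (pe i S) (pe i U)) : ∃ h A, h ∈ Wr F κ β ∧ CommE E h ∧ Comp i h A ∧
      ∃ c : F, c * c = 1 ∧ ((A * U * A⁻¹ : GL β F) : Mb) = c • (S : Mb) := by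
  haveI := hM.nontriv
  haveI := hM.nempty
  have hb := hM.hb
  have hSn := sigT_nonscalar (by omega) hS
  have hUS' : ∀ c : F, ((U * S : GL β F) : Mb) ≠ c • 1 := fun c e => hUS c (by
    have h1 : U = U * S * S := by rw [mul_assoc, sigT_sq hS, mul_one]
    rw [h1, Units.val_mul, e, Matrix.smul_mul, one_mul])
  have hss : pe i S * pe i S = 1 := by rw [← map_mul, sigT_sq hS, map_one]
  have hscal : ∀ W : GL β F, (pe i W ∈ E ∨ pe i W = 1) → ∃ c : F, c * c = 1 ∧ (W : Mb) = c • 1 := by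
    intro W hW
    have hWW : W * W = 1 := pe_injective i (by rw [map_mul, map_one]; exact (hE.1.of_mem_one hW).1)
    have hsc : ∃ c : F, (W : Mb) = c • 1 := by
      by_contra hcon
      push Not at hcon
      rcases hW with hW | hW
      · exact hE.pure_not_mem hM hWW hcon hW
      · exact hcon 1 (by rw [pe_injective i (hW.trans (map_one (pe i)).symm), Units.val_one, one_smul])
    obtain ⟨c, hc⟩ := hsc
    refine ⟨c, ?_, hc⟩
    have h1 := congrArg Units.val hWW
    rw [Units.val_mul, hc, Matrix.smul_mul, one_mul, smul_smul, Units.val_one] at h1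
    obtain ⟨b⟩ := hM.nempty
    simpa using congrFun (congrFun h1 b) b
  rcases h with ⟨h, e, -, hhW, hhE, he, heq⟩ | ⟨e, y₁, y₂, he, he1, hy₁, hy₂, h1, h2⟩
  · obtain ⟨hee, -, hec⟩ := hE.1.of_mem_one he
    obtain ⟨k, C, hk, hcomp⟩ := conj_pure hhW i U
    set U' := C * U * C⁻¹
    have hee' : e = pe i S * pe k U' := by
      rw [← hk, heq, ← mul_assoc, hss, one_mul]
    by_cases hki : k = i
    · subst hki
      refine ⟨h, C, hhW, hhE, hcomp rfl, ?_⟩
      rw [← map_mul] at hee'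
      obtain ⟨c, hcc, hc⟩ := hscal (S * U') (hee' ▸ he)
      refine ⟨c, hcc, ?_⟩
      have h3 : U' = S * (S * U') := by rw [← mul_assoc, sigT_sq hS, one_mul]
      rw [show C * U * C⁻¹ = U' from rfl, h3, Units.val_mul, hc, Matrix.mul_smul, mul_one]
    · exfalso
      have h3 : h * (pe i U * e) * h⁻¹ = pe i S := by
        calc h * (pe i U * e) * h⁻¹ = (h * pe i U * h⁻¹) * (h * e * h⁻¹) := by group
          _ = pe i S := by rw [heq, hec h hhE, mul_inv_cancel_right, mul_assoc, hee, mul_one]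
      obtain ⟨l, D, hl, -⟩ := conj_pure (inv_mem hhW) i S
      have h4 : pe i (U * S) * pe k U' = pe l (D * S * D⁻¹) := by
        rw [← hl, ← h3, map_mul, mul_assoc, ← hee']
        group
      rcases pure_prod (Ne.symm hki) h4 with ⟨c, hc⟩ | ⟨c, hc⟩
      · exact hUS' c hc
      · exact conj_nonscalar hU C c hc
  · exfalso
    obtain ⟨k, C, hk, -⟩ := conj_pure hy₁ i S
    set S' := C * S * C⁻¹ with hS'
    have hee' : e = pe i S * pe k S' := by rw [← hk, h1, ← mul_assoc, hss, one_mul]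
    by_cases hki : k = i
    · subst hki
      rw [← map_mul] at hee'
      obtain ⟨c, -, hc⟩ := hscal (S * S') (Or.inl (hee' ▸ he))
      have h3 : (S' : Mb) = c • (S : Mb) := by
        have h4 : S' = S * (S * S') := by rw [← mul_assoc, sigT_sq hS, one_mul]
        rw [h4, Units.val_mul, hc, Matrix.mul_smul, mul_one]
      rw [sig_scalar hb (hS.conj C) hS h3] at hc
      exact he1 (hee'.trans (pe_scalar_one hc))
    · obtain ⟨l, D, hl, -⟩ := conj_pure hy₂ i U
      have h4 : pe i (U * S) * pe k S' = pe l (D * U * D⁻¹) := by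
        rw [← hl, h2, hee', map_mul, mul_assoc]
      rcases pure_prod (Ne.symm hki) h4 with ⟨c, hc⟩ | ⟨c, hc⟩
      · exact hUS' c hc
      · exact conj_nonscalar hSn C c hc

end Cfsg.Agent.Classical.TensorPow
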