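import Cfsg.Agent.Lib.Classical.TensorPow.Slot

/-!
Ranks of `g - 1` for products of unipotent elements of square zero.
-/

set_option autoImplicit false
set_option linter.unusedSectionVars false

open scoped Kronecker

namespace Cfsg.Agent.Classical.TensorPow

open Matrix Module MaxTv TensorMax

variable {F : Type*} [Field F] [Fintype F] {α β : Type} [Fintype α] [DecidableEq α] [Fintype β] [DecidableEq β]

local notation "Ma" => Matrix α α F
local notation "Mb" => Matrix β β F

theorem slice_kron (C : Ma) (X : Mb) (t : α × β → F) (φ : β → F) :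
    slice φ ((C ⊗ₖ X) *ᵥ t) = C *ᵥ slice (φ ᵥ* X) t := by
  conv_lhs => rw [sum_tmul_basis t]
  conv_rhs => rw [sum_tmul_basis t]
  simp only [Matrix.mulVec_sum, Matrix.mulVec_smul, map_sum, map_smul, kronecker_mulVec, slice_tmul,
    Matrix.dotProduct_mulVec]

theorem eq_zero_of_slice {t : α × β → F} (h : ∀ φ : β → F, slice φ t = 0) : t = 0 := by
  funext ⟨i, j⟩
  have h1 := congrFun (h (Pi.single j 1)) i
  have h2 : slice (Pi.single j 1 : β → F) t i = t (i, j) := by
    show ∑ k, t (i, k) * (Pi.single j (1 : F) : β → F) k = t (i, j)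
    rw [Finset.sum_eq_single j] <;> simp +contextual
  rw [h2] at h1
  exact h1

theorem finrank_ker_mulVec (A : Mb) :
    finrank F (LinearMap.ker (Matrix.toLin' A)) + A.rank = Fintype.card β := by
  rw [Matrix.rank, ← Matrix.toLin'_apply', add_comm, LinearMap.finrank_range_add_finrank_ker,
    Module.finrank_fintype_fun_eq_card]

/-- The product of two unipotent elements of square zero moves many vectors. -/
theorem rank_pair_ge (C : Ma) (X : Mb) (hC : C * C = 0) (hX : X * X = 0) :
    2 * X.rank ≤ Fintype.card β ∧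
      Fintype.card α * X.rank + (Fintype.card β - 2 * X.rank) * C.rank ≤
        (C ⊗ₖ (1 : Mb) + (1 : Ma) ⊗ₖ X + C ⊗ₖ X).rank := by
  classical
  set f := C ⊗ₖ (1 : Mb) + (1 : Ma) ⊗ₖ X + C ⊗ₖ X with hf
  set Y := Matrix.toLin' Xᵀ with hY
  have hY2 : ∀ φ, Y (Y φ) = 0 := fun φ => by
    rw [hY, ← LinearMap.comp_apply, ← Matrix.toLin'_mul, ← Matrix.transpose_mul, hX, Matrix.transpose_zero,
      map_zero, LinearMap.zero_apply]
  obtain ⟨W, hW⟩ := Submodule.exists_isCompl (LinearMap.ker Y)
  obtain ⟨S, hS⟩ := Submodule.exists_isCompl (LinearMap.range Y)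
  set K0 := LinearMap.ker Y ⊓ S with hK0
  set Cl := Matrix.toLin' C with hCl
  have hrY : finrank F (LinearMap.range Y) = X.rank := by
    rw [← Matrix.rank_transpose X, Matrix.rank, hY, Matrix.toLin'_apply']
  have hker : finrank F (LinearMap.ker Y) + X.rank = Fintype.card β := by
    rw [← Matrix.rank_transpose X]; exact finrank_ker_mulVec Xᵀ
  have hW' : finrank F W = X.rank := by
    have h1 := Submodule.finrank_add_eq_of_isCompl hW
    rw [Module.finrank_fintype_fun_eq_card] at h1
    omega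
  have hle : LinearMap.range Y ≤ LinearMap.ker Y := by
    rintro _ ⟨φ, rfl⟩
    exact hY2 φ
  have h2X : 2 * X.rank ≤ Fintype.card β := by
    have := Submodule.finrank_mono hle
    omega
  have hK0' : finrank F K0 = Fintype.card β - 2 * X.rank := by
    have h1 : LinearMap.ker Y ⊔ S = ⊤ := top_le_iff.1 (hS.sup_eq_top ▸ sup_le_sup_right hle S)
    have h2 := Submodule.finrank_sup_add_finrank_inf_eq (LinearMap.ker Y) S
    have h3 := Submodule.finrank_add_eq_of_isCompl hS
    rw [h1, finrank_top, Module.finrank_fintype_fun_eq_card, ← hK0] at h2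
    rw [Module.finrank_fintype_fun_eq_card] at h3
    omega
  let Tl : (α × β → F) → (β → F) →ₗ[F] (α → F) := fun t =>
    { toFun := fun φ => slice φ t
      map_add' := fun a b => slice_add a b t
      map_smul' := fun c a => slice_smul c a t }
  have hTl : ∀ t φ, Tl t φ = slice φ t := fun t φ => rfl
  have heq : ∀ t ∈ LinearMap.ker (Matrix.toLin' f), ∀ φ,
      C *ᵥ slice φ t + slice (Y φ) t + C *ᵥ slice (Y φ) t = 0 := by
    intro t ht φ
    rw [LinearMap.mem_ker, Matrix.toLin'_apply] at ht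
    have h1 := congrArg (slice φ) ht
    rw [hf, Matrix.add_mulVec, Matrix.add_mulVec, map_add, map_add, slice_kron, slice_kron, slice_kron,
      Matrix.vecMul_one, Matrix.one_mulVec, map_zero] at h1
    rwa [hY, Matrix.toLin'_apply, Matrix.mulVec_transpose]
  have hC2 : ∀ x, C *ᵥ (C *ᵥ x) = 0 := fun x => by rw [Matrix.mulVec_mulVec, hC, Matrix.zero_mulVec]
  have hrel : ∀ t ∈ LinearMap.ker (Matrix.toLin' f), ∀ φ, slice (Y φ) t = -(C *ᵥ slice φ t) := by
    intro t ht φ
    have h1 := heq t ht φ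
    have h2 := congrArg (C *ᵥ ·) h1
    simp only [Matrix.mulVec_add, hC2, Matrix.mulVec_zero, zero_add, add_zero] at h2
    rw [h2, add_zero] at h1
    exact eq_neg_of_add_eq_zero_right h1
  let Ψ : LinearMap.ker (Matrix.toLin' f) →ₗ[F] (W →ₗ[F] (α → F)) × (K0 →ₗ[F] LinearMap.ker Cl) :=
    { toFun := fun t => ((Tl t.1).comp W.subtype, LinearMap.codRestrict _ ((Tl t.1).comp K0.subtype) fun k => by
        rw [LinearMap.mem_ker, hCl, Matrix.toLin'_apply, LinearMap.comp_apply, hTl, Submodule.subtype_apply]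
        have h1 := hrel t.1 t.2 k.1
        have hk : Y k.1 = 0 := LinearMap.mem_ker.1 k.2.1
        rw [hk, ← zero_smul F (0 : β → F), slice_smul, zero_smul, eq_comm, neg_eq_zero] at h1
        exact h1)
      map_add' := fun a b => Prod.ext (LinearMap.ext fun w => map_add (slice w.1) a.1 b.1)
        (LinearMap.ext fun k => Subtype.ext (map_add (slice k.1) a.1 b.1))
      map_smul' := fun c a => Prod.ext (LinearMap.ext fun w => map_smul (slice w.1) c a.1)
        (LinearMap.ext fun k => Subtype.ext (map_smul (slice k.1) c a.1)) }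
  have hΨ : Function.Injective Ψ := by
    refine (injective_iff_map_eq_zero Ψ).2 fun t ht => Subtype.ext (eq_zero_of_slice fun φ => ?_)
    have hw : ∀ w ∈ W, slice w t.1 = 0 := fun w hw => LinearMap.congr_fun (congrArg Prod.fst ht) ⟨w, hw⟩
    have hk : ∀ k ∈ K0, slice k t.1 = 0 := fun k hk =>
      congrArg Subtype.val (LinearMap.congr_fun (congrArg Prod.snd ht) ⟨k, hk⟩)
    obtain ⟨u, hu, w, hww, rfl⟩ := Submodule.mem_sup.1 (hW.sup_eq_top ▸ Submodule.mem_top : φ ∈ LinearMap.ker Y ⊔ W)
    obtain ⟨r, hr, k, hks, rfl⟩ := Submodule.mem_sup.1 (hS.sup_eq_top ▸ Submodule.mem_top : u ∈ LinearMap.range Y ⊔ S)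
    have hkk : k ∈ K0 := ⟨by
      have h2 := sub_mem hu (hle hr)
      rwa [add_sub_cancel_left] at h2, hks⟩
    obtain ⟨ψ, rfl⟩ := hr
    obtain ⟨u', hu', w', hw', rfl⟩ := Submodule.mem_sup.1 (hW.sup_eq_top ▸ Submodule.mem_top : ψ ∈ LinearMap.ker Y ⊔ W)
    rw [slice_add, slice_add, hk k hkk, hw w hww, map_add, LinearMap.mem_ker.1 hu', zero_add, hrel t.1 t.2, hw w' hw',
      Matrix.mulVec_zero, neg_zero, add_zero, add_zero]
  have hdim := LinearMap.finrank_le_finrank_of_injective hΨ
  rw [Module.finrank_prod, Module.finrank_linearMap, Module.finrank_linearMap, hW', hK0',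
    Module.finrank_fintype_fun_eq_card] at hdim
  have hkC := finrank_ker_mulVec C
  rw [← hCl] at hkC
  have hkf := finrank_ker_mulVec f
  rw [Fintype.card_prod] at hkf
  have hCr : C.rank ≤ Fintype.card α := C.rank_le_card_width
  refine ⟨h2X, ?_⟩
  have hrC : finrank F (LinearMap.ker Cl) = Fintype.card α - C.rank := by omega
  rw [hrC] at hdim
  obtain ⟨d, hd⟩ : ∃ d, Fintype.card β = 2 * X.rank + d := ⟨Fintype.card β - 2 * X.rank, by omega⟩
  obtain ⟨e, he⟩ : ∃ e, Fintype.card α = C.rank + e := ⟨Fintype.card α - C.rank, by omega⟩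
  rw [hd, Nat.add_sub_cancel_left, he, Nat.add_sub_cancel_left] at hdim
  rw [hd, Nat.add_sub_cancel_left, he]
  rw [hd, he] at hkf
  nlinarith

theorem rank_one_kron (X : Mb) : ((1 : Ma) ⊗ₖ X).rank = Fintype.card α * X.rank := by
  set R := LinearMap.range (Matrix.toLin' X)
  let J : (α → R) →ₗ[F] (α × β → F) :=
    { toFun := fun g p => (g p.1).1 p.2
      map_add' := fun a b => funext fun p => rfl
      map_smul' := fun c a => funext fun p => rfl }
  have hJ : Function.Injective J := fun a b h => funext fun i => Subtype.ext (funext fun j => congrFun h (i, j))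
  have hmv : ∀ (t : α × β → F) (i : α) (j : β), (((1 : Ma) ⊗ₖ X) *ᵥ t) (i, j) = (X *ᵥ fun k => t (i, k)) j := by
    intro t i j
    simp only [Matrix.mulVec, dotProduct, Matrix.kroneckerMap_apply, Fintype.sum_prod_type]
    rw [Finset.sum_eq_single i] <;> simp +contextual [Matrix.one_apply, eq_comm]
  have h : LinearMap.range J = LinearMap.range (Matrix.toLin' ((1 : Ma) ⊗ₖ X)) := by
    ext t
    constructor
    · rintro ⟨g, rfl⟩
      choose w hw using fun i => (g i).2
      refine ⟨fun p => w p.1 p.2, funext fun p => ?_⟩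
      rw [Matrix.toLin'_apply, hmv]
      exact congrFun (hw p.1) p.2
    · rintro ⟨s, rfl⟩
      refine ⟨fun i => ⟨X *ᵥ fun k => s (i, k), ⟨fun k => s (i, k), Matrix.toLin'_apply _ _⟩⟩, funext fun p => ?_⟩
      rw [Matrix.toLin'_apply, hmv]
      rfl
  have h1 := LinearMap.finrank_range_of_inj hJ
  rw [h, Module.finrank_pi_fintype] at h1
  rw [Matrix.rank, ← Matrix.toLin'_apply', h1, Finset.sum_const, Finset.card_univ, smul_eq_mul]
  rfl

/-- Two factors of rank one: the rank is at most five in dimension nine. -/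
theorem rank_pair_le [Nonempty α] [Nonempty β] {c γ : α → F} {u δ : β → F} (hc : c ≠ 0) (hu : u ≠ 0) :
    (vecMulVec c γ ⊗ₖ (1 : Mb) + (1 : Ma) ⊗ₖ vecMulVec u δ + vecMulVec c γ ⊗ₖ vecMulVec u δ).rank + 1 ≤
      Fintype.card α + Fintype.card β := by
  set f := vecMulVec c γ ⊗ₖ (1 : Mb) + (1 : Ma) ⊗ₖ vecMulVec u δ + vecMulVec c γ ⊗ₖ vecMulVec u δ with hf
  let J : (α → F) × (β → F) →ₗ[F] (α × β → F) :=
    { toFun := fun p => tmul p.1 u + tmul c p.2
      map_add' := fun a b => by simp only [Prod.fst_add, Prod.snd_add, tmul_add_left, tmul_add_right]; abel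
      map_smul' := fun r a => by
        simp only [Prod.smul_fst, Prod.smul_snd, tmul_smul_left, tmul_smul_right, smul_add, RingHom.id_apply] }
  have hle : LinearMap.range (Matrix.toLin' f) ≤ LinearMap.range J := by
    rintro _ ⟨t, rfl⟩
    rw [sum_tmul_basis t, map_sum]
    refine Submodule.sum_mem _ fun p _ => ?_
    rw [map_smul]
    refine Submodule.smul_mem _ _ ⟨((δ ⬝ᵥ Pi.single p.2 1) • Pi.single p.1 1,
      (γ ⬝ᵥ Pi.single p.1 1) • (Pi.single p.2 1 + (δ ⬝ᵥ Pi.single p.2 1) • u)), ?_⟩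
    rw [Matrix.toLin'_apply, hf, Matrix.add_mulVec, Matrix.add_mulVec, kronecker_mulVec, kronecker_mulVec,
      kronecker_mulVec, Matrix.one_mulVec, Matrix.one_mulVec, Matrix.vecMulVec_mulVec, Matrix.vecMulVec_mulVec]
    show tmul _ u + tmul c _ = _
    simp only [op_smul_eq_smul, tmul_smul_left, tmul_smul_right, tmul_add_right, smul_add, smul_smul]
    module
  have h1 := Submodule.finrank_mono hle
  have h2 := J.finrank_range_add_finrank_ker
  have h3 : 1 ≤ finrank F (LinearMap.ker J) := by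
    rw [Nat.one_le_iff_ne_zero]
    intro e
    have hm : ((-c, u) : (α → F) × (β → F)) ∈ LinearMap.ker J := by
      rw [LinearMap.mem_ker]
      show tmul (-c) u + tmul c u = 0
      rw [← tmul_add_left, neg_add_cancel, tmul_zero_left]
    rw [Submodule.finrank_eq_zero.1 e, Submodule.mem_bot, Prod.mk_eq_zero] at hm
    exact hu hm.2
  rw [Module.finrank_prod, Module.finrank_fintype_fun_eq_card, Module.finrank_fintype_fun_eq_card] at h2
  rw [Matrix.rank, ← Matrix.toLin'_apply']
  omega

theorem eq_vmv_of_rank_one {X : Mb} (h : X.rank = 1) :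
    ∃ v φ : β → F, v ≠ 0 ∧ φ ≠ 0 ∧ X = vecMulVec v φ := by
  rw [Matrix.rank, ← Matrix.toLin'_apply'] at h
  obtain ⟨v, hv0, hv⟩ := finrank_eq_one_iff'.1 h
  choose φ hφ using fun j => hv ⟨X *ᵥ Pi.single j 1, ⟨_, Matrix.toLin'_apply _ _⟩⟩
  have hX : X = vecMulVec v.1 φ := by
    refine Matrix.ext fun i j => ?_
    have h1 := congrFun (congrArg Subtype.val (hφ j)) i
    simp only [Submodule.coe_smul, Pi.smul_apply, smul_eq_mul, Matrix.mulVec_single_one, Matrix.col_apply] at h1
    rw [Matrix.vecMulVec_apply, mul_comm, h1]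
  refine ⟨v.1, φ, fun e => hv0 (Subtype.ext e), fun e => ?_, hX⟩
  rw [e, Matrix.vecMulVec_zero] at hX
  obtain ⟨w, hw⟩ := v.2
  apply hv0
  refine Subtype.ext ?_
  rw [← hw, hX, map_zero]
  rfl

end Cfsg.Agent.Classical.TensorPow
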