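import Cfsg.Agent.Lib.Classical.TensorPow.Algebra
import Cfsg.Agent.Lib.Classical.TensorPow.RankBase

/-!
Elements of the stabiliser with small quadratic displacement: transvections at one factor, with one exception.
-/

set_option autoImplicit false
set_option linter.unusedSectionVars false

open scoped Kronecker

namespace Cfsg.Agent.Classical.TensorPow

open Matrix Module MaxTv TensorMax

variable {F : Type*} [Field F] [Fintype F] {κ β : Type} [Fintype κ] [DecidableEq κ] [Fintype β] [DecidableEq β]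

local notation "X" => (κ → β)
local notation "Mn" => Matrix (κ → β) (κ → β) F
local notation "Mb" => Matrix β β F

/-- A transvection at the factor `i`. -/
def IsTv (i : κ) (z : GL (κ → β) F) : Prop :=
  ∃ (v φ : β → F) (A : GL β F), v ≠ 0 ∧ φ ≠ 0 ∧ φ ⬝ᵥ v = 0 ∧
    (A : Matrix β β F) = 1 + vecMulVec v φ ∧ z = pe i A

theorem dot_ptens (ξ ys : κ → β → F) : ptens ξ ⬝ᵥ ptens ys = ∏ l, ξ l ⬝ᵥ ys l := by
  rw [dotProduct]
  simp only [ptens, ← Finset.prod_mul_distrib]
  exact sum_prod_perm 1 fun l b => ξ l b * ys l b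

/-- A quadratic element permutes the factors by an involution. -/
theorem perm_sq_eq_one (hb : 3 ≤ Fintype.card β) {σ : Equiv.Perm κ} {gs : κ → GL β F}
    (h : ((wgl σ gs : Mn) - 1) * ((wgl σ gs : Mn) - 1) = 0) : σ * σ = 1 := by
  refine Equiv.ext fun l => ?_
  show σ (σ l) = l
  by_contra hl
  set a := σ (σ l) with ha
  set b := σ a with hb'
  have hσl : σ l ≠ l := fun e => hl (by rw [ha, e, e])
  have hab : a ≠ b := fun e => hσl (σ.injective (σ.injective (e.trans hb')).symm).symm.symm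
  obtain ⟨u, hu⟩ : ∃ u : β → F, u ≠ 0 := by
    obtain ⟨b₀⟩ : Nonempty β := Fintype.card_pos_iff.1 (by omega)
    exact ⟨Pi.single b₀ 1, by simp⟩
  set p := (gs l : Mb) *ᵥ ((gs (σ l) : Mb) *ᵥ u) with hp
  set q := (((gs a)⁻¹ : GL β F) : Mb) *ᵥ u with hq
  obtain ⟨φ, hφ, hφp, hφq⟩ := exists_perp2 hb p q
  obtain ⟨w, hw⟩ := exists_dual hφ
  rw [dotProduct_comm] at hw
  have hw0 : w ≠ 0 := fun e => by rw [e, dotProduct_zero] at hw; exact zero_ne_one hw
  set xs : κ → β → F := Function.update (fun _ => w) a u with hxs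
  have hxl : xs l = w := Function.update_of_ne (Ne.symm hl) _ _
  have hxb : xs b = w := Function.update_of_ne (Ne.symm hab) _ _
  have hxa : xs a = u := Function.update_self _ _ _
  have hxne : ∀ k, xs k ≠ 0 := fun k => by
    by_cases e : k = a
    · rw [e, hxa]; exact hu
    · rw [hxs, Function.update_of_ne e]; exact hw0
  set z1 : κ → β → F := fun k => (gs k : Mb) *ᵥ xs (σ k) with hz1
  set z2 : κ → β → F := fun k => (gs k : Mb) *ᵥ z1 (σ k) with hz2
  have hz2ne : ∀ k, z2 k ≠ 0 := fun k => gl_mulVec_ne_zero _ (gl_mulVec_ne_zero _ (hxne _))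
  have h1 : ∃ ξ, ξ ⬝ᵥ xs l = 0 ∧ ξ ⬝ᵥ z2 l = 1 := by
    have hn : z2 l ∉ (F ∙ xs l) := fun hm => by
      obtain ⟨c, hc⟩ := Submodule.mem_span_singleton.1 hm
      have h2 : z2 l = p := by
        show (gs l : Mb) *ᵥ ((gs (σ l) : Mb) *ᵥ xs a) = p
        rw [hxa]
      rw [hxl, h2] at hc
      have h3 : φ ⬝ᵥ (c • w) = 0 := by rw [hc]; exact hφp
      rw [dotProduct_smul, hw, smul_eq_mul, mul_one] at h3
      rw [h3, zero_smul] at hc
      exact hz2ne l (h2.trans hc.symm)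
    obtain ⟨ξ, e1, e0⟩ := exists_dot_one hn
    exact ⟨ξ, e0 _ (Submodule.mem_span_singleton_self _), e1⟩
  have h2 : ∃ ξ, ξ ⬝ᵥ z1 (σ l) = 0 ∧ ξ ⬝ᵥ z2 (σ l) = 1 := by
    have hn : z2 (σ l) ∉ (F ∙ z1 (σ l)) := fun hm => by
      obtain ⟨c, hc⟩ := Submodule.mem_span_singleton.1 hm
      have e2 : z2 (σ l) = (gs (σ l) : Mb) *ᵥ ((gs a : Mb) *ᵥ w) := by
        show (gs (σ l) : Mb) *ᵥ ((gs a : Mb) *ᵥ xs b) = _
        rw [hxb]
      have e1 : z1 (σ l) = (gs (σ l) : Mb) *ᵥ u := by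
        show (gs (σ l) : Mb) *ᵥ xs a = _
        rw [hxa]
      rw [e1, e2, ← Matrix.mulVec_smul] at hc
      have h3 := gl_mulVec_injective (gs (σ l)) hc
      have h4 : c • q = w := by
        rw [hq, ← Matrix.mulVec_smul, h3, Matrix.mulVec_mulVec, ← Units.val_mul, inv_mul_cancel, Units.val_one,
          Matrix.one_mulVec]
      rw [← h4, dotProduct_smul, hφq, smul_zero] at hw
      exact zero_ne_one hw
    obtain ⟨ξ, e1, e0⟩ := exists_dot_one hn
    exact ⟨ξ, e0 _ (Submodule.mem_span_singleton_self _), e1⟩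
  obtain ⟨ξ1, hξ1, hξ1'⟩ := h1
  obtain ⟨ξ2, hξ2, hξ2'⟩ := h2
  choose ξ0 hξ0 using fun k => exists_dual (hz2ne k)
  let ξ : κ → β → F := Function.update (Function.update ξ0 (σ l) ξ2) l ξ1
  have e := congrArg (fun L : Mn => ptens ξ ⬝ᵥ (L *ᵥ ptens xs)) h
  simp only [Matrix.zero_mulVec, dotProduct_zero, ← Matrix.mulVec_mulVec, Matrix.sub_mulVec, Matrix.one_mulVec,
    Matrix.mulVec_sub, wgl_mulVec, dotProduct_sub, dot_ptens] at e
  have ea : ∏ k, ξ k ⬝ᵥ xs k = 0 := Finset.prod_eq_zero (Finset.mem_univ l) (by simp [ξ, hξ1])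
  have eb : ∏ k, ξ k ⬝ᵥ z1 k = 0 := Finset.prod_eq_zero (Finset.mem_univ (σ l)) (by simp [ξ, hξ2, hσl])
  have ec : ∏ k, ξ k ⬝ᵥ z2 k = 1 := Finset.prod_eq_one fun k _ => by
    by_cases e1 : k = l
    · subst e1; simp [ξ, hξ1']
    by_cases e2 : k = σ l
    · subst e2; simp [ξ, hξ2', hσl]
    simp [ξ, e1, e2, hξ0]
  change ∏ k, ξ k ⬝ᵥ z2 k - ∏ k, ξ k ⬝ᵥ z1 k - (∏ k, ξ k ⬝ᵥ z1 k - ∏ k, ξ k ⬝ᵥ xs k) = 0 at e
  rw [ea, eb, ec] at e
  simp at e

theorem wgl_pow {σ : Equiv.Perm κ} {gs : κ → GL β F} (k : ℕ) :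
    ∃ hs : κ → GL β F, wgl σ gs ^ k = wgl (σ ^ k) hs := by
  induction k with
  | zero => exact ⟨1, by rw [pow_zero, pow_zero, wgl_one]⟩
  | succ k ih =>
    obtain ⟨hs, h⟩ := ih
    exact ⟨_, by rw [pow_succ', h, wgl_mul, pow_succ]⟩

theorem wgl_one_pow {gs : κ → GL β F} (k : ℕ) : wgl 1 gs ^ k = wgl 1 (gs ^ k) := by
  induction k with
  | zero => rw [pow_zero, pow_zero, wgl_one]
  | succ k ih =>
    rw [pow_succ, ih, wgl_mul, mul_one, pow_succ]
    rfl

/-- A quadratic element has the order of the characteristic. -/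
theorem pow_char_eq_one {ι : Type} [Fintype ι] [DecidableEq ι] [Nonempty ι] (p : ℕ) [Fact p.Prime] [CharP F p]
    {z : GL ι F} (h : ((z : Matrix ι ι F) - 1) * ((z : Matrix ι ι F) - 1) = 0) : z ^ p = 1 := by
  refine Units.ext ?_
  have h1 : ((z : Matrix ι ι F) - 1) ^ p = 0 := by
    obtain ⟨k, hk⟩ : ∃ k, p = k + 2 := ⟨p - 2, by have := (Fact.out : p.Prime).two_le; omega⟩
    rw [hk, pow_add, pow_two, h, mul_zero]
  rw [sub_pow_char_of_commute (p := p) (Commute.one_right _), one_pow, sub_eq_zero] at h1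
  rw [Units.val_pow_eq_pow_val, h1, Units.val_one]

theorem rank_conj_sub {ι : Type} [Fintype ι] [DecidableEq ι] (g h : GL ι F) (c : F) :
    (((h⁻¹ * g * h : GL ι F) : Matrix ι ι F) - c • 1).rank = ((g : Matrix ι ι F) - c • 1).rank := by
  have e : ((h⁻¹ * g * h : GL ι F) : Matrix ι ι F) - c • 1 =
      ((h⁻¹ : GL ι F) : Matrix ι ι F) * ((g : Matrix ι ι F) - c • 1) * (h : Matrix ι ι F) := by
    rw [Matrix.mul_sub, Matrix.sub_mul, Matrix.mul_smul, Matrix.smul_mul, Matrix.mul_one, ← Units.val_mul,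
      ← Units.val_mul, ← Units.val_mul, inv_mul_cancel, Units.val_one]
  rw [e, Matrix.rank_mul_eq_left_of_isUnit_det _ _ (by
    exact (Matrix.isUnit_iff_isUnit_det _).1 h.isUnit), Matrix.rank_mul_eq_right_of_isUnit_det _ _ (by
    exact (Matrix.isUnit_iff_isUnit_det _).1 (h⁻¹).isUnit)]

theorem rank_sub_smul_one {ι : Type} [Fintype ι] [DecidableEq ι] (M : Matrix ι ι F) :
    M - (1 : F) • (1 : Matrix ι ι F) = M - 1 := by rw [one_smul]

theorem rank_add_le' {ι : Type} [Fintype ι] [DecidableEq ι] (A B : Matrix ι ι F) :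
    (A + B).rank ≤ A.rank + B.rank := by
  have h : LinearMap.range (A + B).mulVecLin ≤ LinearMap.range A.mulVecLin ⊔ LinearMap.range B.mulVecLin := by
    rintro _ ⟨x, rfl⟩
    rw [Matrix.mulVecLin_add, LinearMap.add_apply]
    exact Submodule.add_mem_sup ⟨x, rfl⟩ ⟨x, rfl⟩
  refine (Submodule.finrank_mono h).trans ?_
  have := Submodule.finrank_sup_add_finrank_inf_eq (LinearMap.range A.mulVecLin) (LinearMap.range B.mulVecLin)
  rw [Matrix.rank, Matrix.rank]
  omega

theorem rank_zero_iff {ι : Type} [Fintype ι] [DecidableEq ι] (A : Matrix ι ι F) : A.rank = 0 ↔ A = 0 := by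
  refine ⟨fun h => ?_, fun h => by rw [h, Matrix.rank_zero]⟩
  rw [Matrix.rank, Submodule.finrank_eq_zero, LinearMap.range_eq_bot] at h
  refine Matrix.ext_iff_mulVec.2 fun v => ?_
  rw [Matrix.zero_mulVec, ← Matrix.mulVecLin_apply, h, LinearMap.zero_apply]

/-- The moved factors. -/
abbrev Mv (σ : Equiv.Perm κ) : Type := {l : κ // σ l ≠ l}

/-- An order on the values at moved factors. -/
noncomputable def key (σ : Equiv.Perm κ) (x : κ → β) : ℕ :=
  (Fintype.equivFin (Mv σ → β) (fun l => x l.1)).val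

/-- The chosen half. -/
noncomputable def halfY (σ : Equiv.Perm κ) : Finset (κ → β) :=
  Finset.univ.filter fun x => key σ x < key σ (x ∘ σ)

/-- The fixed points. -/
def fixZ (σ : Equiv.Perm κ) : Finset (κ → β) := Finset.univ.filter fun x => x ∘ σ = x

theorem sq_apply {σ : Equiv.Perm κ} (hσ : σ * σ = 1) (l : κ) : σ (σ l) = l := by
  rw [← Equiv.Perm.mul_apply, hσ, Equiv.Perm.one_apply]

theorem comp_comp_self {σ : Equiv.Perm κ} (hσ : σ * σ = 1) (x : X) : (x ∘ σ) ∘ σ = x :=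
  funext fun l => by simp [sq_apply hσ]

theorem key_eq_iff {σ : Equiv.Perm κ} (x : X) : key σ x = key σ (x ∘ σ) ↔ x ∘ σ = x := by
  refine ⟨fun h => funext fun l => ?_, fun h => by rw [h]⟩
  by_cases hl : σ l = l
  · rw [Function.comp_apply, hl]
  · exact (congrFun ((Fintype.equivFin (Mv σ → β)).injective (Fin.ext h)) ⟨l, hl⟩).symm

theorem card_halves {σ : Equiv.Perm κ} (hσ : σ * σ = 1) :
    2 * (halfY (β := β) σ).card + (fixZ (β := β) σ).card = Fintype.card (κ → β) := by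
  have h1 : (Finset.univ.filter fun x : X => key σ (x ∘ σ) < key σ x).card = (halfY (β := β) σ).card := by
    refine Finset.card_bij' (fun x _ => x ∘ σ) (fun x _ => x ∘ σ) ?_ ?_ ?_ ?_ <;> intro x hx <;>
      simp_all [halfY, comp_comp_self hσ]
  have h2 : (Finset.univ.filter fun x : X => key σ x < key σ (x ∘ σ)).card +
      (Finset.univ.filter fun x : X => ¬ key σ x < key σ (x ∘ σ)).card = Fintype.card X := by
    rw [Finset.card_filter_add_card_filter_not, Finset.card_univ]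
  have h3 := Finset.card_filter_add_card_filter_not (s := Finset.univ.filter fun x : X => ¬ key σ x < key σ (x ∘ σ))
    (fun x : X => x ∘ σ = x)
  have h4 : ((Finset.univ.filter fun x : X => ¬ key σ x < key σ (x ∘ σ)).filter fun x => x ∘ σ = x) = fixZ σ := by
    ext x
    simp only [Finset.mem_filter, Finset.mem_univ, true_and, fixZ]
    exact ⟨fun h => h.2, fun h => ⟨by rw [h]; exact lt_irrefl _, h⟩⟩
  have h5 : ((Finset.univ.filter fun x : X => ¬ key σ x < key σ (x ∘ σ)).filter fun x => ¬ x ∘ σ = x) =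
      Finset.univ.filter fun x : X => key σ (x ∘ σ) < key σ x := by
    ext x
    simp only [Finset.mem_filter, Finset.mem_univ, true_and, not_lt]
    exact ⟨fun h => lt_of_le_of_ne h.1 fun e => h.2 ((key_eq_iff x).1 e.symm),
      fun h => ⟨h.le, fun e => absurd h (by rw [e]; exact lt_irrefl _)⟩⟩
  rw [h4, h5, h1] at h3
  rw [halfY] at *
  omega

theorem card_fixZ_le {σ : Equiv.Perm κ} {l : κ} (hl : σ l ≠ l) :
    (fixZ (β := β) σ).card ≤ Fintype.card β ^ (Fintype.card κ - 1) := by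
  rw [← card_rst (β := β) l, ← Finset.card_univ]
  refine Finset.card_le_card_of_injOn (fun x j => x j.1) (by simp) fun x hx y hy h => ?_
  simp only [Finset.mem_coe, fixZ, Finset.mem_filter, Finset.mem_univ, true_and] at hx hy
  funext k
  by_cases e : k = l
  · subst e
    rw [← congrFun hx k, ← congrFun hy k]
    exact congrFun h ⟨σ k, hl⟩
  · exact congrFun h ⟨k, e⟩

theorem card_fixZ_le_two {σ : Equiv.Perm κ} (hσ : σ * σ = 1) {l l' : κ} (hl : σ l ≠ l) (hl' : σ l' ≠ l')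
    (h1 : l' ≠ l) (h2 : l' ≠ σ l) :
    (fixZ (β := β) σ).card ≤ Fintype.card β ^ (Fintype.card κ - 2) := by
  have hc : Fintype.card {j : κ // j ∉ ({l, l'} : Finset κ)} = Fintype.card κ - 2 := by
    rw [Fintype.card_subtype_compl, Fintype.card_coe, Finset.card_pair (Ne.symm h1)]
  rw [← hc, ← Fintype.card_fun, ← Finset.card_univ]
  refine Finset.card_le_card_of_injOn (fun x j => x j.1) (by simp) fun x hx y hy h => ?_
  simp only [Finset.mem_coe, fixZ, Finset.mem_filter, Finset.mem_univ, true_and] at hx hy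
  have hs : σ l ∉ ({l, l'} : Finset κ) := by simp [hl, Ne.symm h2]
  have hs' : σ l' ∉ ({l, l'} : Finset κ) := by
    simp only [Finset.mem_insert, Finset.mem_singleton, hl', or_false]
    exact fun e => h2 (by rw [← e, sq_apply hσ])
  funext k
  by_cases e : k = l
  · subst e
    rw [← congrFun hx k, ← congrFun hy k]
    exact congrFun h ⟨σ k, hs⟩
  by_cases e' : k = l'
  · subst e'
    rw [← congrFun hx k, ← congrFun hy k]
    exact congrFun h ⟨σ k, hs'⟩
  exact congrFun h ⟨k, by simp [e, e']⟩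

/-- An involution is monomial at the moved factors after a conjugation by a pure element. -/
theorem exists_mono [Nontrivial β] {σ : Equiv.Perm κ} {gs : κ → GL β F} (hσ : σ * σ = 1)
    (hz : wgl σ gs * wgl σ gs = 1) : ∃ (h gs' : κ → GL β F),
    (wgl 1 h)⁻¹ * wgl σ gs * wgl 1 h = wgl σ gs' ∧ (∀ l, σ l ≠ l → ∃ c : F, (gs' l : Mb) = c • 1) ∧
      ∀ l, σ l = l → gs' l = gs l := by
  classical
  set e := Fintype.equivFin κ
  let h : κ → GL β F := fun l => if e (σ l) < e l then gs l else 1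
  rw [wgl_mul] at hz
  obtain ⟨-, hsc⟩ := wgl_eq_one hz
  refine ⟨h, fun l => (h l)⁻¹ * gs l * h (σ l), ?_, fun l hl => ?_, fun l hl => ?_⟩
  · rw [wgl_inv, inv_one, wgl_mul, wgl_mul]
    simp
  · have hne : e (σ l) ≠ e l := fun h => hl (e.injective h)
    rcases lt_or_gt_of_ne hne with hlt | hgt
    · refine ⟨1, ?_⟩
      simp only [h, if_pos hlt, sq_apply hσ, if_neg (asymm hlt)]
      simp
    · obtain ⟨c, hc⟩ := hsc l
      refine ⟨c, ?_⟩
      simp only [h, sq_apply hσ, if_pos hgt, if_neg (asymm hgt), inv_one, one_mul]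
      exact hc
  · simp [h, hl]

theorem mono_entry {σ : Equiv.Perm κ} {gs : κ → GL β F} (hσ : σ * σ = 1)
    (hmv : ∀ l, σ l ≠ l → ∃ c : F, (gs l : Mb) = c • 1) {x y : X} (h : (wgl σ gs : Mn) x y ≠ 0) :
    key σ y = key σ (x ∘ σ) ∧ key σ (y ∘ σ) = key σ x := by
  have h1 : ∀ l, σ l ≠ l → y (σ l) = x l := fun l hl => by
    obtain ⟨c, hc⟩ := hmv l hl
    by_contra hne
    refine h ?_
    rw [wgl_val, wm, Matrix.of_apply]
    refine Finset.prod_eq_zero (Finset.mem_univ l) ?_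
    rw [hc, Matrix.smul_apply, Matrix.one_apply_ne (Ne.symm hne), smul_zero]
  constructor <;> simp only [key] <;> congr 2 <;> funext l
  · show y l.1 = x (σ l.1)
    have h2 := h1 (σ l.1) (fun e => l.2 (σ.injective e))
    rwa [sq_apply hσ] at h2
  · exact h1 l.1 l.2

theorem card_halfY_le_rank_mono {σ : Equiv.Perm κ} {gs : κ → GL β F} (hσ : σ * σ = 1)
    (hmv : ∀ l, σ l ≠ l → ∃ c : F, (gs l : Mb) = c • 1) {c : F} (hc : c ≠ 0) :
    (halfY (β := β) σ).card ≤ ((wgl σ gs : Mn) - c • 1).rank := by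
  set Y := halfY (β := β) σ
  have hsub : (((wgl σ gs : Mn) - c • 1).submatrix (fun y : Y => y.1) (fun y : Y => y.1)) =
      (-c) • (1 : Matrix Y Y F) := by
    ext x y
    have hz : (wgl σ gs : Mn) x.1 y.1 = 0 := by
      by_contra hne
      obtain ⟨h1, h2⟩ := mono_entry hσ hmv hne
      have hx := (Finset.mem_filter.1 x.2).2
      have hy := (Finset.mem_filter.1 y.2).2
      omega
    rw [Matrix.submatrix_apply, Matrix.sub_apply, hz, zero_sub, Matrix.smul_apply, Matrix.smul_apply, smul_eq_mul,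
      smul_eq_mul, Matrix.one_apply, Matrix.one_apply]
    by_cases e : x = y
    · subst e; simp
    · rw [if_neg e, if_neg fun h => e (Subtype.ext h)]; simp
  have h1 := ((wgl σ gs : Mn) - c • 1).rank_submatrix_le (fun y : Y => y.1) (fun y : Y => y.1)
  rw [hsub, Matrix.rank_of_isUnit _ (by
    rw [Matrix.isUnit_iff_isUnit_det, Matrix.det_smul, Matrix.det_one, mul_one]
    exact (isUnit_iff_ne_zero.2 (pow_ne_zero _ (neg_ne_zero.2 hc)))), Fintype.card_coe] at h1
  exact h1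

/-- An involution moving factors moves many vectors. -/
theorem card_halfY_le_rank [Nontrivial β] {σ : Equiv.Perm κ} {gs : κ → GL β F} (hσ : σ * σ = 1)
    (hz : wgl σ gs * wgl σ gs = 1) {c : F} (hc : c ≠ 0) :
    (halfY (β := β) σ).card ≤ ((wgl σ gs : Mn) - c • 1).rank := by
  obtain ⟨h, gs', he, hmv, -⟩ := exists_mono hσ hz
  rw [← rank_conj_sub (wgl σ gs) (wgl 1 h) c, he]
  exact card_halfY_le_rank_mono hσ hmv hc

theorem exists_unip [Nonempty β] (p : ℕ) [Fact p.Prime] [CharP F p] {B : GL β F} {c : F}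
    (h : (B : Mb) ^ p = c • 1) :
    ∃ (d : F) (N : Mb), d ≠ 0 ∧ (B : Mb) = d • (1 + N) ∧ N ^ p = 0 := by
  haveI : ExpChar F p := ExpChar.prime Fact.out
  haveI : PerfectRing F p := PerfectRing.ofFiniteOfIsReduced p F
  obtain ⟨d, hd⟩ := surjective_frobenius F p c
  rw [frobenius_def] at hd
  have hd0 : d ≠ 0 := fun e => by
    rw [e, zero_pow (Fact.out : p.Prime).ne_zero] at hd
    rw [← hd, zero_smul] at h
    exact Units.ne_zero (B ^ p) (by rw [Units.val_pow_eq_pow_val, h])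
  refine ⟨d, d⁻¹ • (B : Mb) - 1, hd0, ?_, ?_⟩
  · rw [add_sub_cancel, smul_smul, mul_inv_cancel₀ hd0, one_smul]
  · rw [sub_pow_char_of_commute (p := p) (Commute.one_right _), one_pow, _root_.smul_pow, h, smul_smul, inv_pow, hd,
      inv_mul_cancel₀, one_smul, sub_self]
    rw [← hd]; exact pow_ne_zero _ hd0

theorem kron_pow {α : Type} [Fintype α] [DecidableEq α] (A : Matrix α α F) (B : Mb) (k : ℕ) :
    (A ⊗ₖ B) ^ k = (A ^ k) ⊗ₖ (B ^ k) := by
  induction k with
  | zero => rw [pow_zero, pow_zero, pow_zero, Matrix.one_kronecker_one]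
  | succ k ih => rw [pow_succ, ih, ← Matrix.mul_kronecker_mul, pow_succ, pow_succ]

theorem exists_ker_of_pow {ι : Type} [Fintype ι] [DecidableEq ι] {N : Matrix ι ι F} {k : ℕ} [Nonempty ι]
    (h : N ^ k = 0) : ∃ y, y ≠ 0 ∧ N *ᵥ y = 0 := by
  refine Matrix.exists_mulVec_eq_zero_iff.2 ?_
  have h1 := congrArg Matrix.det h
  rw [Matrix.det_pow, Matrix.det_zero] at h1
  exact eq_zero_of_pow_eq_zero h1

/-- The case without permutation. -/
theorem isTv_of_base (hb : 3 ≤ Fintype.card β) [Nonempty κ] {gs : κ → GL β F}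
    (h2 : ((wgl 1 gs : Mn) - 1) * ((wgl 1 gs : Mn) - 1) = 0)
    (hr : ((wgl 1 gs : Mn) - 1).rank = Fintype.card β ^ (Fintype.card κ - 1)) :
    ∃ i, IsTv i (wgl 1 gs) := by
  classical
  haveI : Nonempty β := Fintype.card_pos_iff.1 (by omega)
  haveI : Nontrivial β := Fintype.one_lt_card_iff_nontrivial.1 (by omega)
  obtain ⟨p, hp⟩ := CharP.exists F
  haveI : Fact p.Prime := ⟨CharP.char_is_prime F p⟩
  have hzp := pow_char_eq_one p h2
  rw [wgl_one_pow] at hzp
  obtain ⟨-, hsc⟩ := wgl_eq_one hzp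
  by_cases hns : ∀ l, ∃ c : F, (gs l : Mb) = c • 1
  · exfalso
    choose c hc using hns
    have hM : (wgl 1 gs : Mn) = (∏ l, c l) • 1 := by
      ext x y
      rw [wgl_val, wm, Matrix.of_apply, Matrix.smul_apply, smul_eq_mul]
      simp only [hc, Matrix.smul_apply, smul_eq_mul, Finset.prod_mul_distrib, Equiv.Perm.coe_one, id_eq]
      rw [← wm_one, wm, Matrix.of_apply]
      rfl
    rw [hM, show (∏ l, c l) • (1 : Mn) - 1 = ((∏ l, c l) - 1) • 1 by rw [sub_smul, one_smul]] at h2 hr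
    rw [Matrix.smul_mul, Matrix.one_mul, smul_smul, smul_eq_zero] at h2
    have h0 : ((∏ l, c l) - 1) = 0 := by
      rcases h2 with h2 | h2
      · exact mul_self_eq_zero.1 h2
      · exact absurd h2 one_ne_zero
    rw [h0, zero_smul, Matrix.rank_zero] at hr
    exact absurd hr.symm (pow_ne_zero _ (by omega))
  push Not at hns
  obtain ⟨i, hi⟩ := hns
  obtain ⟨c, hc⟩ := hsc i
  rw [Pi.pow_apply, Units.val_pow_eq_pow_val] at hc
  obtain ⟨d, N, hd, hB, hN⟩ := exists_unip p hc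
  set z := wgl 1 gs with hz
  set A₀ := wgl (rperm (i := i) (1 : Equiv.Perm κ) rfl) (fun j : Rst i => gs j.1)
  set C : Matrix (Rst i → β) (Rst i → β) F := d • (A₀ : Matrix _ _ F) - 1
  have hK : (sp i z : Matrix _ _ F) = (1 + C) ⊗ₖ (1 + N) := by
    rw [hz, sp_wgl (1 : Equiv.Perm κ) rfl, k2_val, hB, Matrix.kronecker_smul, add_sub_cancel, Matrix.smul_kronecker]
  set f := C ⊗ₖ (1 : Mb) + (1 : Matrix (Rst i → β) (Rst i → β) F) ⊗ₖ N + C ⊗ₖ N with hf
  have hf1 : Matrix.reindex (spE i) (spE i) ((z : Mn) - 1) = f := by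
    have e : Matrix.reindex (spE i) (spE i) ((z : Mn) - 1) = (sp i z : Matrix _ _ F) - 1 := by
      ext a b
      rw [sp_val]
      simp [Matrix.one_apply]
    rw [e]
    rw [hK, Matrix.add_kronecker, Matrix.kronecker_add, Matrix.kronecker_add, Matrix.one_kronecker_one, hf]
    abel
  have hfr : f.rank = Fintype.card β ^ (Fintype.card κ - 1) := by rw [← hf1, Matrix.rank_reindex, hr]
  have hff : f * f = 0 := by
    rw [← hf1, Matrix.reindex_apply, Matrix.submatrix_mul_equiv, h2]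
    rfl
  have hN1 : (1 + N) ^ p = 1 := by
    rw [add_pow_char_of_commute (p := p) (Commute.one_left _), one_pow, hN, add_zero]
  have hC1 : (1 + C) ^ p = 1 := by
    have h1 : ((sp i z) ^ p : GL ((Rst i → β) × β) F) = 1 := by
      rw [← map_pow, hz, wgl_one_pow, hzp, map_one]
    have h2' := congrArg Units.val h1
    rw [Units.val_pow_eq_pow_val, Units.val_one, hK, kron_pow, hN1] at h2'
    obtain ⟨b₀⟩ := ‹Nonempty β›
    refine Matrix.ext fun x y => ?_
    have h3 := congrFun (congrFun h2' (x, b₀)) (y, b₀)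
    simpa [Matrix.one_apply] using h3
  have hCp : C ^ p = 0 := by
    rw [add_pow_char_of_commute (p := p) (Commute.one_left _), one_pow] at hC1
    exact add_eq_left.1 hC1
  have hN0 : N ≠ 0 := fun e => hi d (by rw [hB, e, add_zero])
  obtain ⟨y, hy0, hy⟩ := exists_ker_of_pow hN
  obtain ⟨x, hx0, hx⟩ := exists_ker_of_pow hCp
  have hfy : ∀ u, f *ᵥ tmul u y = tmul (C *ᵥ u) y := fun u => by
    rw [hf, Matrix.add_mulVec, Matrix.add_mulVec, kronecker_mulVec, kronecker_mulVec, kronecker_mulVec, hy,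
      Matrix.one_mulVec, tmul_zero_right, tmul_zero_right, add_zero, add_zero]
  have hfx : ∀ u, f *ᵥ tmul x u = tmul x (N *ᵥ u) := fun u => by
    rw [hf, Matrix.add_mulVec, Matrix.add_mulVec, kronecker_mulVec, kronecker_mulVec, kronecker_mulVec, hx,
      Matrix.one_mulVec, tmul_zero_left, tmul_zero_left, zero_add, add_zero, Matrix.one_mulVec]
  have hC2 : C * C = 0 := Matrix.ext_iff_mulVec.2 fun u => by
    have h1 := congrArg (· *ᵥ tmul u y) hff
    simp only [← Matrix.mulVec_mulVec, Matrix.zero_mulVec, hfy] at h1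
    rw [Matrix.zero_mulVec, ← Matrix.mulVec_mulVec]
    exact fac_injective hy0 (h1.trans (tmul_zero_left y).symm)
  have hN2 : N * N = 0 := Matrix.ext_iff_mulVec.2 fun u => by
    have h1 := congrArg (· *ᵥ tmul x u) hff
    simp only [← Matrix.mulVec_mulVec, Matrix.zero_mulVec, hfx] at h1
    rw [Matrix.zero_mulVec, ← Matrix.mulVec_mulVec]
    by_contra hne
    exact tmul_ne_zero hx0 hne h1
  obtain ⟨h2N, hge⟩ := rank_pair_ge C N hC2 hN2
  rw [← hf, hfr, card_rst] at hge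
  have hNr : 1 ≤ N.rank := by
    rw [Nat.one_le_iff_ne_zero, Ne, rank_zero_iff]
    exact hN0
  have hr1 : N.rank = 1 := by
    have h1 : Fintype.card β ^ (Fintype.card κ - 1) * N.rank ≤ Fintype.card β ^ (Fintype.card κ - 1) * 1 := by
      rw [mul_one]; exact (Nat.le_add_right _ _).trans hge
    have := Nat.le_of_mul_le_mul_left h1 (pow_pos (by omega) _)
    omega
  have hC0 : C = 0 := by
    by_contra hne
    have h1 : 1 ≤ C.rank := by
      rw [Nat.one_le_iff_ne_zero, Ne, rank_zero_iff]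
      exact hne
    have h3 : 1 ≤ (Fintype.card β - 2 * N.rank) * C.rank := Nat.mul_pos (by omega) h1
    rw [hr1] at h3
    rw [hr1, mul_one] at hge
    omega
  obtain ⟨v, φ, hv, hφ, hNv⟩ := eq_vmv_of_rank_one hr1
  have hφv : φ ⬝ᵥ v = 0 := by
    rw [hNv, vmv_mul, smul_eq_zero] at hN2
    exact hN2.resolve_right (vmv_ne_zero hv hφ)
  obtain ⟨T, hT⟩ := exists_tv hφv
  refine ⟨i, v, φ, T, hv, hφ, hφv, tv_val hT, (sp i).injective (Units.ext ?_)⟩
  rw [hK, sp_pe, k2_val, tv_val hT, hC0, hNv, add_zero, Units.val_one]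

/-- The classification. -/
theorem classify (hb : 3 ≤ Fintype.card β) (ht : 2 ≤ Fintype.card κ) {z : GL X F} (hz : z ∈ Wr F κ β)
    (h2 : ((z : Mn) - 1) * ((z : Mn) - 1) = 0)
    (hr : ((z : Mn) - 1).rank = Fintype.card β ^ (Fintype.card κ - 1)) :
    (∃ i, IsTv i z) ∨ ((2 : F) = 0 ∧ Fintype.card β = 3 ∧ ∃ σ gs, z = wgl σ gs ∧ σ.IsSwap) := by
  classical
  haveI : Nonempty κ := Fintype.card_pos_iff.1 (by omega)
  haveI : Nonempty β := Fintype.card_pos_iff.1 (by omega)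
  haveI : Nontrivial β := Fintype.one_lt_card_iff_nontrivial.1 (by omega)
  obtain ⟨σ, gs, rfl⟩ := hz
  have hσ := perm_sq_eq_one hb h2
  by_cases hσ1 : σ = 1
  · subst hσ1
    exact Or.inl (isTv_of_base hb h2 hr)
  obtain ⟨p, hp⟩ := CharP.exists F
  haveI : Fact p.Prime := ⟨CharP.char_is_prime F p⟩
  have hzp := pow_char_eq_one p h2
  have hp2 : p = 2 := by
    obtain ⟨hs, hh⟩ := wgl_pow (σ := σ) (gs := gs) p
    rw [hh] at hzp
    have hσp := (wgl_eq_one hzp).1
    rcases (Fact.out : p.Prime).eq_two_or_odd' with h | ⟨k, hk⟩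
    · exact h
    · rw [hk, pow_succ, pow_mul, pow_two, hσ, one_pow, one_mul] at hσp
      exact absurd hσp hσ1
  subst hp2
  have h20 : (2 : F) = 0 := by
    have := CharP.cast_eq_zero F 2
    exact_mod_cast this
  rw [pow_two] at hzp
  have hY := card_halfY_le_rank hσ hzp (one_ne_zero (α := F))
  rw [one_smul, hr] at hY
  obtain ⟨l, hl⟩ : ∃ l, σ l ≠ l := by
    by_contra hcon
    push Not at hcon
    exact hσ1 (Equiv.ext hcon)
  have hn := card_halves (β := β) hσ
  rw [Fintype.card_fun] at hn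
  obtain ⟨k, hk⟩ : ∃ k, Fintype.card κ = k + 2 := ⟨Fintype.card κ - 2, by omega⟩
  have hZ := card_fixZ_le (β := β) hl
  rw [hk] at hY hn hZ
  simp only [pow_succ, show k + 2 - 1 = k + 1 from by omega] at hY hn hZ
  have hmk : 1 ≤ Fintype.card β ^ k := pow_pos Fintype.card_pos _
  have hm3 : Fintype.card β = 3 := by
    by_contra hne
    have h4 : Fintype.card β ^ k * Fintype.card β * 4 ≤ Fintype.card β ^ k * Fintype.card β * Fintype.card β :=
      Nat.mul_le_mul_left _ (by omega)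
    have h5 : 1 ≤ Fintype.card β ^ k * Fintype.card β := Nat.mul_pos hmk Fintype.card_pos
    omega
  refine Or.inr ⟨h20, hm3, σ, gs, rfl, l, σ l, Ne.symm hl, ?_⟩
  by_contra hne
  obtain ⟨l', hl'⟩ : ∃ l', σ l' ≠ Equiv.swap l (σ l) l' := by
    by_contra hcon
    push Not at hcon
    exact hne (Equiv.ext hcon)
  have e1 : l' ≠ l := fun e => hl' (by rw [e, Equiv.swap_apply_left])
  have e2 : l' ≠ σ l := fun e => hl' (by rw [e, Equiv.swap_apply_right, sq_apply hσ])
  rw [Equiv.swap_apply_of_ne_of_ne e1 e2] at hl'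
  have hZ2 := card_fixZ_le_two (β := β) hσ hl hl' e1 e2
  rw [hk, Nat.add_sub_cancel] at hZ2
  rw [hm3] at hY hn hZ2 hmk
  nlinarith

/-- Of three elements, one being the product of the others, one is a transvection at a factor. -/
theorem exists_tv_of_three (hb : 3 ≤ Fintype.card β) (ht : 2 ≤ Fintype.card κ) {z₁ z₂ : GL X F}
    (h : ∀ z ∈ ({z₁, z₂, z₁ * z₂} : Set (GL X F)), z ∈ Wr F κ β ∧ ((z : Mn) - 1) * ((z : Mn) - 1) = 0 ∧
      ((z : Mn) - 1).rank = Fintype.card β ^ (Fintype.card κ - 1)) :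
    ∃ z ∈ ({z₁, z₂, z₁ * z₂} : Set (GL X F)), ∃ i, IsTv i z := by
  haveI : Nontrivial β := Fintype.one_lt_card_iff_nontrivial.1 (by omega)
  by_contra hcon
  push Not at hcon
  have hsw : ∀ z ∈ ({z₁, z₂, z₁ * z₂} : Set (GL X F)), ∃ σ gs, z = wgl σ gs ∧ σ.IsSwap := fun z hz => by
    obtain ⟨h1, h2, h3⟩ := h z hz
    rcases classify hb ht h1 h2 h3 with ⟨i, hi⟩ | ⟨-, -, hs⟩
    · exact absurd hi (hcon z hz i)
    · exact hs
  obtain ⟨σ, gs, rfl, hσ⟩ := hsw z₁ (by simp)
  obtain ⟨τ, hs, rfl, hτ⟩ := hsw z₂ (by simp)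
  obtain ⟨π, ks, he, hπ⟩ := hsw _ (by simp : wgl σ gs * wgl τ hs ∈ _)
  rw [wgl_mul] at he
  have h1 := congrArg Equiv.Perm.sign (wgl_unique he).1
  rw [map_mul, hσ.sign_eq, hτ.sign_eq, hπ.sign_eq] at h1
  exact absurd h1 (by decide)

end Cfsg.Agent.Classical.TensorPow
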