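import Cfsg.Agent.Lib.Classical.TensorPow.SigFusion

/-!
The component at a fixed slot, commuting involutions of one factor.
-/

set_option autoImplicit false
set_option linter.unusedSectionVars false

namespace Cfsg.Agent.Classical.TensorPow

open Matrix Module MaxTv TensorMax

variable {F : Type*} [Field F] [Fintype F] {κ β : Type} [Fintype κ] [DecidableEq κ] [Fintype β] [DecidableEq β]

local notation "X" => (κ → β)
local notation "Mn" => Matrix (κ → β) (κ → β) F
local notation "Mb" => Matrix β β F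

/-- The action on the pure elements of one slot. -/
def Comp (i : κ) (g : GL (κ → β) F) (A : GL β F) : Prop := ∀ B : GL β F, g * pe i B * g⁻¹ = pe i (A * B * A⁻¹)

theorem comp_of_wgl {i : κ} {σ : Equiv.Perm κ} (gs : κ → GL β F) (h : σ i = i) : Comp i (wgl σ gs) (gs i) :=
  fun B => pe_conj_eq i B h

theorem exists_comp [Nontrivial β] {g : GL X F} (hg : g ∈ Wr F κ β) {i : κ} {U : GL β F}
    (hU : ∀ c : F, (U : Mb) ≠ c • 1) (hc : g * pe i U = pe i U * g) : ∃ A, Comp i g A ∧ A * U = U * A := by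
  obtain ⟨σ, gs, rfl⟩ := hg
  obtain ⟨h1, h2⟩ := comm_pe hU hc
  exact ⟨gs i, comp_of_wgl gs h1, h2⟩

theorem Comp.mul {i : κ} {g g' : GL X F} {A A' : GL β F} (h : Comp i g A) (h' : Comp i g' A') :
    Comp i (g * g') (A * A') := fun B => by
  rw [show g * g' * pe i B * (g * g')⁻¹ = g * (g' * pe i B * g'⁻¹) * g⁻¹ by group, h', h]
  congr 1
  group

theorem Comp.inv {i : κ} {g : GL X F} {A : GL β F} (h : Comp i g A) : Comp i g⁻¹ A⁻¹ := fun B => by
  have h1 := h (A⁻¹ * B * A)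
  rw [show A * (A⁻¹ * B * A) * A⁻¹ = B by group] at h1
  rw [inv_inv, inv_inv, ← h1]
  group

theorem comp_one (i : κ) : Comp (F := F) (β := β) i 1 1 := fun B => by simp

theorem comp_pe (i : κ) (W : GL β F) : Comp i (pe i W) W := fun B => by
  rw [← map_inv, ← map_mul, ← map_mul]

theorem Comp.comm_pe {i : κ} {g : GL X F} {A B : GL β F} (h : Comp i g A) (hB : A * B = B * A) :
    g * pe i B = pe i B * g := by
  rw [← mul_inv_eq_iff_eq_mul, h, hB, mul_inv_cancel_right]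

theorem Comp.comm_of_pe [Nonempty β] {i : κ} {g : GL X F} {A B : GL β F} (h : Comp i g A)
    (hB : g * pe i B = pe i B * g) : A * B = B * A := by
  rw [← mul_inv_eq_iff_eq_mul, h] at hB
  exact mul_inv_eq_iff_eq_mul.1 (pe_injective i hB)

theorem scalar_of_comm_all (hb : 3 ≤ Fintype.card β) {D : GL β F} (h : ∀ B : GL β F, D * B = B * D) :
    ∃ c : F, (D : Mb) = c • 1 := by
  refine scalar_of_eigen fun v => ?_
  rcases eq_or_ne v 0 with rfl | hv
  · exact ⟨0, by rw [Matrix.mulVec_zero, smul_zero]⟩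
  obtain ⟨φ, hφ, hφv, -⟩ := exists_perp2 hb v v
  obtain ⟨T, hT⟩ := exists_tv hφv
  have h1 := congrArg Units.val (h T)
  rw [Units.val_mul, Units.val_mul, tv_val hT, mul_add, add_mul, mul_one, one_mul, add_right_inj] at h1
  obtain ⟨c, hc, -⟩ := tri_of_comm hv hφ h1
  exact ⟨c, hc⟩

theorem Comp.unique (hb : 3 ≤ Fintype.card β) {i : κ} {g : GL X F} {A A' : GL β F} (h : Comp i g A)
    (h' : Comp i g A') : ∃ c : F, c ≠ 0 ∧ (A' : Mb) = c • (A : Mb) := by
  haveI : Nonempty β := Fintype.card_pos_iff.1 (by omega)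
  obtain ⟨c, hc⟩ := scalar_of_comm_all hb (D := A⁻¹ * A') fun B => by
    have e := pe_injective i ((h B).symm.trans (h' B))
    calc A⁻¹ * A' * B = A⁻¹ * (A' * B * A'⁻¹) * A' := by group
      _ = A⁻¹ * (A * B * A⁻¹) * A' := by rw [e]
      _ = B * (A⁻¹ * A') := by group
  have e : (A' : Mb) = c • (A : Mb) := by
    have h1 : A' = A * (A⁻¹ * A') := by group
    rw [h1, Units.val_mul, hc, Matrix.mul_smul, mul_one]
  refine ⟨c, fun h0 => ?_, e⟩
  rw [h0, zero_smul] at e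
  exact Units.ne_zero A' e

/-- A multiple of an invertible matrix. -/
noncomputable def scal (c : F) (hc : c ≠ 0) (A : GL β F) : GL β F :=
  Matrix.GeneralLinearGroup.mkOfDetNeZero (c • (A : Mb)) (by
    rw [Matrix.det_smul]
    exact mul_ne_zero (pow_ne_zero _ hc) (Matrix.GeneralLinearGroup.det_ne_zero A))

theorem scal_val (c : F) (hc : c ≠ 0) (A : GL β F) : (scal c hc A : Mb) = c • (A : Mb) := rfl

theorem conj_eq_of_smul {c : F} {A A' : GL β F} (h : (A' : Mb) = c • (A : Mb)) (B : GL β F) :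
    A' * B * A'⁻¹ = A * B * A⁻¹ := by
  have hD : ∀ C : GL β F, (A' * A⁻¹) * C = C * (A' * A⁻¹) := fun C => by
    refine Units.ext ?_
    have e : ((A' * A⁻¹ : GL β F) : Mb) = c • 1 := by
      rw [Units.val_mul, h, Matrix.smul_mul, ← Units.val_mul, mul_inv_cancel, Units.val_one]
    rw [Units.val_mul (A' * A⁻¹) C, Units.val_mul C (A' * A⁻¹), e, Matrix.smul_mul, Matrix.mul_smul, one_mul,
      mul_one]
  calc A' * B * A'⁻¹ = (A' * A⁻¹) * (A * B * A⁻¹) * (A' * A⁻¹)⁻¹ := by group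
    _ = A * B * A⁻¹ := by rw [hD, mul_inv_cancel_right]

theorem Comp.smul {i : κ} {g : GL X F} {c : F} {A A' : GL β F} (h : Comp i g A)
    (h' : (A' : Mb) = c • (A : Mb)) : Comp i g A' := fun B => by rw [h, conj_eq_of_smul h']

theorem Comp.invol (hb : 3 ≤ Fintype.card β) {i : κ} {g : GL X F} {A : GL β F} (h : Comp i g A)
    (hg : g * g = 1) : ∃ c : F, c ≠ 0 ∧ (A : Mb) * (A : Mb) = c • 1 := by
  have h1 := h.mul h
  rw [hg] at h1
  obtain ⟨c, hc, e⟩ := (comp_one i).unique hb h1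
  exact ⟨c, hc, by rw [← Units.val_mul, e, Units.val_one]⟩

theorem Comp.comm (hb : 3 ≤ Fintype.card β) {i : κ} {g g' : GL X F} {A A' : GL β F} (h : Comp i g A)
    (h' : Comp i g' A') (hg : g * g' = g' * g) : ∃ c : F, (A' : Mb) * (A : Mb) = c • ((A : Mb) * (A' : Mb)) := by
  have h1 := h.mul h'
  have h2 := h'.mul h
  rw [← hg] at h2
  obtain ⟨c, -, e⟩ := h1.unique hb h2
  exact ⟨c, by rw [← Units.val_mul, e, Units.val_mul]⟩

/-- The condition making commuting involutory components exact. -/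
def Exact (F : Type*) [Field F] (β : Type) [Fintype β] : Prop := (2 : F) = 0 ∨ Odd (Fintype.card β)

theorem exists_norm (hex : Exact F β) (A : GL β F) {c : F} (hc : c ≠ 0) (h : (A : Mb) * (A : Mb) = c • 1) :
    ∃ N : GL β F, (∃ d : F, (N : Mb) = d • (A : Mb)) ∧ N * N = 1 := by
  obtain ⟨d, hd⟩ : ∃ d : F, d * d = c := by
    rcases hex with h2 | ⟨k, hk⟩
    · have h' : ringChar F = 2 := by
        rcases (Nat.prime_two.eq_one_or_self_of_dvd (ringChar F) ((ringChar.spec F 2).1 (by exact_mod_cast h2))) with h1 | h1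
        · exact absurd h1 (CharP.ringChar_ne_one (R := F))
        · exact h1
      obtain ⟨d, hd⟩ := FiniteField.isSquare_of_char_two h' c
      exact ⟨d, hd.symm⟩
    · have hdet := congrArg Matrix.det h
      rw [Matrix.det_mul, Matrix.det_smul, Matrix.det_one, mul_one, hk] at hdet
      refine ⟨(A : Mb).det / c ^ k, ?_⟩
      rw [div_mul_div_comm, hdet, ← pow_add, ← two_mul, pow_succ, mul_div_cancel_left₀ _ (pow_ne_zero _ hc)]
  have hd0 : d ≠ 0 := fun e => hc (by rw [← hd, e, zero_mul])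
  refine ⟨scal d⁻¹ (inv_ne_zero hd0) A, ⟨d⁻¹, rfl⟩, Units.ext ?_⟩
  rw [Units.val_mul, scal_val, Matrix.smul_mul, Matrix.mul_smul, smul_smul, h, smul_smul, ← mul_inv, hd,
    inv_mul_cancel₀ hc, one_smul, Units.val_one]

theorem comm_exact (hex : Exact F β) [Nonempty β] {A B : GL β F} (hA : A * A = 1) (hB : B * B = 1) {c : F}
    (h : (B : Mb) * (A : Mb) = c • ((A : Mb) * (B : Mb))) : A * B = B * A := by
  have hAm : (A : Mb) * (A : Mb) = 1 := by rw [← Units.val_mul, hA, Units.val_one]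
  have hBm : (B : Mb) * (B : Mb) = 1 := by rw [← Units.val_mul, hB, Units.val_one]
  have h1 : (B : Mb) * (A : Mb) * (B : Mb) = c • (A : Mb) := by
    rw [h, Matrix.smul_mul, mul_assoc, hBm, mul_one]
  have h2 : c * c = 1 := by
    have e : (B : Mb) * (A : Mb) * (B : Mb) * ((B : Mb) * (A : Mb) * (B : Mb)) = 1 := by
      calc _ = (B : Mb) * (A : Mb) * ((B : Mb) * (B : Mb)) * (A : Mb) * (B : Mb) := by simp only [mul_assoc]
        _ = 1 := by rw [hBm, mul_one, mul_assoc (B : Mb) (A : Mb), hAm, mul_one, hBm]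
    rw [h1, Matrix.smul_mul, Matrix.mul_smul, smul_smul, hAm] at e
    obtain ⟨b⟩ := ‹Nonempty β›
    simpa using congrFun (congrFun e b) b
  have hc : c = 1 := by
    rcases mul_self_eq_one_iff.1 h2 with e | e
    · exact e
    rcases hex with h20 | hodd
    · linear_combination e - h20
    · have hdet := congrArg Matrix.det h
      rw [Matrix.det_smul, Matrix.det_mul, Matrix.det_mul, e, hodd.neg_one_pow] at hdet
      have h0 : (A : Mb).det * (B : Mb).det ≠ 0 :=
        mul_ne_zero (Matrix.GeneralLinearGroup.det_ne_zero A) (Matrix.GeneralLinearGroup.det_ne_zero B)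
      rw [e]
      refine mul_right_cancel₀ h0 ?_
      linear_combination -hdet
  refine Units.ext ?_
  rw [Units.val_mul, Units.val_mul, h, hc, one_smul]

/-- Conjugates of the chosen involutions. -/
theorem SigT.conj {S : GL β F} (h : SigT S) (A : GL β F) : SigT (A * S * A⁻¹) := by
  obtain ⟨v, φ, hv, hφ, hφv, hS⟩ := h
  refine ⟨(A : Mb) *ᵥ v, φ ᵥ* ((A⁻¹ : GL β F) : Mb), gl_mulVec_ne_zero A hv, fun e => hφ ?_, ?_, ?_⟩
  · have := congrArg (· ᵥ* (A : Mb)) e
    simpa only [Matrix.vecMul_vecMul, ← Units.val_mul, inv_mul_cancel, Units.val_one, Matrix.vecMul_one,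
      Matrix.zero_vecMul] using this
  · rw [vecMul_inv_dot, hφv]
  · rw [Units.val_mul, Units.val_mul, hS, mul_add, add_mul, mul_neg, mul_one, neg_mul, ← Units.val_mul,
      mul_inv_cancel, Units.val_one, Matrix.mul_vecMulVec, Matrix.vecMulVec_mul]

theorem sigT_nonscalar (hb : 2 ≤ Fintype.card β) {S : GL β F} (h : SigT S) (c : F) : (S : Mb) ≠ c • 1 :=
  h.choose_spec.choose_spec.nonscalar hb c

theorem sigT_sq {S : GL β F} (h : SigT S) : S * S = 1 := h.choose_spec.choose_spec.sq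

theorem sigT_det_pe (hκ : 2 ≤ Fintype.card κ) {S : GL β F} (h : SigT S) (i : κ) : (pe i S : Mn).det = 1 :=
  h.choose_spec.choose_spec.det_pe hκ i

theorem rank_neg {ι : Type} [Fintype ι] [DecidableEq ι] (A : Matrix ι ι F) : (-A).rank = A.rank := by
  rw [← neg_one_smul F A]
  exact rank_smul_eq _ (neg_ne_zero.2 one_ne_zero)

/-- A scalar between two chosen involutions is one. -/
theorem sig_scalar (hb : 3 ≤ Fintype.card β) {S S' : GL β F} (hS : SigT S) (hS' : SigT S') {c : F}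
    (h : (S : Mb) = c • (S' : Mb)) : c = 1 := by
  haveI : Nonempty β := Fintype.card_pos_iff.1 (by omega)
  have hs : (S : Mb) * (S : Mb) = 1 := by rw [← Units.val_mul, sigT_sq hS, Units.val_one]
  have hs' : (S' : Mb) * (S' : Mb) = 1 := by rw [← Units.val_mul, sigT_sq hS', Units.val_one]
  have h2 : c * c = 1 := by
    rw [h, Matrix.smul_mul, Matrix.mul_smul, smul_smul, hs'] at hs
    obtain ⟨b⟩ := ‹Nonempty β›
    simpa using congrFun (congrFun hs b) b
  rcases mul_self_eq_one_iff.1 h2 with e | e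
  · exact e
  by_cases h20 : (2 : F) = 0
  · linear_combination e - h20
  obtain ⟨v, φ, hw⟩ := hS
  obtain ⟨v', φ', hw'⟩ := hS'
  have r1 := hw.rank_add_one
  have r2 := rank_invol h20 hs'
  rw [hw'.rank_add_one] at r2
  rw [h, e, show (-1 : F) • (S' : Mb) + 1 = -((S' : Mb) - 1) by rw [neg_smul, one_smul, neg_sub, ← sub_eq_neg_add],
    rank_neg] at r1
  omega

theorem sigT_of_rank_one {A : GL β F} (hA : A * A = 1) (h : ((A : Mb) + 1).rank = 1) : SigT A := by
  obtain ⟨v, φ, hv, hφ, hvφ⟩ := eq_vmv_of_rank_one h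
  have hAe : (A : Mb) = -1 + vecMulVec v φ := by rw [← hvφ]; abel
  refine ⟨v, φ, hv, hφ, ?_, hAe⟩
  have h1 := congrArg Units.val hA
  rw [Units.val_mul, Units.val_one, hAe] at h1
  have h2 : (φ ⬝ᵥ v - 2) • vecMulVec v φ = 0 := by
    rw [sub_smul, two_smul, ← vmv_mul]
    simp only [add_mul, mul_add, neg_mul, mul_neg, one_mul, mul_one] at h1
    linear_combination (norm := abel) h1
  exact sub_eq_zero.1 ((smul_eq_zero.1 h2).resolve_right (vmv_ne_zero hv hφ))

theorem exists_sigT (hb : 2 ≤ Fintype.card β) : ∃ S : GL β F, SigT S := by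
  obtain ⟨a, b, hab⟩ := Fintype.exists_pair_of_one_lt_card (show 1 < Fintype.card β by omega)
  obtain ⟨φ, hφ, hφv⟩ : ∃ φ : β → F, φ ≠ 0 ∧ φ a = 2 := by
    by_cases h2 : (2 : F) = 0
    · refine ⟨Pi.single b 1, by simp, ?_⟩
      rw [h2, Pi.single_eq_of_ne hab]
    · exact ⟨Pi.single a 2, by simp [h2], Pi.single_eq_same a 2⟩
  have hd : φ ⬝ᵥ Pi.single a (1 : F) = 2 := by rw [dotProduct_single, mul_one, hφv]
  have hm : (-1 + vecMulVec (Pi.single a (1 : F)) φ : Mb) * (-1 + vecMulVec (Pi.single a (1 : F)) φ) = 1 := by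
    simp only [add_mul, mul_add, neg_mul, mul_neg, one_mul, mul_one, vmv_mul, hd, two_smul]
    abel
  exact ⟨⟨_, _, hm, hm⟩, Pi.single a 1, φ, by simp, hφ, hd, rfl⟩

/-- Commuting involutory additive maps in characteristic two have a common fixed point. -/
theorem common_fix {A : Type*} [AddCommGroup A] [Finite A] (h2 : ∀ a : A, a + a = 0) {ι : Type*} [Finite ι]
    (f : ι → A →+ A) (hf : ∀ k a, f k (f k a) = a) (hc : ∀ k l a, f k (f l a) = f l (f k a))
    (W : AddSubgroup A) (hW : W ≠ ⊥) (hWf : ∀ k, ∀ a ∈ W, f k a ∈ W) :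
    ∃ a ∈ W, a ≠ 0 ∧ ∀ k, f k a = a := by
  classical
  cases nonempty_fintype A
  cases nonempty_fintype ι
  obtain ⟨a₀, ha₀, hne⟩ : ∃ a ∈ W, a ≠ 0 := by
    by_contra hcon
    push Not at hcon
    exact hW ((AddSubgroup.eq_bot_iff_forall _).2 hcon)
  obtain ⟨a, ha, hmax⟩ := Finset.exists_max_image (Finset.univ.filter fun a : A => a ∈ W ∧ a ≠ 0)
    (fun a => (Finset.univ.filter fun k => f k a = a).card) ⟨a₀, by simp [ha₀, hne]⟩
  rw [Finset.mem_filter] at ha
  refine ⟨a, ha.2.1, ha.2.2, fun k => by_contra fun hk => ?_⟩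
  have hne' : f k a + a ≠ 0 := fun e => hk (by
    rw [eq_neg_of_add_eq_zero_left e, neg_eq_of_add_eq_zero_left (h2 a)])
  have hle := hmax (f k a + a) (Finset.mem_filter.2 ⟨Finset.mem_univ _, W.add_mem (hWf k a ha.2.1) ha.2.1, hne'⟩)
  have hlt : (Finset.univ.filter fun l => f l a = a).card <
      (Finset.univ.filter fun l => f l (f k a + a) = f k a + a).card := by
    refine Finset.card_lt_card ?_
    rw [Finset.ssubset_iff_of_subset]
    · exact ⟨k, by simp [map_add, hf, add_comm], by simp [hk]⟩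
    · intro l hl
      simp only [Finset.mem_filter, Finset.mem_univ, true_and] at hl ⊢
      rw [map_add, hc, hl]
  omega

/-- Common eigenvectors of commuting involutions in odd characteristic. -/
theorem common_pair (h2 : (2 : F) ≠ 0) (S : Set (GL β F)) (hS : ∀ N ∈ S, N * N = 1)
    (hc : ∀ N ∈ S, ∀ N' ∈ S, N * N' = N' * N) {P₀ : Mb} (hP : P₀ * P₀ = P₀) (hP0 : P₀ ≠ 0)
    (hPc : ∀ N ∈ S, (N : Mb) * P₀ = P₀ * (N : Mb)) :
    ∃ v φ : β → F, φ ⬝ᵥ v = 2 ∧ P₀ *ᵥ v = v ∧ φ ᵥ* P₀ = φ ∧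
      ∀ N ∈ S, ∃ ε : F, (N : Mb) *ᵥ v = ε • v ∧ φ ᵥ* (N : Mb) = ε • φ := by
  classical
  let Good : Mb → Prop := fun P => P * P = P ∧ P ≠ 0 ∧ P₀ * P = P ∧ P * P₀ = P ∧
    ∀ N ∈ S, (N : Mb) * P = P * (N : Mb)
  let img : Mb → Finset (β → F) := fun P => Finset.univ.image fun x => P *ᵥ x
  obtain ⟨P, hPg, hmin⟩ := Finset.exists_min_image (Finset.univ.filter Good) (fun P => (img P).card)
    ⟨P₀, Finset.mem_filter.2 ⟨Finset.mem_univ _, hP, hP0, hP, hP, hPc⟩⟩
  obtain ⟨hPP, hP1, hl, hr, hPN⟩ := (Finset.mem_filter.1 hPg).2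
  have hsign : ∀ N ∈ S, ∃ ε : F, (N : Mb) * P = ε • P := by
    intro N hN
    have hNN : (N : Mb) * (N : Mb) = 1 := by rw [← Units.val_mul, hS N hN, Units.val_one]
    set Q := (2 : F)⁻¹ • (P + (N : Mb) * P) with hQ
    have hQQ : Q * Q = Q := by
      have e1 : (N : Mb) * P * P = (N : Mb) * P := by rw [mul_assoc, hPP]
      have e2 : P * ((N : Mb) * P) = (N : Mb) * P := by rw [← mul_assoc, ← hPN N hN, mul_assoc, hPP]
      have e3 : (N : Mb) * P * ((N : Mb) * P) = P := by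
        rw [mul_assoc, ← mul_assoc P (N : Mb) P, ← hPN N hN, mul_assoc, hPP, ← mul_assoc, hNN, one_mul]
      rw [hQ, Matrix.smul_mul, Matrix.mul_smul, smul_smul]
      have e : (P + (N : Mb) * P) * (P + (N : Mb) * P) = (2 : F) • (P + (N : Mb) * P) := by
        rw [add_mul, mul_add, mul_add, hPP, e1, e2, e3, two_smul]
        abel
      rw [e, smul_smul, mul_assoc, inv_mul_cancel₀ h2, mul_one]
    by_cases hQ0 : Q = 0
    · refine ⟨-1, ?_⟩
      rw [hQ, smul_eq_zero] at hQ0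
      rw [neg_smul, one_smul]
      exact eq_neg_of_add_eq_zero_right (hQ0.resolve_left (inv_ne_zero h2))
    have hPQ : P * Q = Q := by
      rw [hQ, Matrix.mul_smul, mul_add, hPP, ← mul_assoc, ← hPN N hN, mul_assoc, hPP]
    have hQP : Q * P = Q := by rw [hQ, Matrix.smul_mul, add_mul, hPP, mul_assoc, hPP]
    have hgood : Good Q := by
      refine ⟨hQQ, hQ0, ?_, ?_, fun N' hN' => ?_⟩
      · conv_rhs => rw [← hPQ, ← hl, mul_assoc, hPQ]
      · conv_rhs => rw [← hQP, ← hr, ← mul_assoc, hQP]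
      · rw [hQ, Matrix.mul_smul, Matrix.smul_mul, mul_add, add_mul, hPN N' hN', mul_assoc (N : Mb),
          ← hPN N' hN', ← mul_assoc (N : Mb), ← mul_assoc (N' : Mb), ← Units.val_mul, ← Units.val_mul,
          hc N hN N' hN']
    have hsub : img Q ⊆ img P := fun y hy => by
      obtain ⟨x, -, rfl⟩ := Finset.mem_image.1 hy
      exact Finset.mem_image.2 ⟨Q *ᵥ x, Finset.mem_univ _, by rw [Matrix.mulVec_mulVec, hPQ]⟩
    have heq := Finset.eq_of_subset_of_card_le hsub (hmin Q (Finset.mem_filter.2 ⟨Finset.mem_univ _, hgood⟩))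
    have hQeq : Q * P = P := Matrix.ext_iff_mulVec.2 fun x => by
      obtain ⟨y, -, hy⟩ := Finset.mem_image.1 (heq ▸ Finset.mem_image.2 ⟨x, Finset.mem_univ _, rfl⟩ :
        P *ᵥ x ∈ img Q)
      rw [← Matrix.mulVec_mulVec, ← hy, Matrix.mulVec_mulVec, hQQ]
    rw [hQP, hQ] at hQeq
    refine ⟨1, ?_⟩
    have h4 := congrArg ((2 : F) • ·) hQeq
    simp only [smul_smul, mul_inv_cancel₀ h2, one_smul, two_smul] at h4
    rw [one_smul]
    exact add_left_cancel h4
  obtain ⟨x, hx⟩ : ∃ x, P *ᵥ x ≠ 0 := by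
    by_contra hcon
    push Not at hcon
    exact hP1 (Matrix.ext_iff_mulVec.2 fun x => by rw [hcon, Matrix.zero_mulVec])
  obtain ⟨χ, hχ⟩ := exists_dual hx
  refine ⟨P *ᵥ x, ((2 : F) • χ) ᵥ* P, ?_, ?_, ?_, fun N hN => ?_⟩
  · rw [← Matrix.dotProduct_mulVec, Matrix.mulVec_mulVec, hPP, smul_dotProduct, hχ, smul_eq_mul, mul_one]
  · rw [Matrix.mulVec_mulVec, hl]
  · rw [Matrix.vecMul_vecMul, hr]
  · obtain ⟨ε, hε⟩ := hsign N hN
    refine ⟨ε, ?_, ?_⟩
    · rw [Matrix.mulVec_mulVec, hε, Matrix.smul_mulVec]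
    · rw [Matrix.vecMul_vecMul, ← hPN N hN, hε, Matrix.vecMul_smul]

theorem SigW.comm_of_eigen {v φ : β → F} {R : GL β F} (h : SigW v φ R) {N : GL β F} {ε : F}
    (h1 : (N : Mb) *ᵥ v = ε • v) (h2 : φ ᵥ* (N : Mb) = ε • φ) : N * R = R * N := by
  rw [h.comm_iff, Matrix.mul_vecMulVec, Matrix.vecMulVec_mul, h1, h2, Matrix.smul_vecMulVec, Matrix.vecMulVec_smul]

theorem exists_sigW {v φ : β → F} (hv : v ≠ 0) (hφ : φ ≠ 0) (h : φ ⬝ᵥ v = 2) : ∃ R : GL β F, SigW v φ R := by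
  have hm : (-1 + vecMulVec v φ : Mb) * (-1 + vecMulVec v φ) = 1 := by
    simp only [add_mul, mul_add, neg_mul, mul_neg, one_mul, mul_one, vmv_mul, h, two_smul]
    abel
  exact ⟨⟨_, _, hm, hm⟩, hv, hφ, h, rfl⟩

theorem ne_zero_of_dot {v φ : β → F} (h2 : (2 : F) ≠ 0) (h : φ ⬝ᵥ v = 2) : v ≠ 0 ∧ φ ≠ 0 :=
  ⟨fun e => h2 (by rw [← h, e, dotProduct_zero]), fun e => h2 (by rw [← h, e, zero_dotProduct])⟩

/-- An involution of the chosen type commuting with given commuting involutions. -/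
theorem exists_sig_comm (hb : 2 ≤ Fintype.card β) (S : Set (GL β F)) (hS : ∀ N ∈ S, N * N = 1)
    (hc : ∀ N ∈ S, ∀ N' ∈ S, N * N' = N' * N) : ∃ R, SigT R ∧ ∀ N ∈ S, N * R = R * N := by
  classical
  haveI : Nonempty β := Fintype.card_pos_iff.1 (by omega)
  by_cases h2 : (2 : F) = 0
  · have hadd : ∀ a : β → F, a + a = 0 := fun a => by rw [← two_smul F a, h2, zero_smul]
    let f : S → (β → F) →+ (β → F) := fun N =>
      { toFun := fun a => a ᵥ* (N.1 : Mb)
        map_zero' := Matrix.zero_vecMul _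
        map_add' := fun a b => Matrix.add_vecMul _ a b }
    obtain ⟨φ, -, hφ, hφf⟩ := common_fix hadd f
      (fun N a => by
        show a ᵥ* (N.1 : Mb) ᵥ* (N.1 : Mb) = a
        rw [Matrix.vecMul_vecMul, ← Units.val_mul, hS N.1 N.2, Units.val_one, Matrix.vecMul_one])
      (fun N N' a => by
        show a ᵥ* (N'.1 : Mb) ᵥ* (N.1 : Mb) = a ᵥ* (N.1 : Mb) ᵥ* (N'.1 : Mb)
        rw [Matrix.vecMul_vecMul, Matrix.vecMul_vecMul, ← Units.val_mul, ← Units.val_mul, hc N'.1 N'.2 N.1 N.2])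
      ⊤ (fun e => by
        obtain ⟨b⟩ := ‹Nonempty β›
        have := (AddSubgroup.eq_bot_iff_forall _).1 e (Pi.single b (1 : F)) (AddSubgroup.mem_top _)
        simp at this)
      (fun _ _ _ => AddSubgroup.mem_top _)
    let g : S → (β → F) →+ (β → F) := fun N =>
      { toFun := fun a => (N.1 : Mb) *ᵥ a
        map_zero' := Matrix.mulVec_zero _
        map_add' := fun a b => Matrix.mulVec_add _ a b }
    let W : AddSubgroup (β → F) :=
      { carrier := {a | φ ⬝ᵥ a = 0}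
        zero_mem' := dotProduct_zero φ
        add_mem' := fun {a b} (ha : φ ⬝ᵥ a = 0) (hb : φ ⬝ᵥ b = 0) => by
          show φ ⬝ᵥ (a + b) = 0
          rw [dotProduct_add, ha, hb, add_zero]
        neg_mem' := fun {a} (ha : φ ⬝ᵥ a = 0) => by
          show φ ⬝ᵥ (-a) = 0
          rw [dotProduct_neg, ha, neg_zero] }
    obtain ⟨v, hvW, hv, hvf⟩ := common_fix hadd g
      (fun N a => by
        show (N.1 : Mb) *ᵥ ((N.1 : Mb) *ᵥ a) = a
        rw [Matrix.mulVec_mulVec, ← Units.val_mul, hS N.1 N.2, Units.val_one, Matrix.one_mulVec])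
      (fun N N' a => by
        show (N.1 : Mb) *ᵥ ((N'.1 : Mb) *ᵥ a) = (N'.1 : Mb) *ᵥ ((N.1 : Mb) *ᵥ a)
        rw [Matrix.mulVec_mulVec, Matrix.mulVec_mulVec, ← Units.val_mul, ← Units.val_mul, hc N.1 N.2 N'.1 N'.2])
      W (fun e => by
        obtain ⟨b, b', hbb⟩ := Fintype.exists_pair_of_one_lt_card (show 1 < Fintype.card β by omega)
        have hall : ∀ a, φ ⬝ᵥ a = 0 → a = 0 := fun a ha => (AddSubgroup.eq_bot_iff_forall _).1 e a ha
        have h1 := hall (φ b' • Pi.single b (1 : F) - φ b • Pi.single b' 1) (by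
          simp only [dotProduct_sub, dotProduct_smul, dotProduct_single, smul_eq_mul]; ring)
        have hb1 := congrFun h1 b
        simp [hbb] at hb1
        have h3 := hall (Pi.single b' (1 : F)) (by rw [dotProduct_single, hb1, zero_mul])
        simp at h3)
      (fun N a (ha : φ ⬝ᵥ a = 0) => by
        show φ ⬝ᵥ ((N.1 : Mb) *ᵥ a) = 0
        rw [Matrix.dotProduct_mulVec, show φ ᵥ* (N.1 : Mb) = φ from hφf N, ha])
    obtain ⟨R, hR⟩ := exists_sigW hv hφ (show φ ⬝ᵥ v = 2 by rw [h2]; exact hvW)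
    exact ⟨R, ⟨v, φ, hR⟩, fun N hN => hR.comm_of_eigen (ε := 1)
      (by rw [one_smul]; exact hvf ⟨N, hN⟩) (by rw [one_smul]; exact hφf ⟨N, hN⟩)⟩
  · obtain ⟨v, φ, hφv, -, -, hN⟩ := common_pair h2 S hS hc (P₀ := 1) (one_mul 1) one_ne_zero
      (fun N _ => by rw [mul_one, one_mul])
    obtain ⟨hv, hφ⟩ := ne_zero_of_dot h2 hφv
    obtain ⟨R, hR⟩ := exists_sigW hv hφ hφv
    refine ⟨R, ⟨v, φ, hR⟩, fun N hN' => ?_⟩
    obtain ⟨ε, h1, h3⟩ := hN N hN'
    exact hR.comm_of_eigen h1 h3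

end Cfsg.Agent.Classical.TensorPow
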