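import Cfsg.Agent.Lib.Classical.TensorPow.Classify

/-!
A proper overgroup: no root element with non-scalar coefficient, and elements mapping a line to a line stabilise
the decomposition.
-/

set_option autoImplicit false
set_option linter.unusedSectionVars false

open scoped Kronecker

namespace Cfsg.Agent.Classical.TensorPow

open Matrix Module MaxTv TensorMax Overfield

variable {F : Type*} [Field F] [Fintype F] {κ β : Type} [Fintype κ] [DecidableEq κ] [Fintype β] [DecidableEq β]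

local notation "X" => (κ → β)
local notation "Mn" => Matrix (κ → β) (κ → β) F
local notation "Mb" => Matrix β β F
local notation "V" => ((κ → β) → F)

/-- Proper overgroups of the stabiliser inside `SL` stabilise the decomposition. -/
def MaxAt (F : Type*) [Field F] (κ β : Type) [Fintype κ] [DecidableEq κ] [Fintype β] [DecidableEq β] : Prop :=
  ∀ M : Subgroup (GL (κ → β) F), Wr F κ β ⊓ Geo.specialLinear (κ → β) F ≤ M →
    M ≤ Geo.specialLinear (κ → β) F → ¬ Geo.specialLinear (κ → β) F ≤ M → M ≤ Wr F κ β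

/-- A proper overgroup, with the induction hypothesis. -/
structure Cx (M : Subgroup (GL (κ → β) F)) : Prop where
  le : M ≤ Geo.specialLinear (κ → β) F
  mem : Wr F κ β ⊓ Geo.specialLinear (κ → β) F ≤ M
  nsl : ¬ Geo.specialLinear (κ → β) F ≤ M
  hb : 3 ≤ Fintype.card β
  ht : 2 ≤ Fintype.card κ
  ih : ∀ i : κ, MaxAt F (Rst i) β

variable {M : Subgroup (GL (κ → β) F)}

/-- The group in split coordinates. -/
def Mi (M : Subgroup (GL (κ → β) F)) (i : κ) : Subgroup (GL ((Rst i → β) × β) F) :=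
  M.map (sp i).toMonoidHom

theorem mem_Mi {i : κ} {g : GL X F} : sp i g ∈ Mi M i ↔ g ∈ M := by
  rw [Mi]
  exact Subgroup.mem_map_iff_mem (sp (F := F) i).injective

theorem Cx.mem_wr (hM : Cx M) {g : GL X F} (h : g ∈ Wr F κ β) (h' : (g : Mn).det = 1) : g ∈ M :=
  hM.mem ⟨h, (mem_sl_iff g).2 h'⟩

theorem Cx.pe_mem (hM : Cx M) (i : κ) {A : GL β F} (hA : (A : Mb).det = 1) : pe i A ∈ M :=
  hM.mem_wr (TensorPow.pe_mem i A) (by rw [pe_det, hA, one_pow])

theorem tv_det {v φ : β → F} {A : GL β F} (hv : φ ⬝ᵥ v = 0) (hA : (A : Mb) = 1 + vecMulVec v φ) :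
    (A : Mb).det = 1 := by
  rw [hA, Matrix.vecMulVec_eq Unit, Matrix.det_one_add_replicateCol_mul_replicateRow, hv, add_zero]

theorem Cx.ctx2 (hM : Cx M) (i : κ) : Ctx2 (Mi M i) := by
  refine ⟨?_, fun B g hg hd => ?_⟩
  · rintro _ ⟨g, hg, rfl⟩
    exact (sp_mem_sl i g).2 (hM.le hg)
  have h1 : g = sp i (pe i B) := Units.ext (by rw [sp_pe, hg, k2_val, Units.val_one])
  rw [h1] at hd ⊢
  exact mem_Mi.2 (hM.mem ⟨TensorPow.pe_mem i B, (sp_mem_sl i _).1 hd⟩)

/-- A factor transposition of determinant one with components `1` and `±1`. -/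
theorem exists_swap_sq {i j k : κ} (hji : j ≠ i) (hki : k ≠ i) :
    ∃ ks : κ → GL β F, (∀ l, ∃ c : F, c * c = 1 ∧ (ks l : Mb) = c • 1) ∧ ks i = 1 ∧
      (wgl (Equiv.swap j k) ks : Mn).det = 1 := by
  classical
  have hσi : Equiv.swap j k i = i := Equiv.swap_apply_of_ne_of_ne (Ne.symm hji) (Ne.symm hki)
  set P : GL (Rst i → β) F := wgl (rperm (Equiv.swap j k) hσi) 1
  have hP : P * P = 1 := by
    rw [wgl_mul, ← wgl_one]
    congr 1
    · exact Equiv.ext fun l => Subtype.ext (by simp [rperm, Equiv.swap_apply_self])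
    · funext l; simp
  set d := (P : Matrix (Rst i → β) (Rst i → β) F).det
  have hd2 : d * d = 1 := by
    rw [← Matrix.det_mul, ← Units.val_mul, hP, Units.val_one, Matrix.det_one]
  have hd : d ≠ 0 := fun e => by rw [e, zero_mul] at hd2; exact zero_ne_one hd2
  let S : GL β F := Matrix.GeneralLinearGroup.mkOfDetNeZero (d • (1 : Mb)) (by
    rw [Matrix.det_smul, Matrix.det_one, mul_one]; exact pow_ne_zero _ hd)
  refine ⟨Function.update 1 j S, fun l => ?_, Function.update_of_ne (Ne.symm hji) _ _, ?_⟩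
  · by_cases e : l = j
    · exact ⟨d, hd2, by rw [e, Function.update_self]; rfl⟩
    · exact ⟨1, one_mul 1, by rw [Function.update_of_ne e, one_smul]; rfl⟩
  have he : wgl (Equiv.swap j k) (Function.update 1 j S) = pe j S * wgl (Equiv.swap j k) 1 := by
    show _ = wgl 1 (Function.update 1 j S) * _
    rw [wgl_mul, mul_one]
    congr 1
    funext l
    simp
  have h2 : (wgl (Equiv.swap j k) (1 : κ → GL β F) : Mn).det = d ^ Fintype.card β := by
    rw [← sp_det i, sp_wgl _ hσi, k2_det, Pi.one_apply, Units.val_one, Matrix.det_one, one_pow, mul_one]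
    rfl
  rw [he, Units.val_mul, Matrix.det_mul, pe_det, h2, show (S : Mb) = d • 1 from rfl, Matrix.det_smul, Matrix.det_one,
    mul_one, ← pow_mul, ← pow_add, card_rst]
  generalize Fintype.card κ - 1 = e
  have hev : Even (Fintype.card β * Fintype.card β ^ e + Fintype.card β) := by
    rcases Nat.even_or_odd (Fintype.card β) with h | h
    · exact (h.mul_right _).add h
    · exact (h.mul (h.pow)).add_odd h
  obtain ⟨q, hq⟩ := hev
  rw [hq, ← two_mul, pow_mul, pow_two, hd2, one_pow]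

/-- A factor transposition of determinant one. -/
theorem exists_swap {i j k : κ} (hji : j ≠ i) (hki : k ≠ i) :
    ∃ ks : κ → GL β F, (∀ l, ∃ c : F, (ks l : Mb) = c • 1) ∧ ks i = 1 ∧
      (wgl (Equiv.swap j k) ks : Mn).det = 1 :=
  let ⟨ks, h1, h2, h3⟩ := exists_swap_sq (F := F) (β := β) hji hki
  ⟨ks, fun l => ⟨(h1 l).choose, (h1 l).choose_spec.2⟩, h2, h3⟩

theorem tmul_mulVec_wm (i : κ) (gs : κ → Mb) :
    Matrix.reindex (spE i) (spE i) (wm (1 : Equiv.Perm κ) gs) = wm 1 (fun j : Rst i => gs j.1) ⊗ₖ gs i := by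
  ext p q
  obtain ⟨x, rfl⟩ := (spE i).surjective p
  obtain ⟨y, rfl⟩ := (spE i).surjective q
  rw [Matrix.reindex_apply, Matrix.submatrix_apply, Equiv.symm_apply_apply, Equiv.symm_apply_apply, spE_apply,
    spE_apply, Matrix.kroneckerMap_apply]
  show ∏ l, gs l (x l) (y l) = (∏ j : Rst i, gs j.1 (x j.1) (y j.1)) * gs i (x i) (y i)
  rw [Fintype.prod_eq_mul_prod_subtype_ne _ i, mul_comm]

/-- No root element with a non-scalar coefficient. -/
theorem Cx.not_rich (hM : Cx M) (i : κ) : ¬ TensorMax.Rich (Mi M i) := by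
  classical
  have hb := hM.hb
  haveI : Nonempty β := Fintype.card_pos_iff.1 (by omega)
  have hM2 := hM.ctx2 i
  rintro ⟨v, φ, D, hv, hφ, hφv, hD, hin⟩
  have hc : Coef (Mi M i) D := coef_of_in hM2 hb hin hv hφ hφv
  let P : Matrix (Rst i → β) (Rst i → β) F → Prop := fun R => Coef (Mi M i) (Matrix.toLin' R)
  have hconj : ∀ {R : Matrix (Rst i → β) (Rst i → β) F} (A : GL (Rst i → β) F), k2 A 1 ∈ Mi M i → P R →
      P ((A : Matrix _ _ F) * R * ((A⁻¹ : GL (Rst i → β) F) : Matrix _ _ F)) := fun A hA hR => by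
    have := coef_conj hM2 hb hR hA
    simp only [P, Matrix.toLin'_mul, LinearMap.comp_assoc]
    exact this
  have hP : TAlg P := by
    refine ⟨fun {R S} hR hS => ?_, fun {R} c hR => ?_, fun {R S} hR hS => ?_, fun {R} j x χ hχ hR => ?_,
      fun {gs} j k hR => ?_⟩
    · simp only [P, map_add]; exact coef_add hM2 hb hR hS
    · simp only [P, map_smul]; exact coef_smul hM2 hb hR c
    · simp only [P, Matrix.toLin'_mul]; exact coef_mul hM2 hb hR hS
    · obtain ⟨T, hT⟩ := exists_tv hχ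
      have hTm := tv_val hT
      have hTi : ((T⁻¹ : GL β F) : Mb) = 1 - vecMulVec x χ := by
        refine Units.inv_eq_of_mul_eq_one_right ?_
        rw [hTm, add_mul, one_mul, mul_sub, mul_one, vmv_mul, hχ, zero_smul, sub_zero, sub_add_cancel]
      have h1 : k2 (pe j T) (1 : GL β F) ∈ Mi M i := by
        rw [show k2 (pe j T) (1 : GL β F) = sp i (pe j.1 T) by rw [sp_pe_ne j.2]]
        exact mem_Mi.2 (hM.pe_mem j.1 (tv_det hχ hTm))
      have h2 := hconj _ h1 hR
      rwa [← map_inv, ← et_val, ← et_val, hTm, hTi] at h2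
    · obtain ⟨ks, hks, hksi, hdet⟩ := exists_swap (F := F) (β := β) j.2 k.2
      have hσi : Equiv.swap j.1 k.1 i = i := Equiv.swap_apply_of_ne_of_ne (Ne.symm j.2) (Ne.symm k.2)
      have h1 : k2 (wgl (rperm (Equiv.swap j.1 k.1) hσi) fun l => ks l.1) (1 : GL β F) ∈ Mi M i := by
        have := mem_Mi (i := i) |>.2 (hM.mem_wr (wgl_mem (Equiv.swap j.1 k.1) ks) hdet)
        rwa [sp_wgl _ hσi, hksi] at this
      have h2 := hconj _ h1 hR
      rw [wgl_inv, wgl_val, wgl_val, wm_mul, wm_mul, one_mul, inv_mul_cancel] at h2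
      convert h2 using 2
      have hperm : rperm (Equiv.swap j.1 k.1) hσi = Equiv.swap j k := Equiv.ext fun l => Subtype.ext (by
        show Equiv.swap j.1 k.1 l.1 = (Equiv.swap j k l).1
        simp only [Equiv.swap_apply_def, Subtype.ext_iff]
        split_ifs <;> rfl)
      refine funext fun l => ?_
      · simp only [Equiv.Perm.coe_inv, Function.comp_apply, one_mul, hperm, Equiv.symm_apply_apply]
        obtain ⟨c, hcl⟩ := hks l.1
        rw [hcl, Matrix.smul_mul, one_mul, Matrix.smul_mul]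
        have h3 : (ks l.1 : Mb) * (((ks l.1)⁻¹ : GL β F) : Mb) = 1 := by
          rw [← Units.val_mul, mul_inv_cancel, Units.val_one]
        rw [hcl, Matrix.smul_mul, one_mul] at h3
        conv_rhs => rw [← Matrix.mul_smul, h3, mul_one]
  have hall : ∀ R, P R := talg_all hP hb (R₀ := LinearMap.toMatrix' D) (by
    simp only [P, Matrix.toLin'_toMatrix']; exact hc) fun c h => hD c (by
    have := congrArg Matrix.toLin' h
    rw [Matrix.toLin'_toMatrix', map_smul, Matrix.toLin'_one] at this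
    exact this)
  have h := specialLinear_le_of_rank1 hM2 hb fun y δ => by
    convert hall (vecMulVec y δ) using 1
    refine LinearMap.ext fun z => ?_
    rw [Matrix.toLin'_apply, Matrix.vecMulVec_mulVec, op_smul_eq_smul]
    rfl
  exact hM.nsl fun g hg => mem_Mi.1 (h ((sp_mem_sl i g).2 hg))

/-- An element fixing a line pointwise is of product shape at the factor. -/
theorem Cx.fix_kron (hM : Cx M) {f : GL X F} (hf : f ∈ M) {i : κ} {v : β → F} (hv : v ≠ 0)
    (hfix : ∀ t ∈ line i v, (f : Mn) *ᵥ t = t) : IsKron (sp i f) := by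
  have hb := hM.hb
  haveI : Nonempty β := Fintype.card_pos_iff.1 (by omega)
  by_contra hk
  refine hM.not_rich i (rich_of_fix (hM.ctx2 i) hb (mem_Mi.2 hf) hk hv fun r => ?_)
  rw [← LinearEquiv.apply_symm_apply (spV i) (tmul r v), sp_mulVec,
    hfix _ (mem_line_iff.2 ⟨r, LinearEquiv.apply_symm_apply _ _⟩)]

theorem pe_tv_mulVec {i : κ} {v φ : β → F} {A : GL β F} (hA : (A : Mb) = 1 + vecMulVec v φ) (t : V) :
    spV i ((pe i A : Mn) *ᵥ t) = spV i t + tmul (slice φ (spV i t)) v := by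
  rw [← sp_mulVec, sp_pe, ← Matrix.toLin'_apply]
  refine LinearMap.congr_fun (f := Matrix.toLin' ((k2 (1 : GL (Rst i → β) F) A : GL _ F) : Matrix _ _ F))
    (g := LinearMap.id + (fac v).comp (slice φ)) (ext_tmul fun x y => ?_) (spV i t)
  rw [Matrix.toLin'_apply, k2_mulVec, LinearMap.add_apply, LinearMap.id_apply, LinearMap.comp_apply, slice_tmul,
    fac_apply, Units.val_one, Matrix.one_mulVec, hA, Matrix.add_mulVec, Matrix.one_mulVec, Matrix.vecMulVec_mulVec,
    op_smul_eq_smul, tmul_add_right, tmul_smul_right, tmul_smul_left]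

theorem pe_tv_sub_mem {i : κ} {v φ : β → F} {A : GL β F} (hA : (A : Mb) = 1 + vecMulVec v φ) (t : V) :
    (pe i A : Mn) *ᵥ t - t ∈ line i v :=
  mem_line_iff.2 ⟨slice φ (spV i t), by rw [map_sub, pe_tv_mulVec hA, add_sub_cancel_left]⟩

theorem pe_tv_fix {i : κ} {v φ : β → F} {A : GL β F} (hA : (A : Mb) = 1 + vecMulVec v φ) {u : β → F}
    (hu : φ ⬝ᵥ u = 0) {t : V} (ht : t ∈ line i u) : (pe i A : Mn) *ᵥ t = t := by
  obtain ⟨r, hr⟩ := mem_line_iff.1 ht
  refine (spV i).injective ?_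
  rw [pe_tv_mulVec hA, hr, slice_tmul, hu, zero_smul, tmul_zero_left, add_zero]

theorem pe_tv_range {i : κ} {v φ : β → F} (hφ : φ ≠ 0) {A : GL β F} (hA : (A : Mb) = 1 + vecMulVec v φ) :
    LinearMap.range (Matrix.toLin' ((pe i A : Mn) - 1)) = line i v := by
  obtain ⟨w, hw⟩ := exists_dual hφ
  rw [dotProduct_comm] at hw
  refine le_antisymm ?_ fun t ht => ?_
  · rintro _ ⟨t, rfl⟩
    rw [Matrix.toLin'_apply, Matrix.sub_mulVec, Matrix.one_mulVec]
    exact pe_tv_sub_mem hA t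
  obtain ⟨r, hr⟩ := mem_line_iff.1 ht
  refine ⟨(spV i).symm (tmul r w), (spV i).injective ?_⟩
  rw [Matrix.toLin'_apply, Matrix.sub_mulVec, Matrix.one_mulVec, map_sub, pe_tv_mulVec hA,
    LinearEquiv.apply_symm_apply, add_sub_cancel_left, slice_tmul, hw, one_smul, hr]

/-- One line to one line: all lines of the factor. -/
theorem Cx.slotMap_of_line (hM : Cx M) {g : GL X F} (hg : g ∈ M) {i j : κ} {v w : β → F} (hw : w ≠ 0)
    (hgv : (line i v).map (Matrix.toLin' (g : Mn)) = line j w) : SlotMap g i j := by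
  have hb := hM.hb
  haveI : Nonempty β := Fintype.card_pos_iff.1 (by omega)
  intro u hu
  obtain ⟨φ, hφ, hφu, hφv⟩ := exists_perp2 hb u v
  obtain ⟨A, hA⟩ := exists_tv hφu
  have hAm := tv_val hA
  set S : GL X F := pe i A
  have hS : S ∈ M := hM.pe_mem i (tv_det hφu hAm)
  set f := g * S * g⁻¹ with hf
  have hfM : f ∈ M := mul_mem (mul_mem hg hS) (inv_mem hg)
  have hfg : ∀ s, (f : Mn) *ᵥ ((g : Mn) *ᵥ s) = (g : Mn) *ᵥ ((S : Mn) *ᵥ s) := fun s => by
    rw [Matrix.mulVec_mulVec, ← Units.val_mul, hf, inv_mul_cancel_right, Units.val_mul, ← Matrix.mulVec_mulVec]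
  have hfix : ∀ t ∈ line j w, (f : Mn) *ᵥ t = t := fun t ht => by
    rw [← hgv] at ht
    obtain ⟨s, hs, rfl⟩ := ht
    rw [Matrix.toLin'_apply, hfg, pe_tv_fix hAm hφv hs]
  have hk := hM.fix_kron hfM hw hfix
  set W : Submodule F ((Rst j → β) × β → F) :=
    ((line i u).map (Matrix.toLin' (g : Mn))).map (spV j).toLinearMap with hW
  have hWd : finrank F W ≤ Fintype.card (Rst j → β) := by
    rw [hW, LinearEquiv.finrank_map_eq]
    refine (Submodule.finrank_map_le _ _).trans (le_of_eq ?_)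
    rw [finrank_line i hu, card_rst, card_rst]
  obtain ⟨φ', hφ'⟩ := exists_dual hφ
  obtain ⟨w', hw', hWeq⟩ := line_of_fix (hM.ctx2 j) hb hk hw (z := w) (fun r => by
    rw [← LinearEquiv.apply_symm_apply (spV j) (tmul r w), sp_mulVec,
      hfix _ (mem_line_iff.2 ⟨r, LinearEquiv.apply_symm_apply _ _⟩)]) hWd (fun t => by
    obtain ⟨s, rfl⟩ : ∃ s, t = spV j ((g : Mn) *ᵥ s) :=
      ⟨((g⁻¹ : GL X F) : Mn) *ᵥ (spV j).symm t, by rw [mulVec_inv_cancel, LinearEquiv.apply_symm_apply]⟩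
    rw [sp_mulVec, hfg, ← map_sub, ← Matrix.mulVec_sub]
    exact Submodule.mem_map_of_mem ⟨_, pe_tv_sub_mem hAm s, rfl⟩) (fun e => by
    rw [← map_one (sp (F := F) j)] at e
    have hS1 : S = 1 := conj_eq_one_iff.1 ((sp j).injective e)
    have h1 : A = 1 := pe_injective i (hS1.trans (map_one _).symm)
    have h2 : vecMulVec u φ = 0 := by
      rw [h1, Units.val_one] at hAm
      exact add_eq_left.1 hAm.symm
    exact vmv_ne_zero hu hφ h2)
  refine ⟨w', hw', ?_⟩
  refine Submodule.map_injective_of_injective (f := (spV (F := F) (β := β) j).toLinearMap) (spV j).injective ?_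
  rw [← hW, hWeq, line_eq_comap, ← Submodule.map_comp]
  simp

theorem kron_mem_Wr_two {i : κ} (h2 : Fintype.card κ ≤ 2) {g : GL X F} {A : GL (Rst i → β) F} {B : GL β F}
    (h : sp i g = k2 A B) : g ∈ Wr F κ β := by
  by_cases hs : ∀ l : κ, l = i
  · exact one_of_subsingleton hs g
  push Not at hs
  obtain ⟨l, hl⟩ := hs
  have hc : Fintype.card (Rst i) = 1 := by
    rw [Fintype.card_subtype_compl, Fintype.card_subtype_eq]
    have : 1 < Fintype.card κ := Fintype.one_lt_card_iff.2 ⟨l, i, hl⟩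
    omega
  obtain ⟨r, hr⟩ := Fintype.card_eq_one_iff.1 hc
  exact mem_Wr_of_sp h (one_of_subsingleton hr A)

/-- The elements of product shape at one factor. -/
theorem Cx.kron_mem (hM : Cx M) {i : κ} {g : GL X F} (hg : g ∈ M) {A : GL (Rst i → β) F} {B : GL β F}
    (h : sp i g = k2 A B) : g ∈ Wr F κ β := by
  classical
  have hb := hM.hb
  haveI : Nonempty β := Fintype.card_pos_iff.1 (by omega)
  haveI : Nontrivial β := Fintype.one_lt_card_iff_nontrivial.1 (by omega)
  by_cases h3 : Fintype.card κ ≤ 2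
  · exact kron_mem_Wr_two h3 h
  have hR2 : 2 ≤ Fintype.card (Rst i) := by
    rw [Fintype.card_subtype_compl, Fintype.card_subtype_eq]
    omega
  haveI : Nonempty (Rst i) := Fintype.card_pos_iff.1 (by omega)
  let emb : GL (Rst i → β) F →* GL ((Rst i → β) × β) F :=
    { toFun := fun A => k2 A 1
      map_one' := k2_one
      map_mul' := fun A A' => by rw [k2_mul, one_mul] }
  set Q := (Mi M i).comap emb ⊓ Geo.specialLinear (Rst i → β) F with hQ
  have hWQ : Wr F (Rst i) β ⊓ Geo.specialLinear (Rst i → β) F ≤ Q := by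
    rintro A' ⟨hA', hd⟩
    refine ⟨?_, hd⟩
    obtain ⟨g', hg'⟩ : ∃ g', sp i g' = k2 A' 1 := ⟨(sp i).symm (k2 A' 1), MulEquiv.apply_symm_apply _ _⟩
    show k2 A' 1 ∈ Mi M i
    rw [← hg']
    refine mem_Mi.2 (hM.mem_wr (mem_Wr_of_sp hg' hA') ?_)
    rw [← sp_det i, hg', k2_det, (mem_sl_iff A').1 hd, one_pow, one_mul, Units.val_one, Matrix.det_one, one_pow]
  have hQle : Q ≤ Wr F (Rst i) β := hM.ih i Q hWQ inf_le_right fun hall => by
    obtain ⟨j, hj⟩ : ∃ j, j ≠ i := Fintype.exists_ne_of_one_lt_card (by omega) i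
    obtain ⟨b₀⟩ := ‹Nonempty β›
    obtain ⟨φ₀, hφ₀, hφ₀v, -⟩ := exists_perp2 hb (Pi.single b₀ (1 : F)) (Pi.single b₀ 1)
    set N : Mb := vecMulVec (Pi.single b₀ 1) φ₀ with hN
    have hNn : N ≠ 0 := vmv_ne_zero (by simp) hφ₀
    have hN2 : N * N = 0 := by rw [hN, vmv_mul, hφ₀v, zero_smul]
    have hvec : wm (1 : Equiv.Perm (Rst i)) (fun _ => N) =
        vecMulVec (ptens fun _ : Rst i => (Pi.single b₀ (1 : F) : β → F)) (ptens fun _ : Rst i => φ₀) := by
      ext x y
      simp only [wm, Matrix.of_apply, hN, Matrix.vecMulVec_apply, ptens, ← Finset.prod_mul_distrib,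
        Equiv.Perm.coe_one, id_eq]
    have hperp : ptens (fun _ : Rst i => φ₀) ⬝ᵥ ptens (fun _ : Rst i => (Pi.single b₀ (1 : F) : β → F)) = 0 := by
      rw [dot_ptens]
      exact Finset.prod_eq_zero (Finset.mem_univ ⟨j, hj⟩) hφ₀v
    obtain ⟨T, hT⟩ := exists_tv hperp
    have hTm := tv_val hT
    rw [← hvec] at hTm
    obtain ⟨g', hg'⟩ : ∃ g', sp i g' = k2 T 1 := ⟨(sp i).symm (k2 T 1), MulEquiv.apply_symm_apply _ _⟩
    have hT1 : k2 T (1 : GL β F) ∈ Mi M i := (hall (det_tv hT hperp)).1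
    rw [← hg'] at hT1
    have hg'M : g' ∈ M := mem_Mi.1 hT1
    let gs : κ → Mb := fun l => if l = i then 1 else N
    have hg'v : (g' : Mn) = 1 + wm 1 gs := by
      apply (Matrix.reindex (spE i) (spE i)).injective
      rw [← sp_val, hg', k2_val, hTm, Matrix.add_kronecker, Units.val_one, Matrix.one_kronecker_one]
      rw [show Matrix.reindex (spE i) (spE i) ((1 : Mn) + wm 1 gs) = 1 + Matrix.reindex (spE i) (spE i) (wm 1 gs) by
        ext a b; simp [Matrix.one_apply], tmul_mulVec_wm]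
      simp only [gs, if_pos]
      congr 2
      exact wm_congr rfl fun l => (if_neg l.2).symm
    obtain ⟨k, hk⟩ : ∃ k : Rst i, k ≠ ⟨j, hj⟩ := Fintype.exists_ne_of_one_lt_card (by omega) _
    set gs' : Rst j → Mb := fun l => gs l.1
    refine hM.not_rich j ⟨Pi.single b₀ 1, φ₀, Matrix.toLin' (wm 1 gs'), by simp, hφ₀, hφ₀v, fun c hc => ?_,
      sp j g', mem_Mi.2 hg'M, fun t => ?_⟩
    · have hkj : k.1 ≠ j := fun e => hk (Subtype.ext e)
      have hsq : wm (1 : Equiv.Perm (Rst j)) gs' * wm 1 gs' = 0 := by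
        rw [wm1_mul]
        ext x y
        rw [wm, Matrix.of_apply, Finset.prod_eq_zero (Finset.mem_univ (⟨k.1, hkj⟩ : Rst j))]
        · rfl
        · simp only [Pi.mul_apply, gs', gs, if_neg k.2, hN2]
          rfl
      have hne : wm (1 : Equiv.Perm (Rst j)) gs' ≠ 0 := wm_eq_zero_iff _ fun l => by
        simp only [gs', gs]
        split_ifs
        · exact one_ne_zero
        · exact hNn
      have hM' : wm (1 : Equiv.Perm (Rst j)) gs' = c • 1 :=
        Matrix.toLin'.injective (hc.trans (by rw [map_smul, Matrix.toLin'_one]))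
      rw [hM', Matrix.smul_mul, one_mul, smul_smul, smul_eq_zero] at hsq
      have hc0 : c = 0 := mul_self_eq_zero.1 (hsq.resolve_right one_ne_zero)
      exact hne (by rw [hM', hc0, zero_smul])
    · have e : (sp j g' : Matrix _ _ F) = 1 + wm 1 gs' ⊗ₖ N := by
        rw [sp_val, hg'v, show Matrix.reindex (spE j) (spE j) ((1 : Mn) + wm 1 gs) =
          1 + Matrix.reindex (spE j) (spE j) (wm 1 gs) by ext a b; simp [Matrix.one_apply], tmul_mulVec_wm]
        simp only [gs, gs', if_neg hj]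
      rw [e, Matrix.add_mulVec, Matrix.one_mulVec]
      congr 1
      rw [← Matrix.toLin'_apply]
      refine LinearMap.congr_fun (f := Matrix.toLin' (wm 1 gs' ⊗ₖ N))
        (g := rootMap (Pi.single b₀ 1) φ₀ (Matrix.toLin' (wm 1 gs'))) (ext_tmul fun x y => ?_) t
      rw [Matrix.toLin'_apply, kronecker_mulVec, rootMap_apply, slice_tmul, map_smul, Matrix.toLin'_apply, hN,
        Matrix.vecMulVec_mulVec, op_smul_eq_smul, tmul_smul_right, tmul_smul_left]
  refine mem_Wr_of_sp h (mem_Wr_of_lines _ (Rst i) rfl A fun j v hv => ?_)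
  obtain ⟨w₀, hw₀⟩ := exists_dual hv
  obtain ⟨φ1, hφ1, hφ1v, -⟩ := exists_perp2 hb v v
  obtain ⟨z, hz⟩ := exists_dual hφ1
  rw [dotProduct_comm] at hz
  obtain ⟨φ2, hφ2, hφ2v, hφ2z⟩ := exists_perp2 hb v z
  obtain ⟨T1, hT1⟩ := exists_tv hφ1v
  obtain ⟨T2, hT2⟩ := exists_tv hφ2v
  have hT12 : ((T1 * T2 : GL β F) : Mb) = 1 + vecMulVec v (φ1 + φ2) := by
    rw [Units.val_mul, tv_val hT1, tv_val hT2, add_mul, one_mul, mul_add, mul_one, vmv_mul, hφ1v, zero_smul,
      add_zero, Matrix.vecMulVec_add]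
    abel
  have hne12 : φ1 + φ2 ≠ 0 := fun e => by
    have := congrArg (· ⬝ᵥ z) e
    simp [add_dotProduct, hz, hφ2z] at this
  set c : GL (Rst i → β) F → GL (Rst i → β) F := fun T => A * T * A⁻¹ with hc
  have hcond : ∀ (T : GL β F) (φ : β → F), φ ≠ 0 → φ ⬝ᵥ v = 0 → (T : Mb) = 1 + vecMulVec v φ →
      c (pe j T) ∈ Wr F (Rst i) β ∧
      ((c (pe j T) : Matrix (Rst i → β) (Rst i → β) F) - 1) * ((c (pe j T) : Matrix _ _ F) - 1) = 0 ∧
      ((c (pe j T) : Matrix (Rst i → β) (Rst i → β) F) - 1).rank =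
        Fintype.card β ^ (Fintype.card (Rst i) - 1) := by
    intro T φ hφ0 hφv hTm
    refine ⟨hQle ⟨?_, ?_⟩, ?_, ?_⟩
    · show k2 (A * pe j T * A⁻¹) 1 ∈ Mi M i
      have e : k2 (A * pe j T * A⁻¹) (1 : GL β F) = sp i g * sp i (pe j.1 T) * (sp i g)⁻¹ := by
        rw [h, sp_pe_ne j.2, eq_mul_inv_iff_mul_eq, k2_mul, k2_mul, inv_mul_cancel_right, one_mul, mul_one]
      rw [e]
      exact mul_mem (mul_mem (mem_Mi.2 hg) (mem_Mi.2 (hM.pe_mem j.1 (tv_det hφv hTm)))) (inv_mem (mem_Mi.2 hg))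
    · rw [hc]
      refine (mem_sl_iff _).2 ?_
      rw [Units.val_mul, Units.val_mul, Matrix.det_units_conj, pe_det, tv_det hφv hTm, one_pow]
    · have e : ((c (pe j T) : GL (Rst i → β) F) : Matrix _ _ F) - 1 =
          (A : Matrix _ _ F) * ((pe j T : Matrix (Rst i → β) (Rst i → β) F) - 1) *
            ((A⁻¹ : GL (Rst i → β) F) : Matrix _ _ F) := by
        rw [hc, mul_sub, sub_mul, mul_one, ← Units.val_mul, ← Units.val_mul, ← Units.val_mul, mul_inv_cancel,
          Units.val_one]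
      have h0 : ((pe j T : Matrix (Rst i → β) (Rst i → β) F) - 1) *
          ((pe j T : Matrix (Rst i → β) (Rst i → β) F) - 1) = 0 := by
        refine Matrix.ext_iff_mulVec.2 fun t => ?_
        have hu : ((pe j T : Matrix (Rst i → β) (Rst i → β) F) - 1) *ᵥ t ∈ line j v := by
          rw [Matrix.sub_mulVec, Matrix.one_mulVec]
          exact pe_tv_sub_mem hTm t
        rw [Matrix.zero_mulVec, ← Matrix.mulVec_mulVec]
        generalize ((pe j T : Matrix (Rst i → β) (Rst i → β) F) - 1) *ᵥ t = u at hu ⊢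
        rw [Matrix.sub_mulVec, Matrix.one_mulVec, pe_tv_fix hTm hφv hu, sub_self]
      rw [e]
      calc _ = (A : Matrix _ _ F) * (((pe j T : Matrix (Rst i → β) (Rst i → β) F) - 1) *
          ((((A⁻¹ : GL (Rst i → β) F) : Matrix _ _ F) * (A : Matrix _ _ F)) *
            ((pe j T : Matrix (Rst i → β) (Rst i → β) F) - 1))) * ((A⁻¹ : GL (Rst i → β) F) : Matrix _ _ F) := by
            simp only [mul_assoc]
        _ = 0 := by rw [← Units.val_mul, inv_mul_cancel, Units.val_one, one_mul, h0, mul_zero, zero_mul]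
    · have h1 := rank_conj_sub (pe j T) A⁻¹ (1 : F)
      simp only [inv_inv, one_smul] at h1
      rw [hc, h1, Matrix.rank, ← Matrix.toLin'_apply', pe_tv_range hφ0 hTm, finrank_line j hv, card_rst]
  have h12 : c (pe j T1) * c (pe j T2) = c (pe j (T1 * T2)) := by
    rw [hc, map_mul]; group
  obtain ⟨z', hz', k, w, ψ, B', hw, hψ, -, hB', hzeq⟩ := exists_tv_of_three hb hR2 (z₁ := c (pe j T1))
    (z₂ := c (pe j T2)) (by
      intro z hz
      simp only [Set.mem_insert_iff, Set.mem_singleton_iff] at hz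
      rcases hz with rfl | rfl | rfl
      · exact hcond T1 φ1 hφ1 hφ1v (tv_val hT1)
      · exact hcond T2 φ2 hφ2 hφ2v (tv_val hT2)
      · rw [h12]
        exact hcond _ _ hne12 (by rw [add_dotProduct, hφ1v, hφ2v, add_zero]) hT12)
  obtain ⟨T, φ, hφ0, hTm, hzT⟩ : ∃ (T : GL β F) (φ : β → F), φ ≠ 0 ∧ (T : Mb) = 1 + vecMulVec v φ ∧
      z' = c (pe j T) := by
    simp only [Set.mem_insert_iff, Set.mem_singleton_iff] at hz'
    rcases hz' with rfl | rfl | rfl
    · exact ⟨T1, φ1, hφ1, tv_val hT1, rfl⟩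
    · exact ⟨T2, φ2, hφ2, tv_val hT2, rfl⟩
    · exact ⟨T1 * T2, φ1 + φ2, hne12, hT12, h12⟩
  refine ⟨k, w, hw, map_line_eq_of_le hv hw ?_⟩
  rw [← pe_tv_range hφ0 hTm, ← pe_tv_range hψ hB', ← hzeq, hzT]
  rintro _ ⟨_, ⟨s, rfl⟩, rfl⟩
  refine ⟨(A : Matrix _ _ F) *ᵥ s, ?_⟩
  simp only [Matrix.toLin'_apply, hc, Units.val_mul, Matrix.sub_mulVec, Matrix.one_mulVec, ← Matrix.mulVec_mulVec,
    inv_mulVec_cancel, Matrix.mulVec_sub]

/-- One line to one line: in the stabiliser. -/
theorem Cx.line_to_line (hM : Cx M) {g : GL X F} (hg : g ∈ M) {i j : κ} {v w : β → F} (hw : w ≠ 0)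
    (hgv : (line i v).map (Matrix.toLin' (g : Mn)) = line j w) : g ∈ Wr F κ β := by
  classical
  haveI : Nonempty β := Fintype.card_pos_iff.1 (by have := hM.hb; omega)
  obtain ⟨A, B, hAB⟩ := isKron_iff.1 (kron_of_slotMap (hM.slotMap_of_line hg hw hgv))
  by_cases h3 : Fintype.card κ ≤ 2
  · exact (Subgroup.mul_mem_cancel_left _ (wgl_mem _ _)).1 (kron_mem_Wr_two h3 hAB)
  by_cases hij : i = j
  · subst hij
    rw [Equiv.swap_self] at hAB
    rw [show (Equiv.refl κ : Equiv.Perm κ) = 1 from rfl, wgl_one, one_mul] at hAB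
    exact hM.kron_mem hg hAB
  obtain ⟨l, hl⟩ : ∃ l, l ∉ ({i, j} : Finset κ) := by
    by_contra hcon
    push Not at hcon
    have := Finset.card_le_card (fun x _ => hcon x : (Finset.univ : Finset κ) ⊆ {i, j})
    rw [Finset.card_univ] at this
    have := Finset.card_le_two (a := i) (b := j)
    omega
  simp only [Finset.mem_insert, Finset.mem_singleton, not_or] at hl
  obtain ⟨ks, hks, -, hdet⟩ := exists_swap (F := F) (β := β) (i := l) (j := i) (k := j) (Ne.symm hl.1) (Ne.symm hl.2)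
  have hP := hM.mem_wr (wgl_mem (Equiv.swap i j) ks) hdet
  have hsplit : wgl (Equiv.swap i j) ks = wgl 1 ks * wgl (Equiv.swap i j) 1 := by
    rw [wgl_mul, mul_one]
    congr 1
    funext k; simp
  have h' : sp i (wgl (Equiv.swap i j) ks * g) =
      k2 (wgl (rperm (i := i) (1 : Equiv.Perm κ) rfl) (fun k => ks k.1) * A) (ks i * B) := by
    rw [hsplit, mul_assoc, map_mul, hAB, sp_wgl (1 : Equiv.Perm κ) rfl, k2_mul]
  exact (Subgroup.mul_mem_cancel_left _ (wgl_mem _ _)).1 (hM.kron_mem (mul_mem hP hg) h')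

end Cfsg.Agent.Classical.TensorPow
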