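import Cfsg.Agent.Lib.Classical.TensorPow.Comp

/-!
The rank of a product of chosen involutions at all slots, for factors of dimension three.
-/

set_option autoImplicit false
set_option linter.unusedSectionVars false

namespace Cfsg.Agent.Classical.TensorPow

open Matrix Module MaxTv TensorMax

variable {F : Type*} [Field F] [Fintype F] {κ β : Type} [Fintype κ] [DecidableEq κ] [Fintype β] [DecidableEq β]

local notation "X" => (κ → β)
local notation "Mn" => Matrix (κ → β) (κ → β) F
local notation "Mb" => Matrix β β F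

/-- An involutory permutation matrix with a single fixed point: the two ranks. -/
theorem rank_invol_perm {α : Type} [Fintype α] [DecidableEq α] {f : α → α} (hf : ∀ x, f (f x) = x) {c₀ : α}
    (hc : ∀ x, f x = x ↔ x = c₀) {P : Matrix α α F} (hP : ∀ x y, P x y = if x = f y then 1 else 0) {μ : F}
    (hμ : μ = 1 ∨ μ = -1) :
    2 * (μ • P - 1).rank + 1 = Fintype.card α ∨ 2 * (μ • P - 1).rank = Fintype.card α + 1 := by
  classical
  set e := Fintype.equivFin α
  let Y : Finset α := Finset.univ.filter fun x => e x < e (f x)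
  have hne : ∀ y : Y, y.1 ≠ f y.1 := fun y h => by
    have := (Finset.mem_filter.1 y.2).2
    rw [← h] at this
    exact lt_irrefl _ this
  have hnot : ∀ y y' : Y, y.1 ≠ f y'.1 := fun y y' h => by
    have h1 := (Finset.mem_filter.1 y.2).2
    have h2 := (Finset.mem_filter.1 y'.2).2
    rw [h, hf] at h1
    exact lt_irrefl _ (h1.trans h2)
  have hfix : ∀ y : Y, y.1 ≠ c₀ := fun y h => hne y ((hc y.1).2 h).symm
  have hfix' : ∀ y : Y, f y.1 ≠ c₀ := fun y h => hne y (by
    have h1 := (hc (f y.1)).2 h
    rwa [hf] at h1)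
  have hcard : 2 * Fintype.card Y + 1 = Fintype.card α := by
    have hg : Function.Bijective (fun p : Y ⊕ Y ⊕ Unit => match p with
        | .inl y => y.1
        | .inr (.inl y) => f y.1
        | .inr (.inr _) => c₀) := by
      constructor
      · rintro (y | y | ⟨⟩) (y' | y' | ⟨⟩) h <;> simp only at h
        · exact congrArg Sum.inl (Subtype.ext h)
        · exact absurd h (hnot y y')
        · exact absurd h (hfix y)
        · exact absurd h.symm (hnot y' y)
        · exact congrArg (fun z => Sum.inr (Sum.inl z)) (Subtype.ext (by rw [← hf y.1, h, hf]))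
        · exact absurd h (hfix' y)
        · exact absurd h.symm (hfix y')
        · exact absurd h.symm (hfix' y')
        · rfl
      · intro x
        rcases lt_trichotomy (e x) (e (f x)) with h | h | h
        · exact ⟨.inl ⟨x, by simp [Y, h]⟩, rfl⟩
        · exact ⟨.inr (.inr ()), ((hc x).1 (e.injective h).symm).symm⟩
        · exact ⟨.inr (.inl ⟨f x, by simp [Y, hf, h]⟩), hf x⟩
    have := Fintype.card_of_bijective hg
    rw [Fintype.card_sum, Fintype.card_sum, Fintype.card_unit] at this
    omega
  have hPP : P * P = 1 := by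
    ext x z
    rw [Matrix.mul_apply, Finset.sum_eq_single (f z)]
    · rw [hP, hP, hf, if_pos rfl, mul_one, Matrix.one_apply]
    · intro y _ hy
      rw [hP y z, if_neg hy, mul_zero]
    · simp
  have hlo : Fintype.card Y ≤ (P - 1).rank := by
    have hsub : ((P - 1).submatrix (fun y : Y => y.1) (fun y : Y => f y.1)) = (1 : Matrix Y Y F) := by
      ext y y'
      rw [Matrix.submatrix_apply, Matrix.sub_apply, hP, hf, Matrix.one_apply_ne (hnot y y'), sub_zero,
        Matrix.one_apply]
      exact if_congr Subtype.ext_iff.symm rfl rfl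
    have := (P - 1).rank_submatrix_le (fun y : Y => y.1) (fun y : Y => f y.1)
    rwa [hsub, Matrix.rank_one] at this
  have hhi : (2 : F) ≠ 0 → Fintype.card Y + 1 ≤ (P + 1).rank := fun h2 => by
    let r : Option Y → α := fun o => o.elim c₀ fun y => y.1
    let c : Option Y → α := fun o => o.elim c₀ fun y => f y.1
    let d : Option Y → F := fun o => o.elim 2 fun _ => 1
    have hsub : (P + 1).submatrix r c = Matrix.diagonal d := by
      have h00 : f c₀ = c₀ := (hc c₀).2 rfl
      ext o o'
      rcases o with _ | y <;> rcases o' with _ | y'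
      · simp [r, c, d, hP, h00, one_add_one_eq_two]
      · simp [r, c, hP, hf, Ne.symm (hfix y'), Ne.symm (hfix' y')]
      · simp [r, c, hP, h00, hfix y]
      · by_cases h : y = y'
        · subst h; simp [r, c, d, hP, hf, hnot y y]
        · simp [r, c, hP, hf, hnot y y', h, Subtype.coe_injective.ne h]
    have := (P + 1).rank_submatrix_le r c
    rw [hsub, Matrix.rank_of_isUnit _ (by
      rw [Matrix.isUnit_iff_isUnit_det, Matrix.det_diagonal, isUnit_iff_ne_zero, Finset.prod_ne_zero_iff]
      rintro (_ | y) -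
      · exact h2
      · exact one_ne_zero), Fintype.card_option] at this
    exact this
  by_cases h2 : (2 : F) = 0
  · have hμ1 : μ = 1 := by
      rcases hμ with h | h
      · exact h
      · linear_combination h - h2
    rw [hμ1, one_smul]
    have hsq : (P - 1) * (P - 1) = 0 := by
      rw [sub_mul, one_mul, mul_sub, mul_one, hPP]
      ext x y
      simp only [Matrix.sub_apply, Matrix.zero_apply]
      linear_combination ((1 : Matrix α α F) x y - P x y) * h2
    have := Matrix.rank_add_rank_le_card_of_mul_eq_zero (A := P - 1) (B := P - 1) hsq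
    left; omega
  · have hi := rank_invol h2 hPP
    have := hhi h2
    rcases hμ with rfl | rfl
    · rw [one_smul]; left; omega
    · rw [show (-1 : F) • P - 1 = -(P + 1) by rw [neg_smul, one_smul, neg_add, sub_eq_add_neg], rank_neg]
      right; omega

/-- A basis in which the chosen involution is a negated transposition. -/
theorem exists_flip_basis (hb : 3 ≤ Fintype.card β) (hm : Fintype.card β = 3) {a b c : β} (hab : a ≠ b)
    (hac : a ≠ c) (hbc : b ≠ c) {S : GL β F} (hS : SigT S) :
    ∃ h : GL β F, ∀ r k, ((S : Mb) * (h : Mb)) r k = -((h : Mb) r (Equiv.swap a b k)) := by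
  classical
  obtain ⟨v, φ, hW⟩ := hS
  obtain ⟨hv, hφ, hφv, hSm⟩ := hW
  have hall : ∀ k, k = a ∨ k = b ∨ k = c := fun k => by
    have h : ({a, b, c} : Finset β) = Finset.univ := Finset.eq_univ_of_card _ (by
      rw [Finset.card_insert_of_notMem (by simp [hab, hac]), Finset.card_pair hbc, hm])
    have := Finset.mem_univ k
    rw [← h] at this
    simpa using this
  obtain ⟨q, hq1, hq⟩ : ∃ q, φ ⬝ᵥ q = 1 ∧ ∀ r : F, q ≠ r • v := by
    obtain ⟨q₀, hq₀⟩ := exists_dual hφ
    rw [dotProduct_comm] at hq₀
    by_cases h : ∃ r : F, q₀ = r • v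
    · obtain ⟨r, hr⟩ := h
      obtain ⟨w, -, hwφ, hwv⟩ : ∃ w : β → F, w ≠ 0 ∧ φ ⬝ᵥ w = 0 ∧ ∀ t : F, w ≠ t • v := by
        obtain ⟨ψ, hψ⟩ := exists_dual hv
        obtain ⟨w, hw, h1, h2⟩ := exists_perp2 hb φ ψ
        rw [dotProduct_comm] at h1 h2
        refine ⟨w, hw, h1, fun t e => hw ?_⟩
        rw [e, dotProduct_smul, hψ, smul_eq_mul, mul_one] at h2
        rw [e, h2, zero_smul]
      refine ⟨q₀ + w, by rw [dotProduct_add, hq₀, hwφ, add_zero], fun t e => hwv (t - r) ?_⟩
      rw [sub_smul, ← e, ← hr, add_sub_cancel_left]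
    · push Not at h
      exact ⟨q₀, hq₀, h⟩
  obtain ⟨w, -, hwφ, hwv⟩ : ∃ w : β → F, w ≠ 0 ∧ φ ⬝ᵥ w = 0 ∧ ∀ t : F, w ≠ t • (v - (2 : F) • q) := by
    have hne : v - (2 : F) • q ≠ 0 := fun e => by
      by_cases h2 : (2 : F) = 0
      · rw [h2, zero_smul, sub_zero] at e; exact hv e
      · exact hq (2 : F)⁻¹ (by rw [sub_eq_zero.1 e, smul_smul, inv_mul_cancel₀ h2, one_smul])
    obtain ⟨ψ, hψ⟩ := exists_dual hne
    obtain ⟨w, hw, h1, h2⟩ := exists_perp2 hb φ ψ
    rw [dotProduct_comm] at h1 h2
    refine ⟨w, hw, h1, fun t e => hw ?_⟩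
    rw [e, dotProduct_smul, hψ, smul_eq_mul, mul_one] at h2
    rw [e, h2, zero_smul]
  let hmat : Mb := Matrix.of fun r k => if k = a then q r else if k = b then (q - v) r else w r
  have happ : ∀ y : β → F, hmat *ᵥ y = y a • q + y b • (q - v) + y c • w := fun y => by
    funext r
    have h : ({a, b, c} : Finset β) = Finset.univ := Finset.eq_univ_iff_forall.2 fun k => by simpa using hall k
    rw [Matrix.mulVec, dotProduct, ← h, Finset.sum_insert (by simp [hab, hac]), Finset.sum_pair hbc]
    simp only [hmat, Matrix.of_apply, Pi.add_apply, Pi.smul_apply, smul_eq_mul, Pi.sub_apply, if_true,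
      if_neg hab.symm, if_neg hac.symm, if_neg hbc.symm]
    ring
  have hdet : hmat.det ≠ 0 := by
    intro hdet
    obtain ⟨y, hy, hy0⟩ := Matrix.exists_mulVec_eq_zero_iff.2 hdet
    rw [happ] at hy0
    have h1 := congrArg (φ ⬝ᵥ ·) hy0
    simp only [dotProduct_add, dotProduct_smul, dotProduct_sub, hq1, hφv, hwφ, smul_eq_mul, mul_zero, add_zero,
      dotProduct_zero] at h1
    have hya : y a = y b := by linear_combination h1
    have h2 : y c • w = y a • (v - (2 : F) • q) := by
      rw [← hya] at hy0
      linear_combination (norm := module) hy0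
    by_cases hyc : y c = 0
    · rw [hyc, zero_smul, eq_comm, smul_eq_zero] at h2
      have hne : v - (2 : F) • q ≠ 0 := fun e => hwv 0 (by
        exfalso
        by_cases h20 : (2 : F) = 0
        · rw [h20, zero_smul, sub_zero] at e; exact hv e
        · exact hq (2 : F)⁻¹ (by rw [sub_eq_zero.1 e, smul_smul, inv_mul_cancel₀ h20, one_smul]))
      have hya0 : y a = 0 := h2.resolve_right hne
      refine hy (funext fun k => ?_)
      rcases hall k with rfl | rfl | rfl
      · exact hya0
      · exact hya ▸ hya0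
      · exact hyc
    · exact hwv ((y c)⁻¹ * y a) (by rw [← smul_smul, ← h2, smul_smul, inv_mul_cancel₀ hyc, one_smul])
  refine ⟨Matrix.GeneralLinearGroup.mkOfDetNeZero hmat hdet, fun r k => ?_⟩
  show ((S : Mb) * hmat) r k = -(hmat r (Equiv.swap a b k))
  have hcol : ((S : Mb) * hmat) r k = ((S : Mb) *ᵥ fun r => hmat r k) r := rfl
  have hSx : ∀ x, (S : Mb) *ᵥ x = -x + (φ ⬝ᵥ x) • v := fun x => by
    rw [hSm, Matrix.add_mulVec, Matrix.neg_mulVec, Matrix.one_mulVec, Matrix.vecMulVec_mulVec, op_smul_eq_smul]
  rw [hcol]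
  rcases hall k with rfl | rfl | rfl
  · rw [show (fun r => hmat r k) = q from funext fun r => by simp [hmat], hSx, hq1, Equiv.swap_apply_left]
    simp [hmat, hab.symm]
    ring
  · rw [show (fun r => hmat r k) = q - v from funext fun r => by simp [hmat, hab.symm], hSx, dotProduct_sub, hq1,
      hφv, Equiv.swap_apply_right]
    simp [hmat]
    ring
  · rw [show (fun r => hmat r k) = w from funext fun r => by simp [hmat, hac.symm, hbc.symm], hSx, hwφ,
      Equiv.swap_apply_of_ne_of_ne hac.symm hbc.symm]
    simp [hmat, hac.symm, hbc.symm]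

/-- The product of chosen involutions at all slots. -/
theorem rank_base (hm : Fintype.card β = 3) {D : κ → GL β F} (hD : ∀ l, SigT (D l)) :
    2 * ((wgl 1 D : Mn) - 1).rank + 1 = Fintype.card (κ → β) ∨
      2 * ((wgl 1 D : Mn) - 1).rank = Fintype.card (κ → β) + 1 := by
  classical
  obtain ⟨a, b, c, hab, hac, hbc, -⟩ := Finset.card_eq_three.1 ((Finset.card_univ (α := β)).trans hm)
  choose h hh using fun l => exists_flip_basis hm.ge hm hab hac hbc (hD l)
  set τ := Equiv.swap a b
  let P : Matrix (κ → β) (κ → β) F := Matrix.of fun x y => if x = τ ∘ y then 1 else 0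
  have hmul : (wgl 1 D : Mn) * (wgl 1 h : Mn) = (wgl 1 h : Mn) * (((-1 : F) ^ Fintype.card κ) • P) := by
    rw [← Units.val_mul, wgl_mul, mul_one]
    ext x y
    have e : ∀ x' y' : X, P x' y' = if x' = τ ∘ y' then 1 else 0 := fun _ _ => rfl
    rw [Matrix.mul_smul, Matrix.smul_apply, Matrix.mul_apply, Finset.sum_eq_single (τ ∘ y)]
    · rw [e, if_pos rfl, mul_one, wgl_val, wgl_val, wm, wm, Matrix.of_apply, Matrix.of_apply, smul_eq_mul,
        ← Finset.card_univ, ← Finset.prod_const, ← Finset.prod_mul_distrib]
      refine Finset.prod_congr rfl fun l _ => ?_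
      simp only [Units.val_mul, Equiv.Perm.coe_one, id_eq, Function.comp_apply]
      rw [hh l, neg_one_mul]
    · intro z _ hz
      rw [e, if_neg hz, mul_zero]
    · simp
  have hr := rank_conj_sub (wgl 1 D) (wgl 1 h) (1 : F)
  simp only [one_smul] at hr
  have hconj : (((wgl 1 h)⁻¹ * wgl 1 D * wgl 1 h : GL X F) : Mn) = ((-1 : F) ^ Fintype.card κ) • P := by
    rw [Units.val_mul, Units.val_mul, mul_assoc, hmul, ← mul_assoc, ← Units.val_mul, inv_mul_cancel, Units.val_one,
      one_mul]
  rw [hconj] at hr
  rw [← hr]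
  refine rank_invol_perm (f := fun x => τ ∘ x) (c₀ := fun _ => c) (fun x => ?_) (fun x => ?_) (fun _ _ => rfl)
    (neg_one_pow_eq_or F _)
  · funext l; simp [τ, Equiv.swap_apply_self]
  · constructor
    · intro h'
      funext l
      have h1 := congrFun h' l
      simp only [Function.comp_apply, τ] at h1
      by_contra hne
      have hab' : x l = a ∨ x l = b := by
        have hu : ({a, b, c} : Finset β) = Finset.univ := Finset.eq_univ_of_card _ (by
          rw [Finset.card_insert_of_notMem (by simp [hab, hac]), Finset.card_pair hbc, hm])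
        have := Finset.mem_univ (x l)
        rw [← hu] at this
        simp only [Finset.mem_insert, Finset.mem_singleton] at this
        tauto
      rcases hab' with e | e <;> rw [e] at h1
      · rw [Equiv.swap_apply_left] at h1; exact hab h1.symm
      · rw [Equiv.swap_apply_right] at h1; exact hab h1
    · rintro rfl
      funext l
      exact Equiv.swap_apply_of_ne_of_ne hac.symm hbc.symm

end Cfsg.Agent.Classical.TensorPow
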