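import Cfsg.Agent.Lib.Classical.TensorPow.Swap

/-!
Fusion: transvections at a factor and the chosen involutions control their conjugates inside the overgroup.
-/

set_option autoImplicit false
set_option linter.unusedSectionVars false

open scoped Kronecker

namespace Cfsg.Agent.Classical.TensorPow

open Matrix Module MaxTv TensorMax

variable {F : Type*} [Field F] [Fintype F] {κ β : Type} [Fintype κ] [DecidableEq κ] [Fintype β] [DecidableEq β]

local notation "X" => (κ → β)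
local notation "V" => ((κ → β) → F)
local notation "Mn" => Matrix (κ → β) (κ → β) F
local notation "Mb" => Matrix β β F

variable {M : Subgroup (GL (κ → β) F)}

theorem Cx.nontriv (hM : Cx M) : Nontrivial β := Fintype.one_lt_card_iff_nontrivial.1 (by have := hM.hb; omega)

theorem Cx.nempty (hM : Cx M) : Nonempty β := Fintype.card_pos_iff.1 (by have := hM.hb; omega)

theorem isTv_quad {i : κ} {T : GL X F} (h : IsTv i T) :
    ((T : Mn) - 1) * ((T : Mn) - 1) = 0 ∧ ((T : Mn) - 1).rank = Fintype.card β ^ (Fintype.card κ - 1) := by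
  obtain ⟨v, φ, A, hv, hφ, hφv, hA, rfl⟩ := h
  constructor
  · rw [← et_val, hA, et_add, et_one, add_sub_cancel_left, et_mul, vmv_mul, hφv, zero_smul, ← zero_smul F (1 : Mb),
      et_smul, zero_smul]
  · rw [Matrix.rank, ← Matrix.toLin'_apply', pe_tv_range hφ hA, finrank_line i hv, card_rst]

theorem quad_conj (g T : GL X F) :
    (((T : Mn) - 1) * ((T : Mn) - 1) = 0 →
      (((g * T * g⁻¹ : GL X F) : Mn) - 1) * (((g * T * g⁻¹ : GL X F) : Mn) - 1) = 0) ∧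
    (((g * T * g⁻¹ : GL X F) : Mn) - 1).rank = ((T : Mn) - 1).rank := by
  constructor
  · intro h
    have e : ((g * T * g⁻¹ : GL X F) : Mn) - 1 = (g : Mn) * ((T : Mn) - 1) * ((g⁻¹ : GL X F) : Mn) := by
      rw [mul_sub, sub_mul, mul_one, ← Units.val_mul, ← Units.val_mul, ← Units.val_mul, mul_inv_cancel, Units.val_one]
    rw [e]
    calc _ = (g : Mn) * (((T : Mn) - 1) * ((((g⁻¹ : GL X F) : Mn) * (g : Mn)) * ((T : Mn) - 1))) *
        ((g⁻¹ : GL X F) : Mn) := by simp only [mul_assoc]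
      _ = 0 := by rw [← Units.val_mul, inv_mul_cancel, Units.val_one, one_mul, h, mul_zero, zero_mul]
  · have h := rank_conj_sub T g⁻¹ (1 : F)
    simpa using h

/-- Conjugates of transvections being transvections. -/
theorem Cx.tv_to_tv (hM : Cx M) {x : GL X F} (hx : x ∈ M) {i j : κ} {T : GL X F} (hT : IsTv i T)
    (hz : IsTv j (x * T * x⁻¹)) : x ∈ Wr F κ β := by
  obtain ⟨v, φ, A, hv, hφ, -, hA, rfl⟩ := hT
  obtain ⟨w, ψ, B, hw, hψ, -, hB, hz⟩ := hz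
  refine hM.line_to_line hx hw (map_line_eq_of_le (i := i) (j := j) hv hw ?_)
  rw [← pe_tv_range hφ hA, ← pe_tv_range hψ hB, ← hz]
  rintro _ ⟨_, ⟨s, rfl⟩, rfl⟩
  refine ⟨(x : Mn) *ᵥ s, ?_⟩
  simp only [Matrix.toLin'_apply, Units.val_mul, Matrix.sub_mulVec, Matrix.one_mulVec, ← Matrix.mulVec_mulVec,
    inv_mulVec_cancel, Matrix.mulVec_sub]

theorem Cx.cent_tv (hM : Cx M) {x : GL X F} (hx : x ∈ M) {i : κ} {T : GL X F} (hT : IsTv i T)
    (hc : x * T = T * x) : x ∈ Wr F κ β :=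
  hM.tv_to_tv hx hT (j := i) (by rwa [hc, mul_inv_cancel_right])

/-- Fixing the line and the hyperplane and trivial between them. -/
def Uni (v φ : β → F) (a : GL β F) : Prop :=
  (a : Matrix β β F) *ᵥ v = v ∧ φ ᵥ* (a : Matrix β β F) = φ ∧
    ∀ w, φ ⬝ᵥ w = 0 → ∃ k : F, (a : Matrix β β F) *ᵥ w = w + k • v

/-- Fixing the hyperplane pointwise. -/
def Shear (φ : β → F) (a : GL β F) : Prop :=
  φ ᵥ* (a : Matrix β β F) = φ ∧ ∀ w, φ ⬝ᵥ w = 0 → (a : Matrix β β F) *ᵥ w = w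

theorem exists_ker_basis (hm : Fintype.card β = 3) {v φ : β → F} (hv : v ≠ 0) (hφ : φ ≠ 0) (hφv : φ ⬝ᵥ v = 0) :
    ∃ w₀ ψ : β → F, φ ⬝ᵥ w₀ = 0 ∧ ψ ⬝ᵥ v = 0 ∧ ψ ⬝ᵥ w₀ = 1 ∧
      ∀ w, φ ⬝ᵥ w = 0 → ∃ k : F, w = k • v + (ψ ⬝ᵥ w) • w₀ := by
  let L : (β → F) →ₗ[F] F :=
    { toFun := fun x => φ ⬝ᵥ x
      map_add' := fun a b => dotProduct_add φ a b
      map_smul' := fun c a => dotProduct_smul c φ a }
  have hLs : LinearMap.range L = ⊤ := by
    refine LinearMap.range_eq_top.2 fun r => ?_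
    obtain ⟨y, hy⟩ := exists_dual hφ
    exact ⟨r • y, by show φ ⬝ᵥ (r • y) = r; rw [dotProduct_smul, dotProduct_comm, hy, smul_eq_mul, mul_one]⟩
  have hdim : finrank F (LinearMap.ker L) = 2 := by
    have := L.finrank_range_add_finrank_ker
    rw [hLs, finrank_top, finrank_self, Module.finrank_fintype_fun_eq_card, hm] at this
    omega
  obtain ⟨w₀, hw₀L, hw₀⟩ : ∃ w₀ ∈ LinearMap.ker L, w₀ ∉ (F ∙ v) := by
    by_contra hcon
    push Not at hcon
    have := Submodule.finrank_mono (s := LinearMap.ker L) (t := F ∙ v) hcon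
    rw [hdim, finrank_span_singleton hv] at this
    omega
  obtain ⟨ψ, hψ1, hψ0⟩ := exists_dot_one hw₀
  refine ⟨w₀, ψ, hw₀L, hψ0 v (Submodule.mem_span_singleton_self v), hψ1, fun w hw => ?_⟩
  have hle : Submodule.span F ({v, w₀} : Set (β → F)) ≤ LinearMap.ker L := by
    rw [Submodule.span_le]
    rintro y (rfl | rfl)
    · exact hφv
    · exact hw₀L
  have hind : LinearIndependent F ![v, w₀] := by
    rw [LinearIndependent.pair_iff' hv]
    intro a ha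
    exact hw₀ (Submodule.mem_span_singleton.2 ⟨a, ha⟩)
  have heq : Submodule.span F ({v, w₀} : Set (β → F)) = LinearMap.ker L := by
    refine Submodule.eq_of_le_of_finrank_le hle ?_
    rw [hdim]
    have h1 := finrank_span_eq_card hind
    rw [Fintype.card_fin, Matrix.range_cons_cons_empty] at h1
    exact h1.ge
  have hm' : w ∈ Submodule.span F ({v, w₀} : Set (β → F)) := heq ▸ (show w ∈ LinearMap.ker L from hw)
  obtain ⟨α, γ, rfl⟩ := Submodule.mem_span_pair.1 hm'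
  refine ⟨α, ?_⟩
  rw [dotProduct_add, dotProduct_smul, dotProduct_smul, hψ0 v (Submodule.mem_span_singleton_self v), hψ1,
    smul_zero, zero_add, smul_eq_mul, mul_one]

theorem uni_of_tri (hm : Fintype.card β = 3) {v φ : β → F} (hv : v ≠ 0) (hφ : φ ≠ 0) (hφv : φ ⬝ᵥ v = 0)
    {a b : GL β F} (ha : Tri v φ a) (hb : Tri v φ b) : Uni v φ (a * b * a⁻¹ * b⁻¹) := by
  obtain ⟨w₀, ψ, hw₀, hψv, hψw, hspan⟩ := exists_ker_basis hm hv hφ hφv
  let μ : GL β F → F := fun g => ψ ⬝ᵥ ((g : Mb) *ᵥ w₀)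
  have hker : ∀ g, Tri v φ g → ∀ w, φ ⬝ᵥ w = 0 → φ ⬝ᵥ ((g : Mb) *ᵥ w) = 0 := fun g hg w hw => by
    obtain ⟨c, -, h2⟩ := hg
    rw [Matrix.dotProduct_mulVec, h2, smul_dotProduct, hw, smul_zero]
  have hmul : ∀ g g', Tri v φ g → Tri v φ g' → μ (g * g') = μ g * μ g' := fun g g' hg hg' => by
    obtain ⟨k, hk⟩ := hspan _ (hker g' hg' w₀ hw₀)
    obtain ⟨c, hc, -⟩ := hg
    simp only [μ]
    rw [Units.val_mul, ← Matrix.mulVec_mulVec]
    conv_lhs => rw [hk]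
    rw [Matrix.mulVec_add, Matrix.mulVec_smul, Matrix.mulVec_smul, hc, dotProduct_add, dotProduct_smul,
      dotProduct_smul, dotProduct_smul, hψv, smul_eq_mul, smul_eq_mul, smul_eq_mul]
    ring
  have h1 : μ 1 = 1 := by simp only [μ, Units.val_one, Matrix.one_mulVec, hψw]
  have hc : μ (a * b * a⁻¹ * b⁻¹) = 1 := by
    have e1 := hmul _ _ ha (tri_inv hv ha)
    have e2 := hmul _ _ hb (tri_inv hv hb)
    rw [mul_inv_cancel, h1] at e1 e2
    rw [hmul _ _ (tri_mul (tri_mul ha hb) (tri_inv hv ha)) (tri_inv hv hb),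
      hmul _ _ (tri_mul ha hb) (tri_inv hv ha), hmul _ _ ha hb]
    calc μ a * μ b * μ a⁻¹ * μ b⁻¹ = (μ a * μ a⁻¹) * (μ b * μ b⁻¹) := by ring
      _ = 1 := by rw [← e1, ← e2, one_mul]
  set e := a * b * a⁻¹ * b⁻¹ with he
  have hev : (e : Mb) *ᵥ v = v ∧ φ ᵥ* (e : Mb) = φ := by
    obtain ⟨c, hc1, hc2⟩ := ha
    obtain ⟨d, hd1, hd2⟩ := hb
    have hc0 : c ≠ 0 := fun h => gl_mulVec_ne_zero a hv (by rw [hc1, h, zero_smul])
    have hd0 : d ≠ 0 := fun h => gl_mulVec_ne_zero b hv (by rw [hd1, h, zero_smul])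
    have hab : e * (b * a) = a * b := by rw [he]; group
    constructor
    · have h := congrArg (fun g : GL β F => (g : Mb) *ᵥ v) hab
      simp only [Units.val_mul, ← Matrix.mulVec_mulVec, hc1, hd1, Matrix.mulVec_smul, smul_smul] at h
      rw [mul_comm d c] at h
      exact smul_right_injective _ (mul_ne_zero hc0 hd0) h
    · have h' : φ ᵥ* (((b * a : GL β F)) : Mb) = (d * c) • φ := by
        rw [Units.val_mul, ← Matrix.vecMul_vecMul, hd2, Matrix.smul_vecMul, hc2, smul_smul]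
      have h'' : φ ᵥ* (((a * b : GL β F)) : Mb) = (c * d) • φ := by
        rw [Units.val_mul, ← Matrix.vecMul_vecMul, hc2, Matrix.smul_vecMul, hd2, smul_smul]
      have h3 := congrArg (· ᵥ* (((b * a)⁻¹ : GL β F) : Mb)) h'
      simp only [Matrix.smul_vecMul] at h3
      rw [Matrix.vecMul_vecMul, ← Units.val_mul, mul_inv_cancel, Units.val_one, Matrix.vecMul_one] at h3
      have e1 : e = a * b * (b * a)⁻¹ := by rw [he]; group
      rw [e1, Units.val_mul, ← Matrix.vecMul_vecMul, h'', Matrix.smul_vecMul, mul_comm c d, ← h3]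
  refine ⟨hev.1, hev.2, fun w hw => ?_⟩
  obtain ⟨k, hk⟩ := hspan w hw
  obtain ⟨k', hk'⟩ := hspan ((e : Mb) *ᵥ w₀) (by rw [Matrix.dotProduct_mulVec, hev.2, hw₀])
  rw [show ψ ⬝ᵥ ((e : Mb) *ᵥ w₀) = 1 from hc, one_smul] at hk'
  refine ⟨(ψ ⬝ᵥ w) * k', ?_⟩
  conv_lhs => rw [hk]
  rw [Matrix.mulVec_add, Matrix.mulVec_smul, Matrix.mulVec_smul, hev.1, hk']
  generalize ψ ⬝ᵥ w = γ at hk ⊢
  subst hk
  module

theorem vecMul_inv_of_fix {φ : β → F} {c : GL β F} (h : φ ᵥ* (c : Mb) = φ) :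
    φ ᵥ* ((c⁻¹ : GL β F) : Mb) = φ := by
  have := congrArg (· ᵥ* ((c⁻¹ : GL β F) : Mb)) h
  simp only [Matrix.vecMul_vecMul, ← Units.val_mul, mul_inv_cancel, Units.val_one, Matrix.vecMul_one] at this
  exact this.symm

theorem shear_of_uni {v φ : β → F} {a b : GL β F} (ha : Uni v φ a) (hb : Uni v φ b) :
    Shear φ (a * b * a⁻¹ * b⁻¹) := by
  refine ⟨?_, fun w hw => ?_⟩
  · simp only [Units.val_mul, ← Matrix.vecMul_vecMul, ha.2.1, hb.2.1, vecMul_inv_of_fix ha.2.1,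
      vecMul_inv_of_fix hb.2.1]
  set w' := ((a⁻¹ : GL β F) : Mb) *ᵥ (((b⁻¹ : GL β F) : Mb) *ᵥ w) with hw'
  have hw'0 : φ ⬝ᵥ w' = 0 := by
    rw [hw', Matrix.dotProduct_mulVec, vecMul_inv_of_fix ha.2.1, Matrix.dotProduct_mulVec, vecMul_inv_of_fix hb.2.1, hw]
  obtain ⟨k, hk⟩ := ha.2.2 _ hw'0
  obtain ⟨l, hl⟩ := hb.2.2 _ hw'0
  have hba : (b : Mb) *ᵥ ((a : Mb) *ᵥ w') = w := by rw [hw', mulVec_inv_cancel, mulVec_inv_cancel]
  have hab : (a : Mb) *ᵥ ((b : Mb) *ᵥ w') = w := by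
    conv_rhs => rw [← hba]
    rw [hl, hk, Matrix.mulVec_add, Matrix.mulVec_add, Matrix.mulVec_smul, Matrix.mulVec_smul, ha.1, hb.1, hk, hl]
    abel
  rw [Units.val_mul, Units.val_mul, Units.val_mul, ← Matrix.mulVec_mulVec, ← Matrix.mulVec_mulVec,
    ← Matrix.mulVec_mulVec, ← hw', hab]

theorem shear_comm {φ : β → F} (hφ : φ ≠ 0) {a b : GL β F} (ha : Shear φ a) (hb : Shear φ b) :
    a * b * a⁻¹ * b⁻¹ = 1 := by
  obtain ⟨y, hy⟩ := exists_dual hφ
  rw [dotProduct_comm] at hy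
  have key : ∀ g, Shear φ g → φ ⬝ᵥ ((g : Mb) *ᵥ y - y) = 0 ∧
      ∀ x, (g : Mb) *ᵥ x = x + (φ ⬝ᵥ x) • ((g : Mb) *ᵥ y - y) := fun g hg => by
    refine ⟨by rw [dotProduct_sub, Matrix.dotProduct_mulVec, hg.1, sub_self], fun x => ?_⟩
    have h0 := hg.2 (x - (φ ⬝ᵥ x) • y) (by rw [dotProduct_sub, dotProduct_smul, hy, smul_eq_mul, mul_one, sub_self])
    rw [Matrix.mulVec_sub, Matrix.mulVec_smul, sub_eq_iff_eq_add] at h0
    rw [h0, smul_sub]
    abel
  obtain ⟨ha0, ha1⟩ := key a ha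
  obtain ⟨hb0, hb1⟩ := key b hb
  have hcomm : a * b = b * a := by
    refine Units.ext (Matrix.ext_iff_mulVec.2 fun x => ?_)
    rw [Units.val_mul, Units.val_mul, ← Matrix.mulVec_mulVec, ← Matrix.mulVec_mulVec, hb1 x, ha1 x,
      Matrix.mulVec_add, Matrix.mulVec_add, Matrix.mulVec_smul, Matrix.mulVec_smul, ha.2 _ hb0, hb.2 _ ha0, ha1 x,
      hb1 x]
    abel
  rw [hcomm]
  group

/-- The exceptional swap does not occur for transvections. -/
theorem Cx.no_swap_tv (hM : Cx M) (hm : Fintype.card β = 3) (h2 : Fintype.card κ = 2) {x : GL X F} (hx : x ∈ M)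
    {i : κ} {T : GL X F} (hT : IsTv i T) {σ : Equiv.Perm κ} {gs : κ → GL β F} (hσ : σ.IsSwap)
    (hz : x * T * x⁻¹ = wgl σ gs) (hz2 : wgl σ gs * wgl σ gs = 1) : False := by
  classical
  haveI := hM.nontriv
  obtain ⟨v, φ, A, hv, hφ, hφv, hA, rfl⟩ := hT
  obtain ⟨a, b, hab, rfl⟩ := hσ
  have hAs : ∀ c : F, (A : Mb) ≠ c • 1 := by
    intro c hc
    obtain ⟨w, hw⟩ := exists_dual hφ
    rw [dotProduct_comm] at hw
    have h1 := congrArg (· *ᵥ v) (hA.symm.trans hc)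
    have h2 := congrArg (· *ᵥ w) (hA.symm.trans hc)
    simp only [Matrix.add_mulVec, Matrix.one_mulVec, Matrix.vecMulVec_mulVec, op_smul_eq_smul, Matrix.smul_mulVec,
      hφv, hw, zero_smul, add_zero, one_smul] at h1 h2
    have hc1 : c = 1 := by
      have := h1.symm.trans (one_smul F v).symm
      exact smul_left_injective F hv this
    rw [hc1, one_smul, add_eq_left] at h2
    exact hv h2
  set q : GL β F → GL X F := fun B => x⁻¹ * diagPair a b (gs b) hab B * x with hq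
  have hqmul : ∀ B C, q (B * C * B⁻¹ * C⁻¹) = q B * q C * (q B)⁻¹ * (q C)⁻¹ := fun B C => by
    simp only [hq, map_mul, map_inv]; group
  let Lv : (GL β F → Prop) → GL X F → Prop := fun P y => ∃ hs, y = wgl 1 hs ∧ P (hs i)
  have hstep : ∀ (P P' : GL β F → Prop), (∀ c d, P c → P d → P' (c * d * c⁻¹ * d⁻¹)) → ∀ y y',
      Lv P y → Lv P y' → Lv P' (y * y' * y⁻¹ * y'⁻¹) := by
    rintro P P' h _ _ ⟨hs, rfl, h1⟩ ⟨hs', rfl, h2⟩
    refine ⟨hs * hs' * hs⁻¹ * hs'⁻¹, ?_, h _ _ h1 h2⟩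
    simp only [wgl_inv, inv_one, wgl_mul, mul_one, Equiv.Perm.coe_one, id_eq]
    rfl
  have hbase : ∀ {u ψ : β → F} {B : GL β F}, ψ ⬝ᵥ u = 0 → (B : Mb) = 1 + vecMulVec u ψ → Lv (Tri v φ) (q B) := by
    intro u ψ B hψu hB
    obtain ⟨hs, h1, h2⟩ := exists_image hM h2 hx hAs (fun y hy hc => hM.cent_tv hy ⟨v, φ, A, hv, hφ, hφv, hA, rfl⟩ hc)
      hz hz2 hab (Equiv.swap_apply_left a b) (Equiv.swap_apply_right a b) B (tv_det hψu hB)
    refine ⟨hs, h1, tri_of_comm hv hφ ?_⟩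
    have h3 := congrArg Units.val h2
    rw [Units.val_mul, Units.val_mul, hA, mul_add, add_mul, mul_one, one_mul, add_right_inj] at h3
    exact h3
  have hlevel : ∀ (P : GL β F → Prop), (∀ (u ψ : β → F) (B : GL β F), u ≠ 0 → ψ ≠ 0 → ψ ⬝ᵥ u = 0 →
      (B : Mb) = 1 + vecMulVec u ψ → Lv P (q B)) → ∀ (P' : GL β F → Prop),
      (∀ c d, P c → P d → P' (c * d * c⁻¹ * d⁻¹)) → ∀ (u ψ : β → F) (B : GL β F), u ≠ 0 → ψ ≠ 0 → ψ ⬝ᵥ u = 0 →
      (B : Mb) = 1 + vecMulVec u ψ → Lv P' (q B) := by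
    intro P hP P' hPP' u ψ B hu hψ hψu hB
    obtain ⟨α, w, B', C', hα, hw, hαu, hψw, hB', hC', rfl⟩ := exists_comm_tv hM.hb hu hψ hψu hB
    rw [hqmul]
    exact hstep P P' hPP' _ _ (hP _ _ _ hu hα hαu hB') (hP _ _ _ hw hψ hψw hC')
  have h1 := hlevel (Tri v φ) (fun _ _ _ _ _ h h' => hbase h h') (Uni v φ) fun c d => uni_of_tri hm hv hφ hφv
  have h2' := hlevel (Uni v φ) h1 (Shear φ) fun c d => shear_of_uni
  have h3 := hlevel (Shear φ) h2' (fun c => c = 1) fun c d => shear_comm hφ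
  obtain ⟨hs, he, hsi⟩ := h3 v φ A hv hφ hφv hA
  have hd := dvd_rank_of_scalar hm h2 (gs := hs) (i := i) (c := (1 : F)) (by rw [hsi, Units.val_one, one_smul])
  obtain ⟨h4, h5⟩ := diagPair_rank (g := gs b) hm h2 hab hv hφ hφv hA
  have hr := (quad_conj x⁻¹ (diagPair a b (gs b) hab A)).2
  rw [inv_inv, show x⁻¹ * diagPair a b (gs b) hab A * x = wgl 1 hs from he] at hr
  omega

/-- A conjugate of a transvection in the stabiliser: the conjugating element is in the stabiliser. -/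
theorem Cx.tv_fusion (hM : Cx M) {x : GL X F} (hx : x ∈ M) {i : κ} {T : GL X F} (hT : IsTv i T)
    (hz : x * T * x⁻¹ ∈ Wr F κ β) : x ∈ Wr F κ β := by
  classical
  haveI := hM.nontriv
  haveI := hM.nempty
  have hb := hM.hb
  obtain ⟨hsq, hrk⟩ := isTv_quad hT
  have hsq' := (quad_conj x T).1 hsq
  have hrk' := ((quad_conj x T).2).trans hrk
  rcases classify hb hM.ht hz hsq' hrk' with ⟨j, hj⟩ | ⟨h20, hm, σ, gs, hzeq, hσ⟩
  · exact hM.tv_to_tv hx hT hj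
  haveI : CharP F 2 := by
    obtain ⟨p, hp⟩ := CharP.exists F
    have h2 : ((2 : ℕ) : F) = 0 := by exact_mod_cast h20
    have h := (CharP.cast_eq_zero_iff F p 2).1 h2
    rcases (Nat.prime_two.eq_one_or_self_of_dvd p h) with rfl | rfl
    · exact absurd (CharP.char_is_prime F 1) Nat.not_prime_one
    · exact hp
  haveI : Fact (Nat.Prime 2) := ⟨Nat.prime_two⟩
  have hz2 : wgl σ gs * wgl σ gs = 1 := by
    have h := pow_char_eq_one 2 hsq'
    rwa [pow_two, hzeq] at h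
  by_cases h2 : Fintype.card κ = 2
  · exact (hM.no_swap_tv hm h2 hx hT hσ hzeq hz2).elim
  obtain ⟨a, b, hab, rfl⟩ := hσ
  obtain ⟨l, hla, hlb⟩ : ∃ l, l ≠ a ∧ l ≠ b := by
    by_contra hcon
    push Not at hcon
    have := Finset.card_le_card (fun l _ => by
      by_cases h : l = a
      · simp [h]
      · simp [hcon l h] : (Finset.univ : Finset κ) ⊆ {a, b})
    rw [Finset.card_univ] at this
    have := Finset.card_le_two (a := a) (b := b)
    have := hM.ht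
    omega
  have hσl : Equiv.swap a b l = l := Equiv.swap_apply_of_ne_of_ne hla hlb
  obtain ⟨c, hc⟩ : ∃ c : F, (gs l : Mb) ^ 2 = c • 1 := by
    have h := hz2
    rw [wgl_mul] at h
    obtain ⟨c, hc⟩ := (wgl_eq_one h).2 l
    rw [hσl, Units.val_mul, ← pow_two] at hc
    exact ⟨c, hc⟩
  obtain ⟨d, N, hd, hg, hN⟩ := exists_unip 2 hc
  rw [pow_two] at hN
  obtain ⟨hNr, -⟩ := rank_pair_ge (α := Unit) (0 : Matrix Unit Unit F) N (mul_zero _) hN
  obtain ⟨u, hu, hNu, hNψ⟩ : ∃ u, u ≠ 0 ∧ N *ᵥ u = 0 ∧ ∀ ψ : β → F, ψ ⬝ᵥ u = 0 → ψ ᵥ* N = 0 := by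
    by_cases hN0 : N = 0
    · obtain ⟨b₀⟩ := hM.nempty
      exact ⟨Pi.single b₀ 1, by simp, by rw [hN0, Matrix.zero_mulVec], fun ψ _ => by rw [hN0, Matrix.vecMul_zero]⟩
    · have h1 : N.rank = 1 := by
        have : N.rank ≠ 0 := fun e => hN0 ((rank_zero_iff N).1 e)
        omega
      obtain ⟨w, ψ₀, hw, hψ₀, rfl⟩ := eq_vmv_of_rank_one h1
      rw [vmv_mul, smul_eq_zero] at hN
      refine ⟨w, hw, ?_, fun ψ hψ => ?_⟩
      · rw [Matrix.vecMulVec_mulVec, op_smul_eq_smul, hN.resolve_right (vmv_ne_zero hw hψ₀), zero_smul]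
      · rw [Matrix.vecMul_vecMulVec, hψ, zero_smul]
  have hcomm : ∀ (ψ : β → F) (S : GL β F), ψ ⬝ᵥ u = 0 → (S : Mb) = 1 + vecMulVec u ψ →
      wgl (Equiv.swap a b) gs * pe l S = pe l S * wgl (Equiv.swap a b) gs := fun ψ S hψ hS => by
    rw [← mul_inv_eq_iff_eq_mul, pe_conj_eq l S hσl]
    congr 1
    rw [mul_inv_eq_iff_eq_mul]
    refine Units.ext ?_
    rw [Units.val_mul, Units.val_mul, hg, hS, Matrix.smul_mul, Matrix.mul_smul]
    congr 1
    simp only [mul_add, add_mul, mul_one, one_mul]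
    rw [Matrix.mul_vecMulVec, Matrix.vecMulVec_mul, hNu, hNψ ψ hψ, Matrix.zero_vecMulVec, Matrix.vecMulVec_zero]
    abel
  set y : GL β F → GL X F := fun S => x⁻¹ * pe l S * x with hy
  have himg : ∀ (ψ : β → F) (S : GL β F), ψ ≠ 0 → ψ ⬝ᵥ u = 0 → (S : Mb) = 1 + vecMulVec u ψ →
      y S ∈ Wr F κ β ∧ ((y S : Mn) - 1) * ((y S : Mn) - 1) = 0 ∧
        ((y S : Mn) - 1).rank = Fintype.card β ^ (Fintype.card κ - 1) := by
    intro ψ S hψ0 hψ hS
    have hTS : IsTv l (pe l S) := ⟨u, ψ, S, hu, hψ0, hψ, hS, rfl⟩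
    have h1 := (quad_conj x⁻¹ (pe l S)).1 (isTv_quad hTS).1
    have h2 := ((quad_conj x⁻¹ (pe l S)).2).trans (isTv_quad hTS).2
    rw [inv_inv] at h1 h2
    refine ⟨hM.cent_tv (mul_mem (mul_mem (inv_mem hx) (hM.pe_mem l (tv_det hψ hS))) hx) hT ?_, h1, h2⟩
    have hzc := hcomm ψ S hψ hS
    rw [← hzeq] at hzc
    calc x⁻¹ * pe l S * x * T = x⁻¹ * (pe l S * (x * T * x⁻¹)) * x := by group
      _ = x⁻¹ * (x * T * x⁻¹ * pe l S) * x := by rw [hzc]
      _ = T * (x⁻¹ * pe l S * x) := by group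
  obtain ⟨ψ1, hψ1, hψ1u, -⟩ := exists_perp2 hb u u
  obtain ⟨w, hw⟩ := exists_dual hψ1
  rw [dotProduct_comm] at hw
  obtain ⟨ψ2, hψ2, hψ2u, hψ2w⟩ := exists_perp2 hb u w
  obtain ⟨S1, hS1⟩ := exists_tv hψ1u
  obtain ⟨S2, hS2⟩ := exists_tv hψ2u
  have hS12 : ((S1 * S2 : GL β F) : Mb) = 1 + vecMulVec u (ψ1 + ψ2) := by
    rw [Units.val_mul, tv_val hS1, tv_val hS2, add_mul, one_mul, mul_add, mul_one, vmv_mul, hψ1u, zero_smul,
      add_zero, Matrix.vecMulVec_add]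
    abel
  have hne12 : ψ1 + ψ2 ≠ 0 := fun e => by
    have := congrArg (· ⬝ᵥ w) e
    simp [add_dotProduct, hw, hψ2w] at this
  have h12u : (ψ1 + ψ2) ⬝ᵥ u = 0 := by rw [add_dotProduct, hψ1u, hψ2u, add_zero]
  have h12 : y S1 * y S2 = y (S1 * S2) := by simp only [hy, map_mul]; group
  obtain ⟨z', hz', k, hk⟩ := exists_tv_of_three hb hM.ht (z₁ := y S1) (z₂ := y S2) (by
    intro z hz
    simp only [Set.mem_insert_iff, Set.mem_singleton_iff] at hz
    rcases hz with rfl | rfl | rfl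
    · exact himg ψ1 S1 hψ1 hψ1u (tv_val hS1)
    · exact himg ψ2 S2 hψ2 hψ2u (tv_val hS2)
    · rw [h12]; exact himg _ _ hne12 h12u hS12)
  obtain ⟨S, hS, hzS⟩ : ∃ S, IsTv l (pe l S) ∧ z' = x⁻¹ * pe l S * x := by
    simp only [Set.mem_insert_iff, Set.mem_singleton_iff] at hz'
    rcases hz' with rfl | rfl | rfl
    · exact ⟨S1, ⟨u, ψ1, S1, hu, hψ1, hψ1u, tv_val hS1, rfl⟩, rfl⟩
    · exact ⟨S2, ⟨u, ψ2, S2, hu, hψ2, hψ2u, tv_val hS2, rfl⟩, rfl⟩
    · exact ⟨S1 * S2, ⟨u, _, _, hu, hne12, h12u, hS12, rfl⟩, h12⟩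
  have hxi := hM.tv_to_tv (inv_mem hx) hS (j := k) (by rw [inv_inv, ← hzS]; exact hk)
  simpa using inv_mem hxi

/-- The centraliser of a non-scalar pure element with an eigenvalue. -/
theorem Cx.pure_cent_le (hM : Cx M) {i : κ} {U : GL β F} (hU : ∀ c : F, (U : Mb) ≠ c • 1) {c : F} {v : β → F}
    (hv : v ≠ 0) (hUv : (U : Mb) *ᵥ v = c • v) {x : GL X F} (hx : x ∈ M) (hc : x * pe i U = pe i U * x) :
    x ∈ Wr F κ β := by
  classical
  haveI := hM.nempty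
  obtain ⟨χ, hχ⟩ : ∃ χ : β → F, χ ᵥ* ((U : Mb) - c • 1) ≠ 0 := by
    by_contra hcon
    push Not at hcon
    refine hU c (sub_eq_zero.1 ((Matrix.ext_iff_vecMul).2 fun χ => ?_))
    rw [hcon χ, Matrix.vecMul_zero]
  set φ := χ ᵥ* ((U : Mb) - c • 1) with hφ
  have hφv : φ ⬝ᵥ v = 0 := by
    rw [hφ, ← Matrix.dotProduct_mulVec, Matrix.sub_mulVec, Matrix.smul_mulVec, Matrix.one_mulVec, hUv, sub_self,
      dotProduct_zero]
  have hzero : ∀ t : V, (pe i U : Mn) *ᵥ t = c • t → slice φ (spV i t) = 0 := fun t ht => by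
    have h1 := congrArg (fun s => slice χ (spV i s)) ht
    simp only [← sp_mulVec, sp_pe, k2_val, Units.val_one, slice_kron, Matrix.one_mulVec, map_smul] at h1
    rw [← slice_smul] at h1
    have e : φ = χ ᵥ* (U : Mb) + (-1 : F) • (c • χ) := by
      rw [hφ, Matrix.vecMul_sub, Matrix.vecMul_smul, Matrix.vecMul_one, neg_smul, one_smul, sub_eq_add_neg]
    rw [e, slice_add, slice_smul, h1, neg_smul, one_smul, add_neg_cancel]
  obtain ⟨A, hA⟩ := exists_tv hφv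
  have hAm := tv_val hA
  set T := pe i A with hT
  have hxi : x⁻¹ * pe i U = pe i U * x⁻¹ := by
    rw [eq_mul_inv_iff_mul_eq, mul_assoc, ← hc, inv_mul_cancel_left]
  have hfix : ∀ t ∈ line i v, ((x * T * x⁻¹ : GL X F) : Mn) *ᵥ t = t := fun t ht => by
    have ht' : (pe i U : Mn) *ᵥ t = c • t := by
      obtain ⟨r, hr⟩ := mem_line_iff.1 ht
      refine (spV i).injective ?_
      rw [← sp_mulVec, hr, sp_pe, k2_mulVec, Units.val_one, Matrix.one_mulVec, hUv, map_smul, hr,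
        tmul_smul_right]
    set s := ((x⁻¹ : GL X F) : Mn) *ᵥ t with hs
    have hs' : (pe i U : Mn) *ᵥ s = c • s := by
      rw [hs, Matrix.mulVec_mulVec, ← Units.val_mul, ← hxi, Units.val_mul, ← Matrix.mulVec_mulVec, ht',
        Matrix.mulVec_smul]
    have hTs : (T : Mn) *ᵥ s = s := by
      refine (spV i).injective ?_
      rw [hT, pe_tv_mulVec hAm, hzero s hs', tmul_zero_left, add_zero]
    rw [Units.val_mul, Units.val_mul, ← Matrix.mulVec_mulVec, ← Matrix.mulVec_mulVec, ← hs, hTs, hs, mulVec_inv_cancel]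
  have hTM := hM.pe_mem i (tv_det hφv hAm)
  have hfM : x * T * x⁻¹ ∈ M := mul_mem (mul_mem hx hTM) (inv_mem hx)
  obtain ⟨P, Q, hPQ⟩ := isKron_iff.1 (hM.fix_kron hfM hv hfix)
  exact hM.tv_fusion hx (i := i) (T := T) ⟨v, φ, A, hv, hχ, hφv, hAm, rfl⟩ (hM.kron_mem hfM hPQ)

end Cfsg.Agent.Classical.TensorPow
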