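import Cfsg.Agent.Lib.Classical.TensorPow.Bad

/-!
Maximal sets with a component of the chosen type; factors of dimension at least four.
-/

set_option autoImplicit false
set_option linter.unusedSectionVars false

namespace Cfsg.Agent.Classical.TensorPow

open Matrix Module MaxTv TensorMax

variable {F : Type*} [Field F] [Fintype F] {κ β : Type} [Fintype κ] [DecidableEq κ] [Fintype β] [DecidableEq β]

local notation "X" => (κ → β)
local notation "Mn" => Matrix (κ → β) (κ → β) F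
local notation "Mb" => Matrix β β F

variable {M : Subgroup (GL (κ → β) F)}

/-- The normalised components at the admissible slot. -/
theorem Ok.norm (hM : Cx M) {i : κ} {E : Set (GL X F)} (hE : Ok M i E) {v φ : β → F} {S : GL β F}
    (hS : SigW v φ S) (hSE : CommE E (pe i S)) {e : GL X F} (he : e ∈ E) :
    ∃ N : GL β F, Comp i e N ∧ N * N = 1 ∧ (N : Mb) *ᵥ v = v ∧ φ ᵥ* (N : Mb) = φ := by
  haveI := hM.nontriv
  obtain ⟨-, heW, hee⟩ := hE.mem e he
  obtain ⟨A, hA, hAS⟩ := exists_comp heW (hS.nonscalar (by have := hM.hb; omega)) (hSE e he).symm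
  obtain ⟨c, hc1, hc2⟩ := tri_of_comm hS.1 hS.2.1 ((hS.comm_iff A).1 hAS)
  have hc : c ≠ 0 := fun e => gl_mulVec_ne_zero A hS.1 (by rw [hc1, e, zero_smul])
  set N := scal c⁻¹ (inv_ne_zero hc) A with hN
  have hN1 : (N : Mb) *ᵥ v = v := by
    rw [hN, scal_val, Matrix.smul_mulVec, hc1, smul_smul, inv_mul_cancel₀ hc, one_smul]
  have hN2 : φ ᵥ* (N : Mb) = φ := by
    rw [hN, scal_val, Matrix.vecMul_smul, hc2, smul_smul, inv_mul_cancel₀ hc, one_smul]
  have hNc : Comp i e N := hA.smul (scal_val _ _ _)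
  obtain ⟨d, -, hd⟩ := hNc.invol hM.hb hee
  have hd1 : d = 1 := by
    have := congrArg (· *ᵥ v) hd
    simp only [← Matrix.mulVec_mulVec, hN1, Matrix.smul_mulVec, Matrix.one_mulVec] at this
    exact (smul_left_injective F hS.1 (this.symm.trans (one_smul F v).symm))
  refine ⟨N, hNc, Units.ext ?_, hN1, hN2⟩
  rw [Units.val_mul, hd, hd1, one_smul, Units.val_one]

/-- The set of normalised components. -/
def Norms (i : κ) (E : Set (GL (κ → β) F)) (v φ : β → F) : Set (GL β F) :=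
  {N | N * N = 1 ∧ (N : Matrix β β F) *ᵥ v = v ∧ φ ᵥ* (N : Matrix β β F) = φ ∧ ∃ e ∈ E, Comp i e N}

theorem norms_comm (hM : Cx M) {i : κ} {E : Set (GL X F)} (hE : Ok M i E) {v φ : β → F} (hv : v ≠ 0) :
    ∀ N ∈ Norms i E v φ, ∀ N' ∈ Norms i E v φ, N * N' = N' * N := by
  rintro N ⟨-, hN, -, e, he, hc⟩ N' ⟨-, hN', -, e', he', hc'⟩
  obtain ⟨c, h⟩ := hc.comm hM.hb hc' (hE.comm e he e' he')
  have h1 := congrArg (· *ᵥ v) h
  simp only [← Matrix.mulVec_mulVec, hN, hN', Matrix.smul_mulVec] at h1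
  have hc1 : c = 1 := smul_left_injective F hv (h1.symm.trans (one_smul F v).symm)
  refine Units.ext ?_
  rw [Units.val_mul, Units.val_mul, h, hc1, one_smul]

theorem commE_pe_of_norms (hM : Cx M) {i : κ} {E : Set (GL X F)} (hE : Ok M i E) {v φ : β → F} {S : GL β F}
    (hS : SigW v φ S) (hSE : CommE E (pe i S)) {R : GL β F} (h : ∀ N ∈ Norms i E v φ, N * R = R * N) :
    CommE E (pe i R) := fun e he => by
  obtain ⟨N, hN, hNN, h1, h2⟩ := hE.norm hM hS hSE he
  exact (hN.comm_pe (h N ⟨hNN, h1, h2, e, he, hN⟩)).symm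

theorem SigW.comm_norm {v φ : β → F} {S N : GL β F} (h : SigW v φ S) (h1 : (N : Mb) *ᵥ v = v)
    (h2 : φ ᵥ* (N : Mb) = φ) : N * S = S * N :=
  h.comm_of_eigen (ε := 1) (by rw [one_smul, h1]) (by rw [one_smul, h2])

/-- A vector in a hyperplane outside a line. -/
theorem exists_ker_notin (hb : 3 ≤ Fintype.card β) (φ : β → F) {v : β → F} (hv : v ≠ 0) :
    ∃ w : β → F, w ≠ 0 ∧ φ ⬝ᵥ w = 0 ∧ ∀ c : F, w ≠ c • v := by
  obtain ⟨ψ, hψ⟩ := exists_dual hv
  obtain ⟨w, hw, hwφ, hwψ⟩ := exists_perp2 hb φ ψ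
  rw [dotProduct_comm] at hwφ hwψ
  refine ⟨w, hw, hwφ, fun c e => hw ?_⟩
  rw [e, dotProduct_smul, hψ, smul_eq_mul, mul_one] at hwψ
  rw [e, hwψ, zero_smul]

/-- A second pair of common eigenvectors, orthogonal to the first. -/
theorem exists_perp_pair (hb : 3 ≤ Fintype.card β) (h2 : (2 : F) ≠ 0) {v φ : β → F} (hv : v ≠ 0)
    (hφv : φ ⬝ᵥ v = 2) (𝒩 : Set (GL β F)) (hN : ∀ N ∈ 𝒩, N * N = 1)
    (hc : ∀ N ∈ 𝒩, ∀ N' ∈ 𝒩, N * N' = N' * N) (h1 : ∀ N ∈ 𝒩, (N : Mb) *ᵥ v = v ∧ φ ᵥ* (N : Mb) = φ) :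
    ∃ v' φ' : β → F, φ' ⬝ᵥ v' = 2 ∧ φ ⬝ᵥ v' = 0 ∧ φ' ⬝ᵥ v = 0 ∧
      ∀ N ∈ 𝒩, ∃ ε : F, (N : Mb) *ᵥ v' = ε • v' ∧ φ' ᵥ* (N : Mb) = ε • φ' := by
  set P₀ : Mb := 1 - (2 : F)⁻¹ • vecMulVec v φ with hP₀
  have hP : P₀ * P₀ = P₀ := by
    simp only [hP₀, sub_mul, mul_sub, one_mul, mul_one, Matrix.smul_mul, Matrix.mul_smul, vmv_mul, hφv, smul_smul]
    rw [inv_mul_cancel₀ h2, mul_one, sub_self, sub_zero]
  have hPv : P₀ *ᵥ v = 0 := by
    rw [hP₀, Matrix.sub_mulVec, Matrix.one_mulVec, Matrix.smul_mulVec, Matrix.vecMulVec_mulVec, op_smul_eq_smul,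
      hφv, smul_smul, inv_mul_cancel₀ h2, one_smul, sub_self]
  have hφP : φ ᵥ* P₀ = 0 := by
    rw [hP₀, Matrix.vecMul_sub, Matrix.vecMul_one, Matrix.vecMul_smul, Matrix.vecMul_vecMulVec, hφv, smul_smul,
      inv_mul_cancel₀ h2, one_smul, sub_self]
  have hP0 : P₀ ≠ 0 := fun e => by
    obtain ⟨w, hw, hwφ, -⟩ := exists_ker_notin hb φ hv
    have h := congrArg (· *ᵥ w) e
    simp only [hP₀, Matrix.sub_mulVec, Matrix.one_mulVec, Matrix.smul_mulVec, Matrix.vecMulVec_mulVec,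
      op_smul_eq_smul, hwφ, zero_smul, smul_zero, sub_zero, Matrix.zero_mulVec] at h
    exact hw h
  obtain ⟨v', φ', hd, hPv', hφP', hev⟩ := common_pair h2 𝒩 hN hc hP hP0 fun N hN' => by
    obtain ⟨e1, e2⟩ := h1 N hN'
    simp only [hP₀, mul_sub, sub_mul, mul_one, one_mul, Matrix.mul_smul, Matrix.smul_mul, Matrix.mul_vecMulVec,
      Matrix.vecMulVec_mul, e1, e2]
  refine ⟨v', φ', hd, ?_, ?_, hev⟩
  · rw [← hPv', Matrix.dotProduct_mulVec, hφP, zero_dotProduct]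
  · rw [← hφP', ← Matrix.dotProduct_mulVec, hPv, dotProduct_zero]

theorem sigW_eigen_perp {v φ v' φ' : β → F} {S : GL β F} (hS : SigW v φ S) (h : φ ⬝ᵥ v' = 0) (h' : φ' ⬝ᵥ v = 0) :
    (S : Mb) *ᵥ v' = (-1 : F) • v' ∧ φ' ᵥ* (S : Mb) = (-1 : F) • φ' := by
  constructor
  · rw [hS.2.2.2, Matrix.add_mulVec, Matrix.neg_mulVec, Matrix.one_mulVec, Matrix.vecMulVec_mulVec, op_smul_eq_smul,
      h, zero_smul, add_zero, neg_smul, one_smul]
  · rw [hS.2.2.2, Matrix.vecMul_add, Matrix.vecMul_neg, Matrix.vecMul_one, Matrix.vecMul_vecMulVec, h', zero_smul,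
      add_zero, neg_smul, one_smul]

theorem neg_one_eq_one (h2 : (2 : F) = 0) : (-1 : Mb) = 1 := by
  have h : (-1 : F) = 1 := by linear_combination -h2
  rw [← one_smul F (1 : Mb), ← neg_smul, h]

theorem sub_one_eq_add_one (h2 : (2 : F) = 0) (A : Mb) : A - 1 = A + 1 := by
  rw [sub_eq_add_neg, neg_one_eq_one h2]

theorem sigT_of_small (h2 : (2 : F) = 0) {N : GL β F} (hN : N * N = 1) (h1 : ((N : Mb) - 1).rank ≤ 1)
    (hne : N ≠ 1) : SigT N := by
  refine sigT_of_rank_one hN ?_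
  rw [← sub_one_eq_add_one h2]
  have : ((N : Mb) - 1).rank ≠ 0 := fun e => hne (Units.ext (by
    rw [Units.val_one]; exact sub_eq_zero.1 ((rank_zero_iff _).1 e)))
  omega

/-- No component is a multiple of a chosen involution. -/
theorem MaxE.theoremA (hM : Cx M) {i : κ} {E : Set (GL X F)} (hE : MaxE M i E) {e₀ : GL X F} (he₀ : e₀ ∈ E)
    {S₀ : GL β F} (hS₀ : SigT S₀) (hc₀ : Comp i e₀ S₀)
    (hr : (2 : F) = 0 → ∀ e ∈ E, ∀ N : GL β F, Comp i e N → N * N = 1 → ((N : Mb) - 1).rank ≤ 1) : False := by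
  classical
  haveI := hM.nontriv
  haveI := hM.nempty
  have hb := hM.hb
  obtain ⟨S₁, hS₁, hS₁E⟩ := hE.1.adm
  have hwit : CommE E (pe i S₀) := fun e he => by
    obtain ⟨A, hA, -⟩ := exists_comp (hE.1.mem e he).2.1 (sigT_nonscalar (by omega) hS₁) (hS₁E e he).symm
    obtain ⟨c, hc⟩ := hA.comm hb hc₀ (hE.1.comm e he e₀ he₀)
    have h1 : (S₀ : Mb) = c • ((A * S₀ * A⁻¹ : GL β F) : Mb) := by
      calc (S₀ : Mb) = (S₀ : Mb) * (A : Mb) * ((A⁻¹ : GL β F) : Mb) := by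
            rw [mul_assoc, ← Units.val_mul, mul_inv_cancel, Units.val_one, mul_one]
        _ = _ := by rw [hc, Matrix.smul_mul, Units.val_mul, Units.val_mul]
    rw [sig_scalar hb hS₀ (hS₀.conj A) h1, one_smul] at h1
    have h2 : S₀ = A * S₀ * A⁻¹ := Units.ext h1
    exact (hA.comm_pe (eq_mul_inv_iff_mul_eq.1 h2).symm).symm
  obtain ⟨v, φ, hW⟩ := hS₀
  have hv := hW.1
  set 𝒩 := Norms i E v φ
  obtain ⟨T, hT, hTN, hTS, hne⟩ : ∃ T, SigT T ∧ (∀ N ∈ 𝒩, N * T = T * N) ∧ S₀ * T = T * S₀ ∧ T ≠ S₀ := by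
    by_cases h2 : (2 : F) = 0
    · by_cases hex : ∃ N ∈ 𝒩, N ≠ 1 ∧ N ≠ S₀
      · obtain ⟨N, hN, hN1, hNS⟩ := hex
        obtain ⟨hNN, e1, e2, e, he, hNc⟩ := hN
        exact ⟨N, sigT_of_small h2 hNN (hr h2 e he N hNc hNN) hN1,
          fun N' hN' => norms_comm hM hE.1 hv N' hN' N ⟨hNN, e1, e2, e, he, hNc⟩, (hW.comm_norm e1 e2).symm, hNS⟩
      · push Not at hex
        obtain ⟨w, hw, hwφ, hwv⟩ := exists_ker_notin hb φ hv
        obtain ⟨R, hR⟩ := exists_sigW hw hW.2.1 (show φ ⬝ᵥ w = 2 by rw [hwφ, h2])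
        have hSR : S₀ * R = R * S₀ := hR.comm_of_eigen (ε := 1) (by
          rw [one_smul, hW.2.2.2, Matrix.add_mulVec, Matrix.vecMulVec_mulVec, op_smul_eq_smul, hwφ, zero_smul,
            add_zero, neg_one_eq_one h2, Matrix.one_mulVec]) (by rw [one_smul, hW.vecMul])
        refine ⟨R, ⟨w, φ, hR⟩, fun N hN => ?_, hSR, fun e => ?_⟩
        · by_cases h : N = 1
          · rw [h, one_mul, mul_one]
          · rw [hex N hN h]; exact hSR
        · obtain ⟨x, hx⟩ := exists_dual hW.2.1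
          rw [dotProduct_comm] at hx
          have h3 := congrArg (fun A : GL β F => (A : Mb) *ᵥ x) e
          simp only [hR.2.2.2, hW.2.2.2, Matrix.add_mulVec, Matrix.vecMulVec_mulVec, op_smul_eq_smul, hx, one_smul,
            add_right_inj] at h3
          exact hwv 1 (by rw [one_smul, h3])
    · obtain ⟨v', φ', hd, hv', hφ', hev⟩ := exists_perp_pair hb h2 hv hW.2.2.1 𝒩 (fun N hN => hN.1)
        (norms_comm hM hE.1 hv) (fun N hN => ⟨hN.2.1, hN.2.2.1⟩)
      obtain ⟨hv'0, hφ'0⟩ := ne_zero_of_dot h2 hd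
      obtain ⟨R, hR⟩ := exists_sigW hv'0 hφ'0 hd
      refine ⟨R, ⟨v', φ', hR⟩, fun N hN => ?_, ?_, fun e => ?_⟩
      · obtain ⟨ε, e1, e2⟩ := hev N hN
        exact hR.comm_of_eigen e1 e2
      · obtain ⟨e1, e2⟩ := sigW_eigen_perp hW hv' hφ'
        exact hR.comm_of_eigen e1 e2
      · have h3 := hW.mulVec
        rw [← e, (sigW_eigen_perp hR hφ' hv').1, neg_smul, one_smul] at h3
        exact hv ((smul_eq_zero.1 (show (2 : F) • v = 0 by rw [two_smul]; nth_rewrite 1 [← h3]; exact neg_add_cancel v)).resolve_left h2)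
  have hTn := sigT_nonscalar (by omega) hT
  have hTS' : ∀ c : F, (T : Mb) ≠ c • (S₀ : Mb) := fun c e => hne (Units.ext (by
    rw [e, sig_scalar hb hT ⟨v, φ, hW⟩ e, one_smul]))
  have hTE : CommE E (pe i T) := commE_pe_of_norms hM hE.1 hW hwit hTN
  have hout := hE.orient1 hM (S := S₀) ⟨v, φ, hW⟩ hwit (u := pe i T)
    (hM.mem_wr (TensorPow.pe_mem i T) (sigT_det_pe hM.ht hT i)) (TensorPow.pe_mem i T)
    (by rw [← map_mul, sigT_sq hT, map_one]) hTE (by rw [← map_mul, ← map_mul, hTS])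
    (hE.pure_not_mem hM (sigT_sq hT) hTn) fun w _ _ _ _ hwu => ⟨T, hT, hTE, hwu.symm⟩
  obtain ⟨h, A, -, hhE, hA, c, -, hc⟩ := hE.lemmaP hM ⟨v, φ, hW⟩ (sigT_sq hT) hTn hTS' hout
  rw [sig_scalar hb (hT.conj A) ⟨v, φ, hW⟩ hc, one_smul] at hc
  have h1 : A * T * A⁻¹ = S₀ := Units.ext hc
  have h2 := (hA.mul hc₀).mul hA.inv
  rw [hhE e₀ he₀, mul_inv_cancel_right] at h2
  obtain ⟨c', -, hc'⟩ := hc₀.unique hb h2
  rw [sig_scalar hb (SigT.conj ⟨v, φ, hW⟩ A) ⟨v, φ, hW⟩ hc', one_smul] at hc'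
  refine hne ?_
  have h3 : A * T * A⁻¹ = A * S₀ * A⁻¹ := h1.trans (Units.ext hc').symm
  exact mul_left_cancel (mul_right_cancel h3)

/-- Admissibility of a common centralising involution. -/
theorem MaxE.adm_exact (hM : Cx M) (hex : Exact F β) {i : κ} {E : Set (GL X F)} (hE : MaxE M i E) {U : GL β F}
    (hU : ∀ c : F, (U : Mb) ≠ c • 1) (hUE : CommE E (pe i U)) {w : GL X F} (hwW : w ∈ Wr F κ β) (hww : w * w = 1)
    (hwE : CommE E w) (hwu : w * pe i U = pe i U * w) :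
    ∃ S', SigT S' ∧ CommE E (pe i S') ∧ pe i S' * w = w * pe i S' := by
  haveI := hM.nontriv
  haveI := hM.nempty
  have hb := hM.hb
  have hcomm : ∀ g g', (g = w ∨ g ∈ E) → (g' = w ∨ g' ∈ E) → g * g' = g' * g := by
    rintro g g' (rfl | hg) (rfl | hg')
    · rfl
    · exact hwE g' hg'
    · exact (hwE g hg).symm
    · exact hE.1.comm g hg g' hg'
  obtain ⟨R, hR, hRc⟩ := exists_sig_comm (by omega) {N : GL β F | N * N = 1 ∧ ∃ g, (g = w ∨ g ∈ E) ∧ Comp i g N}
    (fun N hN => hN.1) fun N hN N' hN' => by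
      obtain ⟨hNN, g, hg, hc⟩ := hN
      obtain ⟨hNN', g', hg', hc'⟩ := hN'
      obtain ⟨c, h⟩ := hc.comm hb hc' (hcomm g g' hg hg')
      exact comm_exact hex hNN hNN' h
  have hg : ∀ g, (g = w ∨ g ∈ E) → pe i R * g = g * pe i R := by
    intro g hg
    have hW : g ∈ Wr F κ β ∧ g * g = 1 ∧ g * pe i U = pe i U * g := by
      rcases hg with rfl | hg
      · exact ⟨hwW, hww, hwu⟩
      · exact ⟨(hE.1.mem g hg).2.1, (hE.1.mem g hg).2.2, (hUE g hg).symm⟩
    obtain ⟨A, hA, -⟩ := exists_comp hW.1 hU hW.2.2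
    obtain ⟨c, hc, hAA⟩ := hA.invol hb hW.2.1
    obtain ⟨N, ⟨d, hd⟩, hNN⟩ := exists_norm hex A hc hAA
    have hN := hA.smul hd
    exact (hN.comm_pe (hRc N ⟨hNN, g, hg, hN⟩)).symm
  exact ⟨R, hR, fun e he => hg e (Or.inr he), hg w (Or.inl rfl)⟩

theorem two_le_rank {A : Mb} {a b x y : β → F} (ha : A *ᵥ x = a) (hb : A *ᵥ y = b) (ha0 : a ≠ 0)
    (hab : ∀ c : F, b ≠ c • a) : 2 ≤ A.rank := by
  by_contra hlt
  rcases Nat.eq_zero_or_pos A.rank with h | h
  · rw [(rank_zero_iff A).1 h, Matrix.zero_mulVec] at ha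
    exact ha0 ha.symm
  obtain ⟨u, ψ, -, -, rfl⟩ := eq_vmv_of_rank_one (show A.rank = 1 by omega)
  rw [Matrix.vecMulVec_mulVec, op_smul_eq_smul] at ha hb
  refine hab ((ψ ⬝ᵥ y) / (ψ ⬝ᵥ x)) ?_
  have h0 : ψ ⬝ᵥ x ≠ 0 := fun e => ha0 (by rw [← ha, e, zero_smul])
  rw [← ha, ← hb, smul_smul, div_mul_cancel₀ _ h0]

theorem rank_conj_mat (A U : GL β F) (c : F) :
    (((A * U * A⁻¹ : GL β F) : Mb) - c • 1).rank = ((U : Mb) - c • 1).rank := by
  have h := rank_conj_sub U A⁻¹ c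
  rwa [inv_inv] at h

/-- A multiple of a chosen involution has extreme rank. -/
theorem rank_smul_sig {S U : GL β F} (hS : SigT S) {c : F} (hc : c * c = 1) (h : (U : Mb) = c • (S : Mb)) :
    ((2 : F) = 0 → ((U : Mb) - 1).rank = 1) ∧
    ((2 : F) ≠ 0 → ((U : Mb) - 1).rank = Fintype.card β - 1 ∨ ((U : Mb) - 1).rank = 1) := by
  obtain ⟨v, φ, hW⟩ := hS
  have r1 := hW.rank_add_one
  constructor
  · intro h2
    have hc1 : c = 1 := by
      rcases mul_self_eq_one_iff.1 hc with e | e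
      · exact e
      · linear_combination e - h2
    rw [h, hc1, one_smul, sub_one_eq_add_one h2, r1]
  · intro h2
    rcases mul_self_eq_one_iff.1 hc with e | e
    · left
      have r2 := rank_invol h2 (A := (S : Mb)) (by rw [← Units.val_mul, hW.sq, Units.val_one])
      rw [h, e, one_smul]
      omega
    · right
      rw [h, e, show (-1 : F) • (S : Mb) - 1 = -((S : Mb) + 1) by rw [neg_smul, one_smul, neg_add, sub_eq_add_neg],
        rank_neg, r1]

theorem MaxE.bad_rank (hM : Cx M) {i : κ} {E : Set (GL X F)} (hE : MaxE M i E) {S U : GL β F} (hS : SigT S)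
    (hSE : CommE E (pe i S)) (hU2 : U * U = 1) (hUn : ∀ c : F, (U : Mb) ≠ c • 1) (hUE : CommE E (pe i U))
    (hSU : S * U = U * S) (hdet : (U : Mb).det = 1)
    (hUr : (2 : F) = 0 ∧ 2 ≤ ((U : Mb) - 1).rank ∨
      (2 : F) ≠ 0 ∧ ((U : Mb) - 1).rank = 2 ∧ 4 ≤ Fintype.card β) : False := by
  haveI := hM.nontriv
  haveI := hM.nempty
  have hb := hM.hb
  have huu : pe i U * pe i U = 1 := by rw [← map_mul, hU2, map_one]
  have huM : pe i U ∈ M := hM.pe_mem i hdet
  have hout : Out M E (pe i S) (pe i U) := by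
    by_cases hex : Exact F β
    · exact hE.orient1 hM hS hSE huM (TensorPow.pe_mem i U) huu hUE (by rw [← map_mul, ← map_mul, hSU])
        (hE.pure_not_mem hM hU2 hUn) fun w _ hwW hww hwE hwu => hE.adm_exact hM hex hUn hUE hwW hww hwE hwu
    · refine hE.orient2 hM hS hSE huM (TensorPow.pe_mem i U) huu hUE fun y hy _ hz => ?_
      simp only [Exact, not_or, Nat.not_odd_iff_even] at hex
      obtain ⟨σ, gs, hzw⟩ := hz
      by_contra hno
      obtain ⟨-, hk⟩ := hM.fusion_rank hex.1 hUn hU2 (fun y' hy' hc => hM.cent_pure_invol hU2 hUn hy' hc) hy hzw hno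
      obtain ⟨k, hk'⟩ := hex.2
      rcases hUr with ⟨h2, -⟩ | ⟨-, hr, -⟩
      · exact hex.1 h2
      · omega
  have hne : ∀ {U' : GL β F} {c : F}, c * c = 1 → ((U' : Mb) - 1).rank = ((U : Mb) - 1).rank →
      (U' : Mb) = c • (S : Mb) → False := fun hc hr e => by
    obtain ⟨r2, r1⟩ := rank_smul_sig hS hc e
    rcases hUr with ⟨h2, h⟩ | ⟨h2, h, h4⟩
    · have := r2 h2; omega
    · rcases r1 h2 with h' | h' <;> omega
  have hUS : ∀ c : F, (U : Mb) ≠ c • (S : Mb) := fun c e => by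
    refine hne ?_ rfl e
    have h1 := congrArg Units.val hU2
    rw [Units.val_mul, e, Matrix.smul_mul, Matrix.mul_smul, smul_smul, ← Units.val_mul, sigT_sq hS,
      Units.val_one] at h1
    obtain ⟨b⟩ := hM.nempty
    simpa using congrFun (congrFun h1 b) b
  obtain ⟨h, A, -, -, -, c, hc, hAc⟩ := hE.lemmaP hM hS hU2 hUn hUS hout
  refine hne hc ?_ hAc
  simpa using rank_conj_mat A U 1

theorem exists_notin_three (hb : 4 ≤ Fintype.card β) (a b c : β → F) :
    ∃ ψ : β → F, ψ ≠ 0 ∧ ψ ⬝ᵥ a = 0 ∧ ψ ⬝ᵥ b = 0 ∧ ψ ⬝ᵥ c = 0 := by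
  classical
  let L : (β → F) →ₗ[F] (Fin 3 → F) :=
    { toFun := fun ψ => ![ψ ⬝ᵥ a, ψ ⬝ᵥ b, ψ ⬝ᵥ c]
      map_add' := fun x y => by funext k; fin_cases k <;> simp [add_dotProduct]
      map_smul' := fun r x => by funext k; fin_cases k <;> simp [smul_dotProduct] }
  have hL : LinearMap.ker L ≠ ⊥ := fun h => by
    have := LinearMap.finrank_le_finrank_of_injective (LinearMap.ker_eq_bot.1 h)
    rw [Module.finrank_fintype_fun_eq_card, Module.finrank_fin_fun] at this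
    omega
  obtain ⟨ψ, hψ, hψ0⟩ := (Submodule.ne_bot_iff _).1 hL
  rw [LinearMap.mem_ker] at hψ
  exact ⟨ψ, hψ0, congrFun hψ 0, congrFun hψ 1, congrFun hψ 2⟩

/-- Factors of dimension at least four: no admissible bad set. -/
theorem Cx.no_ok_large (hM : Cx M) (hm : 4 ≤ Fintype.card β) {i : κ} {E₀ : Set (GL X F)} (h0 : Ok M i E₀) :
    False := by
  classical
  haveI := hM.nontriv
  haveI := hM.nempty
  have hb := hM.hb
  obtain ⟨E, -, hE⟩ := exists_maxE h0
  obtain ⟨S, ⟨v, φ, hW⟩, hSE⟩ := hE.1.adm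
  have hv := hW.1
  set 𝒩 := Norms i E v φ
  by_cases h2 : (2 : F) = 0
  · have hdet : ∀ U : GL β F, U * U = 1 → (U : Mb).det = 1 := fun U hU => by
      have h := congrArg (fun A : GL β F => (A : Mb).det) hU
      simp only [Units.val_mul, Matrix.det_mul, Units.val_one, Matrix.det_one] at h
      rcases mul_self_eq_one_iff.1 h with e | e
      · exact e
      · linear_combination e - h2
    have hns : ∀ U : GL β F, 2 ≤ ((U : Mb) - 1).rank → U * U = 1 → ∀ c : F, (U : Mb) ≠ c • 1 := by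
      intro U hr hU c e
      have h := congrArg Units.val hU
      rw [Units.val_mul, e, Matrix.smul_mul, one_mul, smul_smul, Units.val_one] at h
      obtain ⟨b⟩ := hM.nempty
      have hc : c * c = 1 := by simpa using congrFun (congrFun h b) b
      have hc1 : c = 1 := by
        rcases mul_self_eq_one_iff.1 hc with e | e
        · exact e
        · linear_combination e - h2
      rw [e, hc1, one_smul, sub_self, (rank_zero_iff (0 : Mb)).2 rfl] at hr
      omega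
    by_cases hbig : ∃ e ∈ E, ∃ N : GL β F, Comp i e N ∧ N * N = 1 ∧ 2 ≤ ((N : Mb) - 1).rank
    · obtain ⟨e, he, N', hN', hN'2, hr'⟩ := hbig
      obtain ⟨N, hN, hNN, e1, e2⟩ := hE.1.norm hM hW hSE he
      have hr : 2 ≤ ((N : Mb) - 1).rank := by
        obtain ⟨c, -, hc⟩ := hN.unique hb hN'
        have h := congrArg Units.val hN'2
        rw [Units.val_mul, hc, Matrix.smul_mul, Matrix.mul_smul, smul_smul, ← Units.val_mul, hNN, Units.val_one] at h
        obtain ⟨b⟩ := hM.nempty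
        have hcc : c * c = 1 := by simpa using congrFun (congrFun h b) b
        rcases mul_self_eq_one_iff.1 hcc with e' | e'
        · rwa [hc, e', one_smul] at hr'
        · rwa [hc, show c = 1 by linear_combination e' - h2, one_smul] at hr'
      exact hE.bad_rank hM ⟨v, φ, hW⟩ hSE hNN (hns N hr hNN)
        (commE_pe_of_norms hM hE.1 hW hSE fun N'' h => norms_comm hM hE.1 hv N'' h N ⟨hNN, e1, e2, e, he, hN⟩)
        (hW.comm_norm e1 e2).symm (hdet N hNN) (Or.inl ⟨h2, hr⟩)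
    push Not at hbig
    by_cases hone : ∀ N ∈ 𝒩, N = 1
    · obtain ⟨w, -, hwφ, hwv⟩ := exists_ker_notin hb φ hv
      obtain ⟨x, hx⟩ := exists_dual hW.2.1
      rw [dotProduct_comm] at hx
      obtain ⟨ψ, hψ, hψv, hψw, hψx⟩ := exists_notin_three hm v w x
      set Q : Mb := vecMulVec v ψ + vecMulVec w φ with hQ
      have hφv : φ ⬝ᵥ v = 0 := hW.2.2.1.trans h2
      have hm2 : (1 + Q) * (1 + Q) = 1 := by
        have hQQ : Q * Q = 0 := by
          simp only [hQ, add_mul, mul_add, vmv_mul, hψv, hψw, hφv, hwφ, zero_smul, add_zero]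
        have h : Q + Q = 0 := by rw [← two_smul F Q, h2, zero_smul]
        rw [add_mul, one_mul, mul_add, mul_one, hQQ, add_zero, add_assoc, h, add_zero]
      set U : GL β F := ⟨_, _, hm2, hm2⟩
      have hU : (U : Mb) = 1 + Q := rfl
      obtain ⟨y, hy⟩ := exists_dual hψ
      rw [dotProduct_comm] at hy
      have hr : 2 ≤ ((U : Mb) - 1).rank := by
        rw [hU, add_sub_cancel_left]
        refine two_le_rank (x := x) (y := y - (φ ⬝ᵥ y) • x) (a := w) (b := v) ?_ ?_ (fun e => hwv 0 (by rw [e, zero_smul])) fun c e => ?_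
        · simp [hQ, Matrix.add_mulVec, Matrix.vecMulVec_mulVec, hψx, hx]
        · simp [hQ, Matrix.add_mulVec, Matrix.mulVec_sub, Matrix.mulVec_smul, Matrix.vecMulVec_mulVec, hψx, hx, hy,
            dotProduct_sub, dotProduct_smul]
        · rcases eq_or_ne c 0 with hc | hc
          · exact hv (by rw [e, hc, zero_smul])
          · exact hwv c⁻¹ (by rw [e, smul_smul, inv_mul_cancel₀ hc, one_smul])
      have hU2 : U * U = 1 := Units.ext (by rw [Units.val_mul, hU, hm2, Units.val_one])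
      have hU1 : (U : Mb) *ᵥ v = v := by
        rw [hU, hQ, Matrix.add_mulVec, Matrix.one_mulVec, Matrix.add_mulVec, Matrix.vecMulVec_mulVec,
          Matrix.vecMulVec_mulVec, op_smul_eq_smul, op_smul_eq_smul, hψv, hφv, zero_smul, zero_smul, add_zero,
          add_zero]
      have hU3 : φ ᵥ* (U : Mb) = φ := by
        rw [hU, hQ, Matrix.vecMul_add, Matrix.vecMul_one, Matrix.vecMul_add, Matrix.vecMul_vecMulVec,
          Matrix.vecMul_vecMulVec, hφv, hwφ, zero_smul, zero_smul, add_zero, add_zero]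
      exact hE.bad_rank hM ⟨v, φ, hW⟩ hSE hU2 (hns U hr hU2)
        (commE_pe_of_norms hM hE.1 hW hSE fun N hN => by rw [hone N hN, one_mul, mul_one])
        (hW.comm_norm hU1 hU3).symm (hdet U hU2) (Or.inl ⟨h2, hr⟩)
    · push Not at hone
      obtain ⟨N, ⟨hNN, -, -, e, he, hN⟩, hN1⟩ := hone
      exact hE.theoremA hM he (sigT_of_small h2 hNN (by have := hbig e he N hN hNN; omega) hN1) hN
        fun _ e' he' N' h h' => by have := hbig e' he' N' h h'; omega
  · obtain ⟨v', φ', hd, hv', hφ', hev⟩ := exists_perp_pair hb h2 hv hW.2.2.1 𝒩 (fun N hN => hN.1)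
      (norms_comm hM hE.1 hv) (fun N hN => ⟨hN.2.1, hN.2.2.1⟩)
    obtain ⟨hv'0, hφ'0⟩ := ne_zero_of_dot h2 hd
    set Q : Mb := vecMulVec v φ + vecMulVec v' φ' with hQ
    have hQQ : Q * Q = (2 : F) • Q := by
      simp only [hQ, add_mul, mul_add, vmv_mul, hW.2.2.1, hd, hv', hφ', zero_smul, add_zero, zero_add, smul_add]
    have hm2 : (1 - Q) * (1 - Q) = 1 := by
      rw [sub_mul, one_mul, mul_sub, mul_one, hQQ, two_smul]
      abel
    set U : GL β F := ⟨_, _, hm2, hm2⟩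
    have hU : (U : Mb) = 1 - Q := rfl
    have hU2 : U * U = 1 := Units.ext (by rw [Units.val_mul, hU, hm2, Units.val_one])
    have hr : ((U : Mb) - 1).rank = 2 := by
      rw [hU, sub_sub_cancel_left, rank_neg]
      refine le_antisymm ((rank_add_le' _ _).trans (Nat.add_le_add (Matrix.rank_vecMulVec_le v φ)
        (Matrix.rank_vecMulVec_le v' φ'))) ?_
      refine two_le_rank (x := v) (y := v') (a := (2 : F) • v) (b := (2 : F) • v') ?_ ?_
        (smul_ne_zero h2 hW.1) fun c e => ?_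
      · simp [hQ, Matrix.add_mulVec, Matrix.vecMulVec_mulVec, hW.2.2.1, hφ', two_smul]
      · simp [hQ, Matrix.add_mulVec, Matrix.vecMulVec_mulVec, hv', hd, two_smul]
      · have h4 := congrArg (φ ⬝ᵥ ·) e
        simp only [dotProduct_smul, hv', hW.2.2.1, smul_eq_mul, mul_zero] at h4
        have hc : c = 0 := by
          rcases mul_eq_zero.1 h4.symm with h | h
          · exact h
          · exact absurd (mul_self_eq_zero.1 h) h2
        rw [hc, zero_smul] at e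
        exact smul_ne_zero h2 hv'0 e
    have hUn : ∀ c : F, (U : Mb) ≠ c • 1 := fun c e => by
      rw [e, ← one_smul F (1 : Mb), smul_smul, mul_one, ← sub_smul] at hr
      by_cases hc : c - 1 = 0
      · rw [hc, zero_smul, (rank_zero_iff (0 : Mb)).2 rfl] at hr
        omega
      · rw [rank_smul_eq _ hc, Matrix.rank_one] at hr
        omega
    have hdet : (U : Mb).det = 1 := by
      have e : (1 - vecMulVec v φ) * (1 - vecMulVec v' φ') = (U : Mb) := by
        rw [hU, hQ, sub_mul, one_mul, mul_sub, mul_one, vmv_mul, hv', zero_smul, sub_zero]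
        abel
      have h1 : ∀ a α : β → F, α ⬝ᵥ a = 2 → (1 - vecMulVec a α : Mb).det = -1 := fun a α h => by
        rw [sub_eq_add_neg, ← Matrix.neg_vecMulVec, Matrix.vecMulVec_eq Unit,
          Matrix.det_one_add_replicateCol_mul_replicateRow, dotProduct_neg, h]
        norm_num
      rw [← e, Matrix.det_mul, h1 _ _ hW.2.2.1, h1 _ _ hd]
      norm_num
    refine hE.bad_rank hM ⟨v, φ, hW⟩ hSE hU2 hUn (commE_pe_of_norms hM hE.1 hW hSE fun N hN => ?_) ?_ hdet
      (Or.inr ⟨h2, hr, hm⟩)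
    · obtain ⟨ε, e1, e2⟩ := hev N hN
      refine Units.ext ?_
      rw [Units.val_mul, Units.val_mul, hU, hQ, mul_sub, sub_mul, mul_one, one_mul, mul_add, add_mul,
        Matrix.mul_vecMulVec, Matrix.vecMulVec_mul, Matrix.mul_vecMulVec, Matrix.vecMulVec_mul, hN.2.1, hN.2.2.1,
        e1, e2, Matrix.smul_vecMulVec, Matrix.vecMulVec_smul]
    · obtain ⟨e1, e2⟩ := sigW_eigen_perp hW hv' hφ'
      refine Units.ext ?_
      rw [Units.val_mul, Units.val_mul, hU, hQ, mul_sub, sub_mul, mul_one, one_mul, mul_add, add_mul,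
        Matrix.mul_vecMulVec, Matrix.vecMulVec_mul, Matrix.mul_vecMulVec, Matrix.vecMulVec_mul, hW.mulVec, hW.vecMul,
        e1, e2, Matrix.smul_vecMulVec, Matrix.vecMulVec_smul]

end Cfsg.Agent.Classical.TensorPow
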