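import Cfsg.Agent.Lib.Classical.TensorPow.Classify

/-!
Lemmas on matrices of one factor: square-zero elements commuting with an involution up to scalars, joint fixed
vectors, commutators of transvections.
-/

set_option autoImplicit false
set_option linter.unusedSectionVars false

open scoped Kronecker

namespace Cfsg.Agent.Classical.TensorPow

open Matrix Module MaxTv TensorMax

variable {F : Type*} [Field F] [Fintype F] {β : Type} [Fintype β] [DecidableEq β]

local notation "Mb" => Matrix β β F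

/-- A nilpotent matrix kills a vector and a functional perpendicular to each other. -/
theorem exists_fixed_pair (hb : 2 ≤ Fintype.card β) {N : Mb} {k : ℕ} (hN : N ^ k = 0) :
    ∃ v φ : β → F, v ≠ 0 ∧ φ ≠ 0 ∧ φ ⬝ᵥ v = 0 ∧ N *ᵥ v = 0 ∧ φ ᵥ* N = 0 := by
  classical
  haveI : Nonempty β := Fintype.card_pos_iff.1 (by omega)
  obtain ⟨φ, hφ, hφN⟩ := exists_ker_of_pow (show Nᵀ ^ k = 0 by rw [← Matrix.transpose_pow, hN, Matrix.transpose_zero])
  rw [Matrix.mulVec_transpose] at hφN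
  obtain ⟨u, hu, hφu⟩ : ∃ u : β → F, u ≠ 0 ∧ φ ⬝ᵥ u = 0 := by
    by_contra hcon
    push Not at hcon
    let L : (β → F) →ₗ[F] F :=
      { toFun := fun x => φ ⬝ᵥ x
        map_add' := fun a b => dotProduct_add φ a b
        map_smul' := fun c a => dotProduct_smul c φ a }
    have hL : Function.Injective L := (injective_iff_map_eq_zero L).2 fun x hx => by_contra fun h => hcon x h hx
    have := LinearMap.finrank_le_finrank_of_injective hL
    rw [Module.finrank_fintype_fun_eq_card, finrank_self] at this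
    omega
  have hex : ∃ j, (N ^ j) *ᵥ u = 0 := ⟨k, by rw [hN, Matrix.zero_mulVec]⟩
  have hj0 : Nat.find hex ≠ 0 := fun e => hu (by simpa [e] using Nat.find_spec hex)
  obtain ⟨j, hj⟩ := Nat.exists_eq_succ_of_ne_zero hj0
  have hmin : (N ^ j) *ᵥ u ≠ 0 := Nat.find_min hex (by omega)
  refine ⟨(N ^ j) *ᵥ u, φ, hmin, hφ, ?_, ?_, hφN⟩
  · rcases Nat.eq_zero_or_pos j with rfl | hj'
    · rw [pow_zero, Matrix.one_mulVec, hφu]
    · obtain ⟨i, rfl⟩ := Nat.exists_eq_succ_of_ne_zero (by omega : j ≠ 0)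
      rw [pow_succ', ← Matrix.mulVec_mulVec, Matrix.dotProduct_mulVec, hφN, zero_dotProduct]
  · have := Nat.find_spec hex
    rwa [hj, pow_succ', ← Matrix.mulVec_mulVec] at this

/-- A square-zero matrix commuting with a matrix with scalar square. -/
theorem exists_comm_sq (hb : 3 ≤ Fintype.card β) (g : GL β F) {c : F} (hg : (g : Mb) * (g : Mb) = c • 1) :
    ∃ N : Mb, N ≠ 0 ∧ N * N = 0 ∧ (g : Mb) * N = N * (g : Mb) := by
  classical
  haveI : Nonempty β := Fintype.card_pos_iff.1 (by omega)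
  by_cases hs : ∃ v : β → F, ∀ d : F, (g : Mb) *ᵥ v ≠ d • v
  · obtain ⟨v, hv⟩ := hs
    obtain ⟨f, hf, hfv, hfgv⟩ := exists_perp2 hb v ((g : Mb) *ᵥ v)
    obtain ⟨x, hx⟩ := exists_dual hf
    rw [dotProduct_comm] at hx
    refine ⟨vecMulVec v (f ᵥ* (g : Mb)) + vecMulVec ((g : Mb) *ᵥ v) f, fun e => ?_, ?_, ?_⟩
    · have h1 := congrArg (· *ᵥ x) e
      simp only [Matrix.add_mulVec, Matrix.vecMulVec_mulVec, op_smul_eq_smul, Matrix.zero_mulVec, hx, one_smul] at h1
      exact hv _ (eq_neg_of_add_eq_zero_right h1 |>.trans (neg_smul _ _).symm)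
    · have h1 : (f ᵥ* (g : Mb)) ⬝ᵥ v = 0 := by rw [← Matrix.dotProduct_mulVec, hfgv]
      have h2 : (f ᵥ* (g : Mb)) ⬝ᵥ ((g : Mb) *ᵥ v) = 0 := by
        rw [← Matrix.dotProduct_mulVec, Matrix.mulVec_mulVec, hg, Matrix.smul_mulVec, Matrix.one_mulVec,
          dotProduct_smul, hfv, smul_zero]
      simp only [add_mul, mul_add, vmv_mul, h1, h2, hfv, hfgv, zero_smul, add_zero]
    · rw [mul_add, add_mul, Matrix.mul_vecMulVec, Matrix.mul_vecMulVec, Matrix.vecMulVec_mul, Matrix.vecMulVec_mul,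
        Matrix.mulVec_mulVec, hg, Matrix.vecMul_vecMul, hg, Matrix.smul_mulVec, Matrix.one_mulVec,
        Matrix.vecMul_smul, Matrix.vecMul_one, Matrix.smul_vecMulVec, Matrix.vecMulVec_smul]
      abel
  · push Not at hs
    obtain ⟨d, hd⟩ := scalar_of_eigen hs
    obtain ⟨b⟩ := ‹Nonempty β›
    obtain ⟨φ, hφ, hφb, -⟩ := exists_perp2 hb (Pi.single b (1 : F)) (Pi.single b 1)
    exact ⟨vecMulVec (Pi.single b 1) φ, vmv_ne_zero (by simp) hφ, by rw [vmv_mul, hφb, zero_smul],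
      by rw [hd, Matrix.smul_mul, Matrix.mul_smul, one_mul, mul_one]⟩

/-- Unipotent elements have determinant one. -/
theorem det_one_add_sq_zero {N : Mb} [Nonempty β] (hN : N * N = 0) : (1 + N).det = 1 := by
  obtain ⟨p, hp⟩ := CharP.exists F
  haveI : Fact p.Prime := ⟨CharP.char_is_prime F p⟩
  have h : (1 + N) ^ p = 1 := by
    obtain ⟨k, hk⟩ : ∃ k, p = k + 2 := ⟨p - 2, by have := (Fact.out : p.Prime).two_le; omega⟩
    rw [add_pow_char_of_commute (p := p) (Commute.one_left _), one_pow, hk, pow_add, pow_two, hN, mul_zero, add_zero]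
  have h1 := congrArg Matrix.det h
  rw [Matrix.det_pow, Matrix.det_one] at h1
  have h2 : ((1 + N).det - 1) ^ p = 0 := by
    rw [sub_pow_char_of_commute (p := p) (Commute.one_right _), one_pow, h1, sub_self]
  exact sub_eq_zero.1 (eq_zero_of_pow_eq_zero h2)

theorem inv_tv {v φ : β → F} {A : GL β F} (hv : φ ⬝ᵥ v = 0) (hA : (A : Mb) = 1 + vecMulVec v φ) :
    ((A⁻¹ : GL β F) : Mb) = 1 - vecMulVec v φ := by
  refine Units.inv_eq_of_mul_eq_one_right ?_
  rw [hA, add_mul, one_mul, mul_sub, mul_one, vmv_mul, hv, zero_smul, sub_zero, sub_add_cancel]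

/-- A transvection is a commutator of two transvections. -/
theorem exists_comm_tv (hb : 3 ≤ Fintype.card β) {u ψ : β → F} (hu : u ≠ 0) (hψ : ψ ≠ 0) (hψu : ψ ⬝ᵥ u = 0)
    {A : GL β F} (hA : (A : Mb) = 1 + vecMulVec u ψ) :
    ∃ (α w : β → F) (B C : GL β F), α ≠ 0 ∧ w ≠ 0 ∧ α ⬝ᵥ u = 0 ∧ ψ ⬝ᵥ w = 0 ∧
      (B : Mb) = 1 + vecMulVec u α ∧ (C : Mb) = 1 + vecMulVec w ψ ∧ A = B * C * B⁻¹ * C⁻¹ := by
  obtain ⟨x, hx⟩ := exists_dual hψ
  rw [dotProduct_comm] at hx
  obtain ⟨α, hα, hαu, hαx⟩ := exists_perp2 hb u x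
  have hnot : α ∉ (F ∙ ψ) := fun hm => by
    obtain ⟨c, rfl⟩ := Submodule.mem_span_singleton.1 hm
    rw [smul_dotProduct, hx, smul_eq_mul, mul_one] at hαx
    exact hα (by rw [hαx, zero_smul])
  obtain ⟨w, hw, hw0⟩ := exists_dot_one hnot
  rw [dotProduct_comm] at hw
  have hψw : ψ ⬝ᵥ w = 0 := by rw [dotProduct_comm]; exact hw0 _ (Submodule.mem_span_singleton_self _)
  have hwne : w ≠ 0 := fun e => by rw [e, dotProduct_zero] at hw; exact zero_ne_one hw
  obtain ⟨B, hB⟩ := exists_tv hαu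
  obtain ⟨C, hC⟩ := exists_tv hψw
  refine ⟨α, w, B, C, hα, hwne, hαu, hψw, tv_val hB, tv_val hC, Units.ext ?_⟩
  rw [Units.val_mul, Units.val_mul, Units.val_mul, tv_val hB, tv_val hC, inv_tv hαu (tv_val hB),
    inv_tv hψw (tv_val hC), hA]
  simp only [add_mul, mul_add, mul_sub, sub_mul, one_mul, mul_one, vmv_mul, Matrix.smul_mul, Matrix.mul_smul,
    smul_smul, hαu, hψw, hψu, hw, zero_smul, one_smul, mul_zero, sub_zero, add_zero, zero_add, smul_zero, zero_mul]
  abel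

end Cfsg.Agent.Classical.TensorPow
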