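import Cfsg.Agent.Lib.Classical.TensorPow.Three
import Cfsg.Agent.Lib.Classical.MaxTransvection

/-!
The tensor-wreath stabilisers are maximal in the special linear group.
-/

set_option autoImplicit false
set_option linter.unusedSectionVars false

namespace Cfsg.Agent.Classical.TensorPow

open Matrix Module MaxTv TensorMax

variable {F : Type*} [Field F] [Fintype F] {β : Type} [Fintype β] [DecidableEq β]

theorem maxAt (hb : 3 ≤ Fintype.card β) : ∀ (t : ℕ) (κ : Type) [Fintype κ] [DecidableEq κ] [Nonempty κ],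
    Fintype.card κ = t → MaxAt F κ β := by
  intro t
  induction t using Nat.strong_induction_on with
  | _ t ih =>
    intro κ _ _ _ hcard M hH hle hns g hg
    classical
    obtain ⟨i⟩ := ‹Nonempty κ›
    by_cases hsub : ∀ l : κ, l = i
    · exact one_of_subsingleton hsub g
    push Not at hsub
    obtain ⟨l₀, hl₀⟩ := hsub
    have ht : 2 ≤ Fintype.card κ := Fintype.one_lt_card_iff.2 ⟨l₀, i, hl₀⟩
    have hM : Cx M := ⟨hle, hH, hns, hb, ht, fun j => by
      haveI : Nonempty (Rst j) := by
        obtain ⟨l, hl⟩ := Fintype.exists_ne_of_one_lt_card (show 1 < Fintype.card κ by omega) j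
        exact ⟨⟨l, hl⟩⟩
      exact ih _ (hcard ▸ Fintype.card_subtype_lt (x := j) (by simp)) (Rst j) rfl⟩
    by_contra hgW
    obtain ⟨S, hS⟩ := exists_sigT (F := F) (β := β) (by omega)
    have hok : Ok M i (∅ : Set (GL (κ → β) F)) := ⟨fun e he => absurd he (Set.notMem_empty e),
      fun e he => absurd he (Set.notMem_empty e), ⟨g, hg, hgW, fun e he => absurd he (Set.notMem_empty e)⟩,
      ⟨S, hS, fun e he => absurd he (Set.notMem_empty e)⟩⟩
    by_cases hm : Fintype.card β = 3
    · exact hM.no_ok_three hm hok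
    · exact hM.no_ok_large (by omega) hok

/-- The stabiliser does not contain the special linear group. -/
theorem sl_not_le_Wr {κ : Type} [Fintype κ] [DecidableEq κ] (hb : 2 ≤ Fintype.card β) (hκ : 2 ≤ Fintype.card κ) :
    ¬ Geo.specialLinear (κ → β) F ≤ Wr F κ β := by
  classical
  intro h
  obtain ⟨a, b, hab⟩ := Fintype.exists_pair_of_one_lt_card (show 1 < Fintype.card β by omega)
  obtain ⟨l₀, l₁, hl⟩ := Fintype.exists_pair_of_one_lt_card (show 1 < Fintype.card κ by omega)
  set p : κ → β := fun _ => a with hp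
  set q : κ → β := fun _ => b with hq
  have hpq : p ≠ q := fun e => hab (congrFun e l₀)
  have hdot : Pi.single q (1 : F) ⬝ᵥ Pi.single p (1 : F) = 0 := by
    rw [dotProduct_single, mul_one, Pi.single_eq_of_ne hpq]
  obtain ⟨g, hg⟩ := exists_tv hdot
  obtain ⟨σ, gs, hw⟩ := h ((mem_sl_iff g).2 (by
    rw [tv_val hg, Matrix.vecMulVec_eq Unit, Matrix.det_one_add_replicateCol_mul_replicateRow, hdot, add_zero]))
  have hq' : (Pi.single q 1 : (κ → β) → F) = ptens fun _ => Pi.single b 1 := by
    funext x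
    rw [ptens]
    by_cases e : x = q
    · subst e; simp [hq]
    · obtain ⟨l, hl'⟩ := Function.ne_iff.1 e
      rw [Pi.single_eq_of_ne e, eq_comm]
      exact Finset.prod_eq_zero (Finset.mem_univ l) (Pi.single_eq_of_ne (by simpa [hq] using hl') _)
  set ws : κ → β → F := fun l => (gs l : Matrix β β F) *ᵥ Pi.single b 1
  have key : ∀ x : κ → β, (∏ l, ws l (x l)) = (Pi.single q 1 : (κ → β) → F) x + (Pi.single p 1 : (κ → β) → F) x := by
    intro x
    have h1 := hg (Pi.single q 1)
    rw [dotProduct_single, mul_one, Pi.single_eq_same, one_smul] at h1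
    conv_lhs at h1 => rw [hw, hq', wgl_mulVec]
    exact congrFun h1 x
  have hp1 := key p
  rw [Pi.single_eq_of_ne hpq, Pi.single_eq_same, zero_add] at hp1
  have hq1 := key q
  rw [Pi.single_eq_same, Pi.single_eq_of_ne hpq.symm, add_zero] at hq1
  set x : κ → β := Function.update q l₀ a
  have hx := key x
  rw [Pi.single_eq_of_ne (fun e => hab (by have := congrFun e l₀; simpa [x, hq] using this)),
    Pi.single_eq_of_ne (fun e => hab (by have := congrFun e l₁; simpa [x, hp, hq, hl.symm] using this.symm)),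
    add_zero] at hx
  obtain ⟨l, -, hl0⟩ := Finset.prod_eq_zero_iff.1 hx
  by_cases e : l = l₀
  · exact one_ne_zero (hp1.symm.trans (Finset.prod_eq_zero (Finset.mem_univ l) (by simpa [x, hp, e] using hl0)))
  · exact one_ne_zero (hq1.symm.trans (Finset.prod_eq_zero (Finset.mem_univ l) (by simpa [x, hq, e] using hl0)))

theorem standard_eq (m t : ℕ) : Geo.tensorWreathStandard m t F = Wr F (Fin t) (Fin m) := by
  have hperm : ∀ (π : Equiv.Perm (Fin t)) (x y : Fin t → Fin m),
      (wgl π (1 : Fin t → GL (Fin m) F) : Matrix (Fin t → Fin m) (Fin t → Fin m) F) x y =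
        if x = y ∘ π then 1 else 0 := fun π x y => by
    rw [wgl_scalar_apply π 1 (fun _ => 1) (fun l => by simp), Finset.prod_const_one, one_mul]
  refine le_antisymm ((Subgroup.closure_le _).2 ?_) ?_
  · rintro g (⟨gs, hg⟩ | ⟨σ, hg⟩)
    · exact ⟨1, gs, Units.ext (Matrix.ext fun x y => hg x y)⟩
    · refine ⟨σ⁻¹, 1, Units.ext (Matrix.ext fun x y => ?_)⟩
      rw [hg, hperm]
      refine if_congr ⟨fun h => ?_, fun h => ?_⟩ rfl rfl
      · funext l; rw [h, Function.comp_apply, Function.comp_apply, perm_apply_inv]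
      · funext l; rw [h, Function.comp_apply, Function.comp_apply, perm_inv_apply]
  · rintro g ⟨σ, gs, rfl⟩
    have e : wgl σ gs = wgl 1 gs * wgl σ 1 := by
      rw [wgl_mul, mul_one]
      simp
    rw [e]
    refine mul_mem (Subgroup.subset_closure (Or.inl ⟨gs, fun x y => rfl⟩))
      (Subgroup.subset_closure (Or.inr ⟨σ⁻¹, fun x y => ?_⟩))
    rw [hperm]
    refine if_congr ⟨fun h => ?_, fun h => ?_⟩ rfl rfl
    · funext l; rw [h, Function.comp_apply, Function.comp_apply, perm_apply_inv]
    · funext l; rw [h, Function.comp_apply, Function.comp_apply, perm_inv_apply]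

/-- Maximality of the tensor-wreath stabilisers. -/
theorem tensor_wreath_maximal {n m t : ℕ} (hm : 3 ≤ m) (ht : 2 ≤ t) (e : Fin n ≃ (Fin t → Fin m))
    (P : GL (Fin n) F) :
    Geo.IsMaximalIn (Geo.specialLinear (Fin n) F)
      (Geo.tensorWreathSubgroup m t e P ⊓ Geo.specialLinear (Fin n) F) := by
  haveI : Nonempty (Fin t) := ⟨⟨0, by omega⟩⟩
  let Φ : GL (Fin t → Fin m) F ≃* GL (Fin n) F := (Geo.glReindex e.symm).trans (MulAut.conj P)
  have hdet : ∀ g, (Φ g : Matrix (Fin n) (Fin n) F).det = (g : Matrix (Fin t → Fin m) (Fin t → Fin m) F).det := by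
    intro g
    show ((P * Geo.glReindex e.symm g * P⁻¹ : GL (Fin n) F) : Matrix (Fin n) (Fin n) F).det = _
    rw [Units.val_mul, Units.val_mul, Matrix.det_units_conj]
    exact Matrix.det_reindex_self _ _
  have hsl : ∀ g, Φ g ∈ Geo.specialLinear (Fin n) F ↔ g ∈ Geo.specialLinear (Fin t → Fin m) F := fun g => by
    rw [mem_sl_iff, mem_sl_iff, hdet]
  have hW : Geo.tensorWreathSubgroup m t e P = (Wr F (Fin t) (Fin m)).map Φ.toMonoidHom := by
    rw [Geo.tensorWreathSubgroup, standard_eq, Subgroup.map_map]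
    rfl
  have hmemW : ∀ g, Φ g ∈ Geo.tensorWreathSubgroup m t e P ↔ g ∈ Wr F (Fin t) (Fin m) := fun g => by
    rw [hW]
    exact Subgroup.mem_map_iff_mem Φ.injective
  refine isMaximalIn_intro inf_le_right (fun h => ?_) fun M hHM hMK g hg hgH => ?_
  · refine sl_not_le_Wr (F := F) (κ := Fin t) (β := Fin m) (by simp; omega) (by simp; omega) fun a ha => ?_
    exact (hmemW a).1 (h ((hsl a).2 ha)).1
  intro z hz
  obtain ⟨a, rfl⟩ := Φ.surjective z
  have hz' := (hsl a).1 hz
  obtain ⟨b, rfl⟩ := Φ.surjective g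
  have hb : b ∉ Wr F (Fin t) (Fin m) := fun h => hgH ⟨(hmemW b).2 h, hMK hg⟩
  by_contra hzM
  refine hb (maxAt (by simp; omega) t (Fin t) (Fintype.card_fin t) (M.comap Φ.toMonoidHom)
    (fun c hc => hHM ⟨(hmemW c).2 hc.1, (hsl c).2 hc.2⟩) (fun c hc => (hsl c).1 (hMK hc))
    (fun h => hzM (h hz')) hg)

end Cfsg.Agent.Classical.TensorPow
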