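import Cfsg.Agent.Lib.Classical.TensorPow.Classify

/-!
Ranks for permutations of the factors of order two.
-/

set_option autoImplicit false
set_option linter.unusedSectionVars false

namespace Cfsg.Agent.Classical.TensorPow

open Matrix Module MaxTv TensorMax

variable {F : Type*} [Field F] [Fintype F] {κ β : Type} [Fintype κ] [DecidableEq κ] [Fintype β] [DecidableEq β]

local notation "X" => (κ → β)
local notation "Mn" => Matrix (κ → β) (κ → β) F
local notation "Mb" => Matrix β β F

/-- With scalar components the element is a multiple of a permutation matrix. -/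
theorem wgl_scalar_apply (σ : Equiv.Perm κ) (gs : κ → GL β F) (c : κ → F)
    (hc : ∀ l, (gs l : Mb) = c l • 1) (x y : X) :
    (wgl σ gs : Mn) x y = (∏ l, c l) * if x = y ∘ σ then 1 else 0 := by
  rw [wgl_val, wm, Matrix.of_apply]
  simp only [hc, Matrix.smul_apply, smul_eq_mul, Finset.prod_mul_distrib]
  congr 1
  by_cases h : x = y ∘ σ
  · subst h
    rw [if_pos rfl]
    exact Finset.prod_eq_one fun l _ => Matrix.one_apply_eq _
  · obtain ⟨l, hl⟩ := Function.ne_iff.1 h
    rw [if_neg h]
    exact Finset.prod_eq_zero (Finset.mem_univ l) (Matrix.one_apply_ne hl)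

theorem rank_smul_eq {ι : Type} [Fintype ι] [DecidableEq ι] (A : Matrix ι ι F) {c : F} (hc : c ≠ 0) :
    (c • A).rank = A.rank := by
  have e : c • A = (c • (1 : Matrix ι ι F)) * A := by rw [Matrix.smul_mul, one_mul]
  rw [e, Matrix.rank_mul_eq_right_of_isUnit_det]
  rw [Matrix.det_smul, Matrix.det_one, mul_one]
  exact isUnit_iff_ne_zero.2 (pow_ne_zero _ hc)

/-- The permutation matrix minus one. -/
theorem rank_perm_sub_one_le {σ : Equiv.Perm κ} (hσ : σ * σ = 1) (P : Mn)
    (hP : ∀ x y, P x y = if x = y ∘ σ then 1 else 0) : (P - 1).rank ≤ (halfY (β := β) σ).card := by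
  classical
  set Y := halfY (β := β) σ
  set B : Matrix Y X F := (P - 1).submatrix (fun y : Y => y.1) id with hB
  set A : Matrix X Y F := Matrix.of fun x (y : Y) => if x = y.1 then 1 else if x = y.1 ∘ σ then -1 else 0 with hA
  have hinv : ∀ x y : X, (x ∘ σ = y ∘ σ) ↔ x = y := fun x y =>
    ⟨fun h => by rw [← comp_comp_self hσ x, h, comp_comp_self hσ], fun h => by rw [h]⟩
  have hrow : ∀ x z, (P - 1) (x ∘ σ) z = -((P - 1) x z) := fun x z => by
    simp only [Matrix.sub_apply, hP, Matrix.one_apply]
    have e1 : x ∘ σ = z ∘ σ ↔ x = z := hinv x z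
    have e2 : x ∘ σ = z ↔ x = z ∘ σ :=
      ⟨fun h => by rw [← h, comp_comp_self hσ], fun h => by rw [h, comp_comp_self hσ]⟩
    simp only [e1, e2]
    by_cases a : x = z <;> by_cases b : x = z ∘ σ <;> simp [a, b]
  have hAB : P - 1 = A * B := by
    ext x z
    rw [Matrix.mul_apply]
    by_cases h1 : x ∈ Y
    · rw [Finset.sum_eq_single ⟨x, h1⟩]
      · simp [hA, hB]
      · intro y _ hy
        have hxy : x ≠ y.1 := fun e => hy (Subtype.ext e.symm)
        have hxy' : x ≠ y.1 ∘ σ := fun e => by
          have h2 := (Finset.mem_filter.1 h1).2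
          have h3 := (Finset.mem_filter.1 y.2).2
          rw [e, comp_comp_self hσ] at h2
          omega
        simp [hA, hxy, hxy']
      · simp
    by_cases h2 : x ∘ σ ∈ Y
    · rw [Finset.sum_eq_single ⟨x ∘ σ, h2⟩]
      · have hne : x ≠ x ∘ σ := fun e => h1 (by rw [e]; exact h2)
        simp [hA, hB, hne, comp_comp_self hσ, hrow, neg_mul]
      · intro y _ hy
        have hxy : x ≠ y.1 := fun e => h1 (e ▸ y.2)
        have hxy' : x ≠ y.1 ∘ σ := fun e => hy (Subtype.ext (by
          show y.1 = x ∘ σ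
          rw [e, comp_comp_self hσ]))
        simp [hA, hxy, hxy']
      · simp
    have hz : x ∘ σ = x := by
      by_contra hne
      rcases lt_trichotomy (key σ x) (key σ (x ∘ σ)) with h | h | h
      · exact h1 (Finset.mem_filter.2 ⟨Finset.mem_univ _, h⟩)
      · exact hne ((key_eq_iff x).1 h)
      · exact h2 (Finset.mem_filter.2 ⟨Finset.mem_univ _, by rwa [comp_comp_self hσ]⟩)
    rw [Finset.sum_eq_zero fun y _ => ?_]
    · have e : x = z ∘ σ ↔ x = z :=
        ⟨fun h => (hinv x z).1 (hz.trans h), fun h => hz.symm.trans ((hinv x z).2 h)⟩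
      rw [Matrix.sub_apply, hP, Matrix.one_apply]
      simp [e]
    · have hxy : x ≠ y.1 := fun e => h1 (e ▸ y.2)
      have hxy' : x ≠ y.1 ∘ σ := fun e => h1 (by
        have : y.1 = x := by rw [← comp_comp_self hσ y.1, ← e, hz]
        exact this ▸ y.2)
      simp [hA, hxy, hxy']
  rw [hAB]
  refine (Matrix.rank_mul_le_right A B).trans ?_
  exact (Matrix.rank_le_card_height B).trans (le_of_eq (Fintype.card_coe Y))

/-- An involution with scalar components at fixed factors: two possible ranks. -/
theorem rank_mono [Nontrivial β] {σ : Equiv.Perm κ} {gs : κ → GL β F} (hσ : σ * σ = 1)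
    (hz : wgl σ gs * wgl σ gs = 1) (hfix : ∀ l, σ l = l → ∃ c : F, (gs l : Mb) = c • 1) :
    ((wgl σ gs : Mn) - 1).rank = (halfY (β := β) σ).card ∨
      ((wgl σ gs : Mn) - 1).rank = (halfY (β := β) σ).card + (fixZ (β := β) σ).card := by
  classical
  obtain ⟨h, gs', he, hmv, hfx⟩ := exists_mono hσ hz
  have hall : ∀ l, ∃ c : F, (gs' l : Mb) = c • 1 := fun l => by
    by_cases hl : σ l = l
    · rw [hfx l hl]; exact hfix l hl
    · exact hmv l hl
  choose c hc using hall
  set μ := ∏ l, c l
  set P : Mn := Matrix.of fun x y => if x = y ∘ σ then 1 else 0 with hP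
  have hzP : (wgl σ gs' : Mn) = μ • P := by
    ext x y
    rw [wgl_scalar_apply σ gs' c hc, Matrix.smul_apply, smul_eq_mul]
    rfl
  have hrk : ((wgl σ gs : Mn) - 1).rank = (μ • P - 1).rank := by
    rw [← rank_sub_smul_one (wgl σ gs : Mn), ← rank_conj_sub (wgl σ gs) (wgl 1 h) 1, he, hzP, rank_sub_smul_one]
  have hPg : (wgl σ (1 : κ → GL β F) : Mn) = P := by
    ext x y
    rw [wgl_scalar_apply σ (1 : κ → GL β F) (fun _ => 1) (fun l => by simp), Finset.prod_const_one, one_mul]
    rfl
  have hPP : P * P = 1 := by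
    have h1 : wgl σ (1 : κ → GL β F) * wgl σ 1 = 1 := by
      rw [wgl_mul, hσ, ← wgl_one]
      congr 1
      funext l
      simp
    rw [← hPg, ← Units.val_mul, h1, Units.val_one]
  have hμ : μ * μ = 1 := by
    have h1 : wgl σ gs' * wgl σ gs' = 1 := by
      rw [← he]
      calc _ = (wgl 1 h)⁻¹ * (wgl σ gs * wgl σ gs) * wgl 1 h := by group
        _ = 1 := by rw [hz, mul_one, inv_mul_cancel]
    have h2 := congrArg Units.val h1
    rw [Units.val_mul, hzP, Units.val_one, Matrix.smul_mul, Matrix.mul_smul, smul_smul, hPP] at h2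
    obtain ⟨b⟩ := ‹Nontrivial β›.to_nonempty
    have h3 := congrFun (congrFun h2 fun _ => b) fun _ => b
    simpa using h3
  have hle : (P - 1).rank ≤ (halfY (β := β) σ).card :=
    rank_perm_sub_one_le hσ P fun x y => rfl
  have hge : (halfY (β := β) σ).card ≤ (P - 1).rank := by
    rw [← hPg]
    simpa using card_halfY_le_rank_mono (gs := (1 : κ → GL β F)) hσ (fun l _ => ⟨1, by simp⟩) (one_ne_zero (α := F))
  have hP1 : (P - 1).rank = (halfY (β := β) σ).card := le_antisymm hle hge
  rw [hrk]
  rcases mul_self_eq_one_iff.1 hμ with h1 | h1 <;> rw [h1]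
  · exact Or.inl (by rw [one_smul, hP1])
  have e : (-1 : F) • P - 1 = (-1 : F) • (P + 1) := by simp [sub_eq_add_neg, add_comm]
  rw [e, rank_smul_eq _ (neg_ne_zero.2 one_ne_zero)]
  by_cases h2 : (2 : F) = 0
  · left
    rw [← hP1]
    congr 1
    rw [sub_eq_add_neg]
    congr 1
    ext x y
    rw [Matrix.neg_apply, eq_neg_iff_add_eq_zero]
    linear_combination ((1 : Mn) x y) * h2
  right
  have hsum : Fintype.card X ≤ (P + 1).rank + (P - 1).rank := by
    have h3 := rank_add_le' (P + 1) ((-1 : F) • (P - 1))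
    rw [rank_smul_eq _ (neg_ne_zero.2 one_ne_zero)] at h3
    have h4 : (P + 1) + (-1 : F) • (P - 1) = (2 : F) • 1 := by
      rw [neg_smul, one_smul, neg_sub, two_smul]
      abel
    rw [h4, rank_smul_eq _ h2, Matrix.rank_one] at h3
    exact h3
  have hsum' := Matrix.rank_add_rank_le_card_of_mul_eq_zero (A := P + 1) (B := P - 1) (by
    rw [add_mul, mul_sub, hPP, mul_one, one_mul]; abel)
  have := card_halves (β := β) hσ
  omega

/-- Without fixed factors the fixed points are the square root of the whole. -/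
theorem card_fixZ_sq {σ : Equiv.Perm κ} (hσ : σ * σ = 1) (hno : ∀ l, σ l ≠ l) :
    (fixZ (β := β) σ).card * (fixZ (β := β) σ).card = Fintype.card (κ → β) := by
  classical
  set e := Fintype.equivFin κ
  let R := {l : κ // e l < e (σ l)}
  have hor : ∀ l, ¬ e l < e (σ l) → e (σ l) < e (σ (σ l)) := fun l hl => by
    rw [sq_apply hσ]
    exact lt_of_le_of_ne (not_lt.1 hl) fun h => hno l (e.injective h)
  let ext' : (R → β) → X := fun f l => if h : e l < e (σ l) then f ⟨l, h⟩ else f ⟨σ l, hor l h⟩
  have hfix : ∀ f, ext' f ∘ σ = ext' f := fun f => funext fun l => by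
    simp only [ext', Function.comp_apply]
    by_cases h : e l < e (σ l)
    · have hn : ¬ e (σ l) < e (σ (σ l)) := by rw [sq_apply hσ]; exact asymm h
      rw [dif_pos h, dif_neg hn]
      exact congrArg f (Subtype.ext (sq_apply hσ l))
    · rw [dif_neg h, dif_pos (hor l h)]
  let eqv : {x : X // x ∘ σ = x} ≃ (R → β) :=
    { toFun := fun x r => x.1 r.1
      invFun := fun f => ⟨ext' f, hfix f⟩
      left_inv := fun x => Subtype.ext (funext fun l => by
        simp only [ext']
        split_ifs with h
        · rfl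
        · exact congrFun x.2 l)
      right_inv := fun f => funext fun r => by simp only [ext']; rw [dif_pos r.2] }
  let eqv2 : X ≃ (R → β) × (R → β) :=
    { toFun := fun x => (fun r => x r.1, fun r => x (σ r.1))
      invFun := fun p l => if h : e l < e (σ l) then p.1 ⟨l, h⟩ else p.2 ⟨σ l, hor l h⟩
      left_inv := fun x => funext fun l => by
        simp only
        split_ifs with h
        · rfl
        · rw [sq_apply hσ]
      right_inv := fun p => by
        refine Prod.ext (funext fun r => ?_) (funext fun r => ?_)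
        · simp only; rw [dif_pos r.2]
        · have hn : ¬ e (σ r.1) < e (σ (σ r.1)) := by rw [sq_apply hσ]; exact asymm r.2
          simp only
          rw [dif_neg hn]
          exact congrArg p.2 (Subtype.ext (sq_apply hσ r.1)) }
  rw [Fintype.card_congr eqv2, Fintype.card_prod, ← Fintype.card_congr eqv, fixZ, ← Fintype.card_subtype]

end Cfsg.Agent.Classical.TensorPow
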