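import Cfsg.Agent.Lib.Classical.TensorPow.Fusion

/-!
Fusion of the pure involutions with one component of the chosen type.
-/

set_option autoImplicit false
set_option linter.unusedSectionVars false

open scoped Kronecker

namespace Cfsg.Agent.Classical.TensorPow

open Matrix Module MaxTv TensorMax

variable {F : Type*} [Field F] [Fintype F] {κ β : Type} [Fintype κ] [DecidableEq κ] [Fintype β] [DecidableEq β]

local notation "X" => (κ → β)
local notation "Mn" => Matrix (κ → β) (κ → β) F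
local notation "Mb" => Matrix β β F

variable {M : Subgroup (GL (κ → β) F)}

/-- The involutions `-1 + v φ` with `φ v = 2`: in characteristic two the transvections. -/
def SigW (v φ : β → F) (S : GL β F) : Prop :=
  v ≠ 0 ∧ φ ≠ 0 ∧ φ ⬝ᵥ v = 2 ∧ (S : Matrix β β F) = -1 + vecMulVec v φ

/-- An involution of that type. -/
def SigT (S : GL β F) : Prop := ∃ v φ, SigW v φ S

theorem SigW.nonscalar (hb : 2 ≤ Fintype.card β) {v φ : β → F} {S : GL β F} (h : SigW v φ S) (c : F) :
    (S : Mb) ≠ c • 1 := by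
  intro e
  rw [h.2.2.2, neg_add_eq_iff_eq_add] at e
  have hr := Matrix.rank_vecMulVec_le v φ
  by_cases hc : 1 + c = 0
  · refine vmv_ne_zero h.1 h.2.1 ?_
    rw [e, ← one_smul F (1 : Mb), smul_smul, ← add_smul, mul_one, hc, zero_smul]
  · rw [e, ← one_smul F (1 : Mb), smul_smul, ← add_smul, mul_one, rank_smul_eq _ hc, Matrix.rank_one] at hr
    omega

theorem SigW.sq {v φ : β → F} {S : GL β F} (h : SigW v φ S) : S * S = 1 := by
  refine Units.ext ?_
  rw [Units.val_mul, Units.val_one, h.2.2.2]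
  simp only [add_mul, mul_add, neg_mul, mul_neg, one_mul, mul_one, vmv_mul, h.2.2.1, two_smul]
  abel

theorem SigW.mulVec {v φ : β → F} {S : GL β F} (h : SigW v φ S) : (S : Mb) *ᵥ v = v := by
  rw [h.2.2.2, Matrix.add_mulVec, Matrix.neg_mulVec, Matrix.one_mulVec, Matrix.vecMulVec_mulVec, op_smul_eq_smul,
    h.2.2.1, two_smul, neg_add_cancel_left]

theorem SigW.vecMul {v φ : β → F} {S : GL β F} (h : SigW v φ S) : φ ᵥ* (S : Mb) = φ := by
  rw [h.2.2.2, Matrix.vecMul_add, Matrix.vecMul_neg, Matrix.vecMul_one, Matrix.vecMul_vecMulVec, h.2.2.1,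
    two_smul, neg_add_cancel_left]

theorem SigW.comm_iff {v φ : β → F} {S : GL β F} (h : SigW v φ S) (g : GL β F) :
    g * S = S * g ↔ (g : Mb) * vecMulVec v φ = vecMulVec v φ * (g : Mb) := by
  constructor
  · intro e
    have := congrArg Units.val e
    rw [Units.val_mul, Units.val_mul, h.2.2.2] at this
    simpa [mul_add, add_mul] using this
  · intro e
    refine Units.ext ?_
    rw [Units.val_mul, Units.val_mul, h.2.2.2]
    simp [mul_add, add_mul, e]

theorem SigW.det {v φ : β → F} {S : GL β F} (h : SigW v φ S) :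
    (S : Mb).det = (-1) ^ (Fintype.card β + 1) := by
  have e : (-1 : Mb) + vecMulVec v φ = (-1 : F) • (1 + vecMulVec (-v) φ) := by
    rw [Matrix.neg_vecMulVec, neg_smul, one_smul, neg_add, neg_neg]
  rw [h.2.2.2, e, Matrix.det_smul, Matrix.vecMulVec_eq Unit, Matrix.det_one_add_replicateCol_mul_replicateRow,
    dotProduct_neg, h.2.2.1, pow_succ]
  norm_num

theorem SigW.det_pe (hκ : 2 ≤ Fintype.card κ) {v φ : β → F} {S : GL β F} (h : SigW v φ S) (i : κ) :
    (pe i S : Mn).det = 1 := by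
  rw [pe_det, h.det, ← pow_mul, card_rst]
  refine Even.neg_one_pow ?_
  obtain ⟨k, hk⟩ : ∃ k, Fintype.card κ - 1 = k + 1 := ⟨Fintype.card κ - 2, by omega⟩
  rcases Nat.even_or_odd (Fintype.card β) with he | ho
  · rw [hk, pow_succ]
    exact (he.mul_left _).mul_left _
  · exact (ho.add_odd odd_one).mul_right _

/-- An involution and its negative: the ranks add up. -/
theorem rank_invol {ι : Type} [Fintype ι] [DecidableEq ι] (h2 : (2 : F) ≠ 0) {A : Matrix ι ι F} (hA : A * A = 1) :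
    (A - 1).rank + (A + 1).rank = Fintype.card ι := by
  refine le_antisymm (Matrix.rank_add_rank_le_card_of_mul_eq_zero (A := A - 1) (B := A + 1) ?_) ?_
  · rw [sub_mul, mul_add, hA, mul_one, one_mul]
    abel
  · have h3 := rank_add_le' (A + 1) ((-1 : F) • (A - 1))
    rw [rank_smul_eq _ (neg_ne_zero.2 one_ne_zero)] at h3
    have h4 : (A + 1) + (-1 : F) • (A - 1) = (2 : F) • 1 := by
      rw [neg_smul, one_smul, neg_sub, two_smul]
      abel
    rw [h4, rank_smul_eq _ h2, Matrix.rank_one] at h3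
    omega

theorem SigW.rank_add_one {v φ : β → F} {S : GL β F} (h : SigW v φ S) : ((S : Mb) + 1).rank = 1 := by
  rw [h.2.2.2, add_comm (-1 : Mb), add_assoc, neg_add_cancel, add_zero]
  refine le_antisymm (Matrix.rank_vecMulVec_le v φ) (Nat.one_le_iff_ne_zero.2 fun e => ?_)
  exact vmv_ne_zero h.1 h.2.1 ((rank_zero_iff _).1 e)

theorem rank_et (i : κ) (T : Mb) :
    (et i T : Mn).rank = Fintype.card β ^ (Fintype.card κ - 1) * T.rank := by
  rw [← Matrix.rank_reindex (spE i) (spE i) (et i T), et, tmul_mulVec_wm, Function.update_self]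
  have e : wm (1 : Equiv.Perm (Rst i)) (fun j : Rst i => Function.update (1 : κ → Mb) i T j.1) = 1 := by
    rw [← wm_one]
    exact wm_congr rfl fun j => by rw [Function.update_of_ne j.2]; rfl
  rw [e, rank_one_kron, card_rst]

theorem pe_sub_one_rank (i : κ) (U : GL β F) :
    ((pe i U : Mn) - 1).rank = Fintype.card β ^ (Fintype.card κ - 1) * ((U : Mb) - 1).rank := by
  rw [← rank_et i, ← et_val]
  congr 1
  conv_rhs => rw [sub_eq_add_neg, ← neg_one_smul F (1 : Mb), et_add, et_smul, et_one, neg_one_smul]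
  rw [sub_eq_add_neg]

theorem wgl_pow_fix {π : Equiv.Perm κ} {hs : κ → GL β F} {i : κ} (h : π i = i) (k : ℕ) :
    ∃ ks : κ → GL β F, wgl π hs ^ k = wgl (π ^ k) ks ∧ ks i = hs i ^ k := by
  induction k with
  | zero => exact ⟨1, by rw [pow_zero, pow_zero, wgl_one], by simp⟩
  | succ k ih =>
    obtain ⟨ks, h1, h2⟩ := ih
    refine ⟨_, by rw [pow_succ', h1, wgl_mul, pow_succ], ?_⟩
    rw [h, h2, pow_succ']

theorem conj_invol {x P : GL X F} (h : P * P = 1) : x * P * x⁻¹ * (x * P * x⁻¹) = 1 := by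
  rw [show x * P * x⁻¹ * (x * P * x⁻¹) = x * (P * P) * x⁻¹ by group, h, mul_one, mul_inv_cancel]

theorem comm_conj {G : Type*} [Group G] {x P Q : G} (h : x * P * x⁻¹ * Q = Q * (x * P * x⁻¹)) :
    x⁻¹ * Q * x * P = P * (x⁻¹ * Q * x) := by
  calc x⁻¹ * Q * x * P = x⁻¹ * (Q * (x * P * x⁻¹)) * x := by group
    _ = x⁻¹ * (x * P * x⁻¹ * Q) * x := by rw [h]
    _ = P * (x⁻¹ * Q * x) := by group

/-- A conjugate fixing a slot. -/
theorem Cx.fixed_fusion (hM : Cx M) {i : κ} {U : GL β F} (hU : ∀ c : F, (U : Mb) ≠ c • 1) (hU2 : U * U = 1)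
    (hC : ∀ y ∈ M, y * pe i U = pe i U * y → y ∈ Wr F κ β) {x : GL X F} (hx : x ∈ M) {σ : Equiv.Perm κ}
    {gs : κ → GL β F} (hz : x * pe i U * x⁻¹ = wgl σ gs) {l : κ} (hl : σ l = l) : x ∈ Wr F κ β := by
  classical
  haveI := hM.nontriv
  haveI := hM.nempty
  have hb := hM.hb
  obtain ⟨c, hc⟩ : ∃ c : F, (gs l : Mb) * (gs l : Mb) = c • 1 := by
    have h := conj_invol (x := x) (show pe i U * pe i U = 1 by rw [← map_mul, hU2, map_one])
    rw [hz, wgl_mul] at h
    obtain ⟨c, hc⟩ := (wgl_eq_one h).2 l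
    rw [hl, Units.val_mul] at hc
    exact ⟨c, hc⟩
  obtain ⟨N, hN0, hN2, hgN⟩ := exists_comm_sq hb (gs l) hc
  let A : GL β F := Matrix.GeneralLinearGroup.mkOfDetNeZero (1 + N) (by
    rw [det_one_add_sq_zero hN2]; exact one_ne_zero)
  have hA : (A : Mb) = 1 + N := rfl
  have hAs : ∀ d : F, (A : Mb) ≠ d • 1 := fun d e => by
    have hN : N = (d - 1) • (1 : Mb) := by
      rw [sub_smul, one_smul, ← e, hA, add_sub_cancel_left]
    rw [hN, Matrix.smul_mul, one_mul, smul_smul, smul_eq_zero] at hN2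
    refine hN0 ?_
    rw [hN, mul_self_eq_zero.1 (hN2.resolve_right one_ne_zero), zero_smul]
  obtain ⟨w, hw, hNw⟩ := exists_ker_of_pow (show N ^ 2 = 0 by rw [pow_two, hN2])
  have hAw : (A : Mb) *ᵥ w = (1 : F) • w := by
    rw [hA, Matrix.add_mulVec, Matrix.one_mulVec, hNw, add_zero, one_smul]
  set P := pe l A with hP
  have hzP : wgl σ gs * P = P * wgl σ gs := by
    rw [← mul_inv_eq_iff_eq_mul, hP, pe_conj_eq l A hl]
    congr 1
    rw [mul_inv_eq_iff_eq_mul]
    refine Units.ext ?_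
    rw [Units.val_mul, Units.val_mul, hA, mul_add, add_mul, mul_one, one_mul, hgN]
  rw [← hz] at hzP
  set Q := x⁻¹ * P * x with hQ
  have hQc : Q * pe i U = pe i U * Q := comm_conj hzP
  have hPM : P ∈ M := hM.pe_mem l (by rw [hA, det_one_add_sq_zero hN2])
  obtain ⟨π, hs, hQw⟩ := hC Q (mul_mem (mul_mem (inv_mem hx) hPM) hx) hQc
  rw [hQw] at hQc
  obtain ⟨hπ, -⟩ := comm_pe hU hQc
  obtain ⟨p, hp⟩ := CharP.exists F
  haveI : Fact p.Prime := ⟨CharP.char_is_prime F p⟩
  obtain ⟨d, N', hd, hg, hN'⟩ : ∃ (d : F) (N' : Mb), d ≠ 0 ∧ (hs i : Mb) = d • (1 + N') ∧ N' ^ p = 0 := by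
    have hPp : P ^ p = 1 := by
      refine pow_char_eq_one p ?_
      rw [hP, ← et_val, hA, et_add, et_one, add_sub_cancel_left, et_mul, hN2, ← zero_smul F (1 : Mb), et_smul,
        zero_smul]
    have hQp : Q ^ p = 1 := by
      have := conj_pow (a := x⁻¹) (b := P) (i := p)
      rw [inv_inv] at this
      rw [hQ, this, hPp, mul_one, inv_mul_cancel]
    obtain ⟨ks, h1, h2⟩ := wgl_pow_fix hπ (hs := hs) p
    rw [← hQw, hQp] at h1
    obtain ⟨e, he⟩ := (wgl_eq_one h1.symm).2 i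
    rw [h2, Units.val_pow_eq_pow_val] at he
    exact exists_unip p he
  obtain ⟨v, φ, hv, hφ, hφv, hNv, hφN⟩ := exists_fixed_pair (by omega) hN'
  obtain ⟨T, hT⟩ := exists_tv hφv
  have hTm := tv_val hT
  have hTQ : wgl π hs * pe i T = pe i T * wgl π hs := by
    rw [← mul_inv_eq_iff_eq_mul, pe_conj_eq i T hπ]
    congr 1
    rw [mul_inv_eq_iff_eq_mul]
    refine Units.ext ?_
    rw [Units.val_mul, Units.val_mul, hg, hTm, Matrix.smul_mul, Matrix.mul_smul]
    congr 1
    simp only [mul_add, add_mul, mul_one, one_mul]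
    rw [Matrix.mul_vecMulVec, Matrix.vecMulVec_mul, hNv, hφN, Matrix.zero_vecMulVec, Matrix.vecMulVec_zero]
    abel
  rw [← hQw] at hTQ
  have hy : x * pe i T * x⁻¹ * P = P * (x * pe i T * x⁻¹) := by
    have h := comm_conj (x := x⁻¹) (P := P) (Q := pe i T) (by rw [inv_inv]; exact hTQ)
    rwa [inv_inv] at h
  have hTi : IsTv i (pe i T) := ⟨v, φ, T, hv, hφ, hφv, hTm, rfl⟩
  exact hM.tv_fusion hx hTi
    (hM.pure_cent_le hAs hw hAw (mul_mem (mul_mem hx (hM.pe_mem i (tv_det hφv hTm))) (inv_mem hx)) hy)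

/-- Outside two exceptional ranks, in odd characteristic, a conjugate in the stabiliser fixes a slot. -/
theorem Cx.fusion_rank (hM : Cx M) (h2 : (2 : F) ≠ 0) {i : κ} {U : GL β F} (hU : ∀ c : F, (U : Mb) ≠ c • 1)
    (hU2 : U * U = 1) (hC : ∀ y ∈ M, y * pe i U = pe i U * y → y ∈ Wr F κ β) {x : GL X F} (hx : x ∈ M)
    {σ : Equiv.Perm κ} {gs : κ → GL β F} (hz : x * pe i U * x⁻¹ = wgl σ gs) (hno : x ∉ Wr F κ β) :
    Fintype.card κ = 2 ∧
      (2 * ((U : Mb) - 1).rank = Fintype.card β + 1 ∨ 2 * ((U : Mb) - 1).rank + 1 = Fintype.card β) := by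
  classical
  haveI := hM.nontriv
  haveI := hM.nempty
  have hfree : ∀ l, σ l ≠ l := fun l hl => hno (hM.fixed_fusion hU hU2 hC hx hz hl)
  have hzz := conj_invol (x := x) (show pe i U * pe i U = 1 by rw [← map_mul, hU2, map_one])
  rw [hz] at hzz
  have hσ : σ * σ = 1 := by
    rw [wgl_mul] at hzz
    exact (wgl_eq_one hzz).1
  have hr := rank_conj_sub (pe i U) x⁻¹ (1 : F)
  rw [inv_inv, one_smul, hz, pe_sub_one_rank] at hr
  have hs := card_halves (β := β) hσ
  have hf := card_fixZ_sq (β := β) hσ hfree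
  have hn : Fintype.card (κ → β) = Fintype.card β * Fintype.card β ^ (Fintype.card κ - 1) := by
    rw [Fintype.card_fun, ← pow_succ', Nat.sub_add_cancel (by have := hM.ht; omega)]
  rw [hn] at hs hf
  set m := Fintype.card β
  set a := m ^ (Fintype.card κ - 1) with ha
  set k := ((U : Mb) - 1).rank
  set f := (fixZ (β := β) σ).card
  set Y := (halfY (β := β) σ).card
  have hm := hM.hb
  have ham : m ≤ a := Nat.le_self_pow (by have := hM.ht; omega) m
  have hd : (f : ℤ) = |(2 * k : ℤ) - m| * a := by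
    have h0 : ((2 * k : ℤ) - m) * a = -f ∨ ((2 * k : ℤ) - m) * a = f := by
      rcases rank_mono hσ hzz (fun l hl => absurd hl (hfree l)) with h | h
      · rw [hr] at h
        left
        have h' : (a * k : ℤ) = Y := by exact_mod_cast h
        have hs' : (2 * Y + f : ℤ) = m * a := by exact_mod_cast hs
        linear_combination (2 : ℤ) * h' + hs'
      · rw [hr] at h
        right
        have h' : (a * k : ℤ) = Y + f := by exact_mod_cast h
        have hs' : (2 * Y + f : ℤ) = m * a := by exact_mod_cast hs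
        linear_combination (2 : ℤ) * h' + hs'
    have ha0 : |(a : ℤ)| = a := abs_of_nonneg (Int.natCast_nonneg a)
    rw [← ha0, ← abs_mul]
    rcases h0 with e | e <;> rw [e]
    · rw [abs_neg, abs_of_nonneg (Int.natCast_nonneg f)]
    · rw [abs_of_nonneg (Int.natCast_nonneg f)]
  set D := |(2 * k : ℤ) - m| with hD
  have hD0 : 0 ≤ D := abs_nonneg _
  have hf' : (f * f : ℤ) = m * a := by exact_mod_cast hf
  have ha' : (0 : ℤ) < a := by
    have : 0 < a := by omega
    exact_mod_cast this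
  have hDm : D * D * a = m := mul_right_cancel₀ ha'.ne' (by rw [← hf', hd]; ring)
  have hD1 : D = 1 := by
    have hD' : D ≠ 0 := fun e => by rw [e] at hDm; simp at hDm; omega
    by_contra hne
    have h4 : (4 : ℤ) ≤ D * D := by nlinarith [show 2 ≤ D by omega]
    have : (m : ℤ) ≤ a := by exact_mod_cast ham
    nlinarith
  rw [hD1, one_mul, one_mul] at hDm
  have hma : a = m := by exact_mod_cast hDm
  have ht2 : Fintype.card κ - 1 = 1 := by
    refine Nat.pow_right_injective (by omega : 2 ≤ m) ?_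
    show m ^ (Fintype.card κ - 1) = m ^ 1
    rw [pow_one, ← ha, hma]
  refine ⟨by omega, ?_⟩
  rw [hD] at hD1
  rcases (abs_eq zero_le_one).1 hD1 with e | e <;> omega

theorem nil_eigen {N : Mb} {p : ℕ} (hN : N ^ p = 0) {y : β → F} (hy : y ≠ 0) {c : F} (h : N *ᵥ y = c • y) :
    c = 0 := by
  have hpow : ∀ j : ℕ, (N ^ j) *ᵥ y = c ^ j • y := fun j => by
    induction j with
    | zero => simp
    | succ j ih => rw [pow_succ, ← Matrix.mulVec_mulVec, h, Matrix.mulVec_smul, ih, smul_smul, pow_succ']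
  have := hpow p
  rw [hN, Matrix.zero_mulVec, eq_comm, smul_eq_zero] at this
  exact eq_zero_of_pow_eq_zero (this.resolve_right hy)

theorem span_ker_two (hm : Fintype.card β = 3) {φ e w : β → F} (hφ : φ ≠ 0) (he : φ ⬝ᵥ e = 0) (hw : φ ⬝ᵥ w = 0)
    (hind : LinearIndependent F ![e, w]) {y : β → F} (hy : φ ⬝ᵥ y = 0) : ∃ α γ : F, α • e + γ • w = y := by
  let L : (β → F) →ₗ[F] F :=
    { toFun := fun y => φ ⬝ᵥ y
      map_add' := fun a b => dotProduct_add φ a b
      map_smul' := fun c a => dotProduct_smul c φ a }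
  have hLs : LinearMap.range L = ⊤ := LinearMap.range_eq_top.2 fun r => by
    obtain ⟨x, hx⟩ := exists_dual hφ
    exact ⟨r • x, by show φ ⬝ᵥ (r • x) = r; rw [dotProduct_smul, dotProduct_comm, hx, smul_eq_mul, mul_one]⟩
  have hdim : finrank F (LinearMap.ker L) = 2 := by
    have := L.finrank_range_add_finrank_ker
    rw [hLs, finrank_top, finrank_self, Module.finrank_fintype_fun_eq_card, hm] at this
    omega
  have hle : Submodule.span F ({e, w} : Set (β → F)) ≤ LinearMap.ker L := by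
    rw [Submodule.span_le]
    rintro y (rfl | rfl)
    · exact he
    · exact hw
  have heq : Submodule.span F ({e, w} : Set (β → F)) = LinearMap.ker L := by
    refine Submodule.eq_of_le_of_finrank_le hle ?_
    have h1 := finrank_span_eq_card hind
    rw [Fintype.card_fin, Matrix.range_cons_cons_empty] at h1
    rw [hdim]
    exact h1.ge
  exact Submodule.mem_span_pair.1 (heq ▸ (show y ∈ LinearMap.ker L from hy))

/-- Commuting nilpotent matrices of degree three with a common split line lie on one line. -/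
theorem nil_line (hm : Fintype.card β = 3) {v φ : β → F} (hφv : φ ⬝ᵥ v ≠ 0) {p : ℕ} {N₀ : Mb} (h0 : N₀ ≠ 0)
    (hp₀ : N₀ ^ p = 0) (hv₀ : N₀ *ᵥ v = 0) (hφ₀ : φ ᵥ* N₀ = 0) {N : Mb} (hp : N ^ p = 0) (hv : N *ᵥ v = 0)
    (hφN : φ ᵥ* N = 0) (hc : N₀ * N = N * N₀) : ∃ t : F, N = t • N₀ := by
  classical
  have hφ : φ ≠ 0 := fun e => hφv (by rw [e, zero_dotProduct])
  have hk0 : ∀ y, φ ⬝ᵥ (N₀ *ᵥ y) = 0 := fun y => by rw [Matrix.dotProduct_mulVec, hφ₀, zero_dotProduct]
  have hk : ∀ y, φ ⬝ᵥ (N *ᵥ y) = 0 := fun y => by rw [Matrix.dotProduct_mulVec, hφN, zero_dotProduct]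
  have hsplit : ∀ (A : Mb), A *ᵥ v = 0 → (∀ y, φ ⬝ᵥ y = 0 → A *ᵥ y = 0) → A = 0 := fun A hAv hA =>
    Matrix.ext_iff_mulVec.2 fun y => by
      have h1 := hA (y - (φ ⬝ᵥ y / φ ⬝ᵥ v) • v) (by
        rw [dotProduct_sub, dotProduct_smul, smul_eq_mul, div_mul_cancel₀ _ hφv, sub_self])
      rw [Matrix.mulVec_sub, Matrix.mulVec_smul, hAv, smul_zero, sub_zero] at h1
      rw [Matrix.zero_mulVec]; exact h1
  obtain ⟨y₀, hy₀, hy₀'⟩ : ∃ y, φ ⬝ᵥ y = 0 ∧ N₀ *ᵥ y ≠ 0 := by
    by_contra hcon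
    push Not at hcon
    exact h0 (hsplit N₀ hv₀ hcon)
  obtain ⟨e, he0, heφ, he⟩ : ∃ e, e ≠ 0 ∧ φ ⬝ᵥ e = 0 ∧ N₀ *ᵥ e = 0 := by
    have hex : ∃ j, (N₀ ^ j) *ᵥ y₀ = 0 := ⟨p, by rw [hp₀, Matrix.zero_mulVec]⟩
    have hj0 : Nat.find hex ≠ 0 := fun h => by
      have := Nat.find_spec hex
      rw [h, pow_zero, Matrix.one_mulVec] at this
      exact hy₀' (by rw [this, Matrix.mulVec_zero])
    obtain ⟨j, hj⟩ := Nat.exists_eq_succ_of_ne_zero hj0
    refine ⟨(N₀ ^ j) *ᵥ y₀, Nat.find_min hex (by omega), ?_, ?_⟩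
    · rcases Nat.eq_zero_or_pos j with rfl | hj'
      · rw [pow_zero, Matrix.one_mulVec, hy₀]
      · obtain ⟨i, rfl⟩ := Nat.exists_eq_succ_of_ne_zero (by omega : j ≠ 0)
        rw [pow_succ', ← Matrix.mulVec_mulVec, hk0]
    · have := Nat.find_spec hex
      rwa [hj, pow_succ', ← Matrix.mulVec_mulVec] at this
  have hind : LinearIndependent F ![e, y₀] := by
    rw [LinearIndependent.pair_iff' he0]
    intro a ha
    exact hy₀' (by rw [← ha, Matrix.mulVec_smul, he, smul_zero])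
  have hpair : ∀ α γ : F, α • e + γ • y₀ = 0 → α = 0 ∧ γ = 0 := LinearIndependent.pair_iff.1 hind
  have hcol : ∀ (A : Mb), A ^ p = 0 → A *ᵥ e = 0 → (∀ y, φ ⬝ᵥ (A *ᵥ y) = 0) → ∃ a : F, A *ᵥ y₀ = a • e := by
    intro A hA hAe hAk
    obtain ⟨α, γ, h⟩ := span_ker_two hm hφ heφ hy₀ hind (hAk y₀)
    by_cases hw : A *ᵥ y₀ = 0
    · exact ⟨0, by rw [hw, zero_smul]⟩
    have hγ : γ = 0 := nil_eigen hA hw (by
      conv_lhs => rw [← h]
      rw [Matrix.mulVec_add, Matrix.mulVec_smul, Matrix.mulVec_smul, hAe, smul_zero, zero_add])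
    exact ⟨α, by rw [← h, hγ, zero_smul, add_zero]⟩
  obtain ⟨a, ha⟩ := hcol N₀ hp₀ he hk0
  have ha0 : a ≠ 0 := fun h => hy₀' (by rw [ha, h, zero_smul])
  have hNe : N *ᵥ e = 0 := by
    obtain ⟨α, γ, h⟩ := span_ker_two hm hφ heφ hy₀ hind (hk e)
    have h1 : N₀ *ᵥ (N *ᵥ e) = 0 := by
      rw [Matrix.mulVec_mulVec, hc, ← Matrix.mulVec_mulVec, he, Matrix.mulVec_zero]
    rw [← h, Matrix.mulVec_add, Matrix.mulVec_smul, Matrix.mulVec_smul, he, ha, smul_zero, zero_add, smul_smul,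
      smul_eq_zero, mul_eq_zero] at h1
    rw [(h1.resolve_right he0).resolve_right ha0, zero_smul, add_zero] at h
    rw [← h, nil_eigen hp he0 h.symm, zero_smul]
  obtain ⟨a', ha'⟩ := hcol N hp hNe hk
  refine ⟨a' / a, sub_eq_zero.1 (hsplit _ (by rw [Matrix.sub_mulVec, Matrix.smul_mulVec, hv, hv₀, smul_zero, sub_zero])
    fun y hy => ?_)⟩
  obtain ⟨α, γ, rfl⟩ := span_ker_two hm hφ heφ hy₀ hind hy
  simp only [Matrix.sub_mulVec, Matrix.smul_mulVec, Matrix.mulVec_add, Matrix.mulVec_smul, he, hNe, ha, ha',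
    smul_zero, zero_add, smul_smul]
  rw [div_mul_cancel₀ _ ha0]
  simp

/-- Two factors of dimension three: the exceptional swap does not occur. -/
theorem Cx.no_swap_sig (hM : Cx M) (h20 : (2 : F) ≠ 0) (hm : Fintype.card β = 3) (h2 : Fintype.card κ = 2)
    {x : GL X F} (hx : x ∈ M) {i : κ} {v φ : β → F} {S : GL β F} (hS : SigW v φ S)
    (hC : ∀ y ∈ M, y * pe i S = pe i S * y → y ∈ Wr F κ β)
    {σ : Equiv.Perm κ} {gs : κ → GL β F} (hz : x * pe i S * x⁻¹ = wgl σ gs) {a b : κ} (hab : a ≠ b)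
    (ha : σ a = b) (hb' : σ b = a) : False := by
  classical
  haveI := hM.nontriv
  haveI := hM.nempty
  obtain ⟨p, hp⟩ := CharP.exists F
  haveI : Fact p.Prime := ⟨CharP.char_is_prime F p⟩
  have hz2 : wgl σ gs * wgl σ gs = 1 := by
    rw [← hz]; exact conj_invol (by rw [← map_mul, hS.sq, map_one])
  have hSn := hS.nonscalar (by omega)
  have hv := hS.1
  have hφ := hS.2.1
  have hφv0 : φ ⬝ᵥ v ≠ 0 := by rw [hS.2.2.1]; exact h20
  obtain ⟨b₀⟩ := hM.nempty
  set u : β → F := Pi.single b₀ 1 with hu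
  have hu0 : u ≠ 0 := by simp [hu]
  obtain ⟨ψ₁, hψ₁, hψ₁u, -⟩ := exists_perp2 hM.hb u u
  obtain ⟨w, hw⟩ := exists_dual hψ₁
  rw [dotProduct_comm] at hw
  obtain ⟨ψ₂, hψ₂, hψ₂u, hψ₂w⟩ := exists_perp2 hM.hb u w
  let Ψ : F × F → β → F := fun r => r.1 • ψ₁ + r.2 • ψ₂
  have hΨu : ∀ r, Ψ r ⬝ᵥ u = 0 := fun r => by
    simp only [Ψ, add_dotProduct, smul_dotProduct, hψ₁u, hψ₂u, smul_zero, add_zero]
  have hΨ0 : ∀ r, Ψ r = 0 → r = 0 := fun r e => by
    have h1 := congrArg (· ⬝ᵥ w) e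
    simp only [Ψ, add_dotProduct, smul_dotProduct, hw, hψ₂w, smul_zero, add_zero, smul_eq_mul, mul_one,
      zero_dotProduct] at h1
    rw [mul_zero, add_zero] at h1
    simp only [Ψ, h1, zero_smul, zero_add, smul_eq_zero, hψ₂, or_false] at e
    exact Prod.ext h1 e
  choose B hB using fun r => exists_tv (hΨu r)
  have hBm := fun r => tv_val (hB r)
  set q : F × F → GL X F := fun r => x⁻¹ * diagPair a b (gs b) hab (B r) * x with hq
  have himg : ∀ r, ∃ hs : κ → GL β F, q r = wgl 1 hs ∧ ∃ (d : F) (N : Mb), d ≠ 0 ∧ (hs i : Mb) = d • (1 + N) ∧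
      N ^ p = 0 ∧ N *ᵥ v = 0 ∧ φ ᵥ* N = 0 := by
    intro r
    obtain ⟨hs, h1, h2'⟩ := exists_image hM h2 hx hSn hC hz hz2 hab ha hb' (B r) (tv_det (hΨu r) (hBm r))
    have hqp : q r ^ p = 1 := by
      have hBp : B r ^ p = 1 := by
        refine pow_char_eq_one p ?_
        rw [hBm r, add_sub_cancel_left, vmv_mul, hΨu r, zero_smul]
      have := conj_pow (a := x⁻¹) (b := diagPair a b (gs b) hab (B r)) (i := p)
      rw [inv_inv] at this
      rw [hq]
      simp only
      rw [this, ← map_pow, hBp, map_one, mul_one, inv_mul_cancel]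
    rw [show q r = wgl 1 hs from h1, wgl_one_pow] at hqp
    obtain ⟨e, he⟩ := (wgl_eq_one hqp).2 i
    rw [Pi.pow_apply, Units.val_pow_eq_pow_val] at he
    obtain ⟨d, N, hd, hN, hNp⟩ := exists_unip p he
    obtain ⟨c, hc1, hc2⟩ := tri_of_comm hv hφ ((hS.comm_iff _).1 h2')
    have hNv : N *ᵥ v = (c / d - 1) • v := by
      rw [hN, Matrix.smul_mulVec, Matrix.add_mulVec, Matrix.one_mulVec] at hc1
      have := congrArg (d⁻¹ • ·) hc1
      simp only [smul_smul, inv_mul_cancel₀ hd, one_smul] at this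
      rw [eq_sub_of_add_eq' this, sub_smul, one_smul, div_eq_inv_mul]
    have hk0 : c / d - 1 = 0 := by
      have hpow : ∀ j : ℕ, (N ^ j) *ᵥ v = (c / d - 1) ^ j • v := fun j => by
        induction j with
        | zero => simp
        | succ j ih => rw [pow_succ, ← Matrix.mulVec_mulVec, hNv, Matrix.mulVec_smul, ih, smul_smul, pow_succ']
      have := hpow p
      rw [hNp, Matrix.zero_mulVec, eq_comm, smul_eq_zero] at this
      exact eq_zero_of_pow_eq_zero (this.resolve_right hv)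
    refine ⟨hs, h1, d, N, hd, hN, hNp, by rw [hNv, hk0, zero_smul], ?_⟩
    rw [hN, Matrix.vecMul_smul, Matrix.vecMul_add, Matrix.vecMul_one] at hc2
    have := congrArg (d⁻¹ • ·) hc2
    simp only [smul_smul, inv_mul_cancel₀ hd, one_smul] at this
    rw [eq_sub_of_add_eq' this, ← div_eq_inv_mul, show (φ : β → F) = (1 : F) • φ from (one_smul F φ).symm,
      smul_smul, mul_one, ← sub_smul, hk0, zero_smul]
  choose hs hq' d N hd hN hNp hNv hφN using himg
  have hcomm : ∀ r s, N r * N s = N s * N r := by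
    intro r s
    have hBc : B r * B s = B s * B r := by
      refine Units.ext ?_
      rw [Units.val_mul, Units.val_mul, hBm r, hBm s]
      simp only [mul_add, add_mul, mul_one, one_mul, vmv_mul, hΨu, zero_smul, add_zero]
      abel
    have hqc : q r * q s = q s * q r := by
      simp only [hq]
      calc _ = x⁻¹ * (diagPair a b (gs b) hab (B r) * diagPair a b (gs b) hab (B s)) * x := by group
        _ = x⁻¹ * (diagPair a b (gs b) hab (B s) * diagPair a b (gs b) hab (B r)) * x := by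
          rw [← map_mul, hBc, map_mul]
        _ = _ := by group
    rw [hq' r, hq' s, wgl_mul, wgl_mul] at hqc
    obtain ⟨c, -, hc⟩ := (wgl_unique hqc).2 i
    simp only [Equiv.Perm.coe_one, id_eq, Units.val_mul, hN, Matrix.smul_mul, Matrix.mul_smul, smul_smul] at hc
    have hc1 := congrArg (· *ᵥ v) hc
    simp only [Matrix.smul_mulVec, ← Matrix.mulVec_mulVec, Matrix.add_mulVec, Matrix.one_mulVec, hNv,
      add_zero] at hc1
    have hc2 := smul_left_injective F hv hc1
    have hc3 : c = 1 := by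
      refine mul_right_cancel₀ (mul_ne_zero (hd r) (hd s)) ?_
      rw [one_mul]
      linear_combination -hc2
    rw [hc3, one_mul, mul_comm (d s) (d r)] at hc
    have hc4 := smul_right_injective _ (mul_ne_zero (hd r) (hd s)) hc
    simp only [mul_add, add_mul, mul_one, one_mul] at hc4
    linear_combination (norm := abel) -hc4
  have hN0 : ∀ r, r ≠ 0 → N r ≠ 0 := by
    intro r hr e
    have hd3 := dvd_rank_of_scalar hm h2 (gs := hs r) (i := i) (c := d r) (by rw [hN r, e, add_zero])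
    obtain ⟨h4, h5⟩ := diagPair_rank (g := gs b) hm h2 hab hu0 (fun e' => hr (hΨ0 r e')) (hΨu r) (hBm r)
    have hrk := (quad_conj x⁻¹ (diagPair a b (gs b) hab (B r))).2
    rw [inv_inv, show x⁻¹ * diagPair a b (gs b) hab (B r) * x = wgl 1 (hs r) from hq' r] at hrk
    omega
  choose t ht using fun r => nil_line hm hφv0 (hN0 (1, 0) (by simp)) (hNp _) (hNv _) (hφN _) (hNp r) (hNv r) (hφN r)
    (hcomm (1, 0) r)
  have hinj : Function.Injective t := by
    intro r s hrs
    by_contra hne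
    have e : N r = N s := by rw [ht r, ht s, hrs]
    have hBd : B (r - s) * B s = B r := by
      refine Units.ext ?_
      rw [Units.val_mul, hBm, hBm, hBm]
      simp only [mul_add, add_mul, mul_one, one_mul, vmv_mul, hΨu, zero_smul, add_zero, add_assoc,
        ← Matrix.vecMulVec_add]
      simp only [Ψ, Prod.fst_sub, Prod.snd_sub, sub_smul]
      congr 2
      abel
    have hqd : q (r - s) * q s = q r := by
      simp only [hq]
      rw [← hBd, map_mul]
      group
    rw [hq', hq', hq', wgl_mul, mul_one] at hqd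
    obtain ⟨c, -, hc⟩ := (wgl_unique hqd).2 i
    simp only [Equiv.Perm.coe_one, id_eq, Units.val_mul, hN, e, Matrix.smul_mul, Matrix.mul_smul, smul_smul] at hc
    have hu1 : IsUnit (1 + N s) := IsNilpotent.isUnit_one_add ⟨p, hNp s⟩
    have hzero : N (r - s) = 0 := by
      have hc1 := congrArg (· *ᵥ v) hc
      simp only [Matrix.smul_mulVec, ← Matrix.mulVec_mulVec, Matrix.add_mulVec, Matrix.one_mulVec, hNv,
        add_zero] at hc1
      have hc2 := smul_left_injective F hv hc1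
      rw [← hc2] at hc
      have hc3 : (1 + N (r - s)) * (1 + N s) = 1 * (1 + N s) := by
        rw [one_mul]; exact (smul_right_injective _ (hd r) hc).symm
      have hc4 := hu1.mul_right_cancel hc3
      rwa [add_eq_left] at hc4
    exact hN0 _ (sub_ne_zero.2 hne) hzero
  have hcard := Fintype.card_le_of_injective t hinj
  rw [Fintype.card_prod] at hcard
  have := Fintype.one_lt_card (α := F)
  nlinarith

/-- A conjugate in the stabiliser of a chosen involution. -/
theorem Cx.sig_fusion (hM : Cx M) {x : GL X F} (hx : x ∈ M) {i : κ} {S : GL β F} (hS : SigT S)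
    (hz : x * pe i S * x⁻¹ ∈ Wr F κ β) : x ∈ Wr F κ β := by
  classical
  haveI := hM.nontriv
  have hb := hM.hb
  obtain ⟨v, φ, hW⟩ := hS
  have hn := hW.nonscalar (by omega)
  by_cases h2 : (2 : F) = 0
  · have hm1 : (-1 : Mb) = 1 := by
      have h : (-1 : F) = 1 := by linear_combination -h2
      rw [← one_smul F (1 : Mb), ← neg_smul, h]
    refine hM.tv_fusion hx ⟨v, φ, S, hW.1, hW.2.1, hW.2.2.1.trans h2, ?_, rfl⟩ hz
    rw [hW.2.2.2, hm1]
  have hC : ∀ y ∈ M, y * pe i S = pe i S * y → y ∈ Wr F κ β := fun y hy hc =>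
    hM.pure_cent_le hn (c := (1 : F)) hW.1 (by rw [hW.mulVec, one_smul]) hy hc
  obtain ⟨σ, gs, hzw⟩ := hz
  by_contra hno
  obtain ⟨ht, hk⟩ := hM.fusion_rank h2 hn hW.sq hC hx hzw hno
  have hr := rank_invol h2 (A := (S : Mb)) (by rw [← Units.val_mul, hW.sq, Units.val_one])
  rw [hW.rank_add_one] at hr
  have hm : Fintype.card β = 3 := by omega
  obtain ⟨a, b, hab⟩ := Fintype.exists_pair_of_one_lt_card (show 1 < Fintype.card κ by omega)
  have hfree : ∀ l, σ l ≠ l := fun l hl => hno (hM.fixed_fusion hn hW.sq hC hx hzw hl)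
  exact hM.no_swap_sig h2 hm ht hx hW hC hzw hab ((two_slots ht hab (σ a)).resolve_left (hfree a))
    ((two_slots ht hab (σ b)).resolve_right (hfree b))

end Cfsg.Agent.Classical.TensorPow
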