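import Cfsg.Agent.Lib.Classical.MaxTensorMain

/-!
Two tensor factors, with only the second factor's special elements assumed in the group.
-/

set_option autoImplicit false
set_option linter.unusedSectionVars false

open scoped Kronecker

namespace Cfsg.Agent.Classical.TensorPow

open Matrix Module MaxTv Overfield TensorMax

variable {F : Type*} [Field F] [Fintype F] {α β : Type} [Fintype α] [DecidableEq α] [Fintype β] [DecidableEq β]
variable {M : Subgroup (GL (α × β) F)}

local notation "V" => (α × β → F)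
local notation "Mn" => Matrix (α × β) (α × β) F
local notation "Ea" => ((α → F) →ₗ[F] (α → F))

/-- The Kronecker product of invertible matrices. -/
def k2 (A : GL α F) (B : GL β F) : GL (α × β) F where
  val := (A : Matrix α α F) ⊗ₖ (B : Matrix β β F)
  inv := ((A⁻¹ : GL α F) : Matrix α α F) ⊗ₖ ((B⁻¹ : GL β F) : Matrix β β F)
  val_inv := by
    rw [← Matrix.mul_kronecker_mul, ← Units.val_mul, ← Units.val_mul, mul_inv_cancel, mul_inv_cancel,
      Units.val_one, Units.val_one, Matrix.one_kronecker_one]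
  inv_val := by
    rw [← Matrix.mul_kronecker_mul, ← Units.val_mul, ← Units.val_mul, inv_mul_cancel, inv_mul_cancel,
      Units.val_one, Units.val_one, Matrix.one_kronecker_one]

theorem k2_val (A : GL α F) (B : GL β F) : (k2 A B : Mn) = (A : Matrix α α F) ⊗ₖ (B : Matrix β β F) := rfl

theorem k2_mulVec (A : GL α F) (B : GL β F) (x : α → F) (y : β → F) :
    (k2 A B : Mn) *ᵥ tmul x y = tmul ((A : Matrix α α F) *ᵥ x) ((B : Matrix β β F) *ᵥ y) :=
  kronecker_mulVec _ _ x y

theorem k2_mul (A A' : GL α F) (B B' : GL β F) : k2 A B * k2 A' B' = k2 (A * A') (B * B') :=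
  Units.ext (by rw [Units.val_mul, k2_val, k2_val, k2_val, ← Matrix.mul_kronecker_mul]; rfl)

theorem k2_one : k2 (1 : GL α F) (1 : GL β F) = 1 := Units.ext (by rw [k2_val]; simp)

theorem k2_det (A : GL α F) (B : GL β F) :
    (k2 A B : Mn).det = (A : Matrix α α F).det ^ Fintype.card β * (B : Matrix β β F).det ^ Fintype.card α :=
  Matrix.det_kronecker _ _

theorem isKron_iff {g : GL (α × β) F} : IsKron g ↔ ∃ A B, g = k2 A B :=
  ⟨fun ⟨A, B, h⟩ => ⟨A, B, Units.ext h⟩, fun ⟨A, B, h⟩ => ⟨A, B, by rw [h]; rfl⟩⟩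

/-- The special elements of the second factor lie in the group. -/
structure Ctx2 (M : Subgroup (GL (α × β) F)) : Prop where
  le : M ≤ Geo.specialLinear (α × β) F
  right : ∀ (B : GL β F) (g : GL (α × β) F), (g : Mn) = (1 : Matrix α α F) ⊗ₖ (B : Matrix β β F) →
    g ∈ Geo.specialLinear (α × β) F → g ∈ M

theorem Ctx2.exists_root (hM : Ctx2 M) {v φ : β → F} (hv : φ ⬝ᵥ v = 0) : ∃ g ∈ M, IsKron g ∧
    ∀ t, (g : Mn) *ᵥ t = t + rootMap v φ LinearMap.id t := by
  obtain ⟨B, hB⟩ := MaxTv.exists_tv hv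
  have hBd : (B : Matrix β β F).det = 1 := congrArg Units.val (MonoidHom.mem_ker.1 (MaxTv.det_tv hB hv))
  refine ⟨k2 (1 : GL α F) B, hM.right B _ (by rw [k2_val, Units.val_one]) (MonoidHom.mem_ker.2 (Units.ext ?_)),
    isKron_iff.2 ⟨_, _, rfl⟩, fun t => ?_⟩
  · simp [k2_det, hBd]
  rw [← Matrix.toLin'_apply]
  refine LinearMap.congr_fun (f := Matrix.toLin' ((k2 (1 : GL α F) B : GL (α × β) F) : Mn)) (g := LinearMap.id + rootMap v φ LinearMap.id)
    (ext_tmul fun x y => ?_) t
  rw [Matrix.toLin'_apply, k2_mulVec, LinearMap.add_apply, LinearMap.id_apply, rootMap_apply, slice_tmul,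
    LinearMap.id_apply, Units.val_one, Matrix.one_mulVec, hB, tmul_add_right, tmul_smul_right, tmul_smul_left]

theorem Ctx2.inRoot (hM : Ctx2 M) {v φ : β → F} (hv : φ ⬝ᵥ v = 0) :
    In M (rootMap (α := α) v φ LinearMap.id) := by
  obtain ⟨g, hg, -, hgx⟩ := hM.exists_root hv
  exact ⟨g, hg, hgx⟩

section
variable (hM : Ctx2 M) (hb : 3 ≤ Fintype.card β)
include hM hb

/-- An element fixing a line of tensors pointwise. -/
theorem rich_of_fix [Nonempty α] {f : GL (α × β) F} (hf : f ∈ M) (hfk : ¬ IsKron f) {z : β → F} (hz : z ≠ 0)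
    (hfix : ∀ x : α → F, (f : Mn) *ᵥ tmul x z = tmul x z) : TensorMax.Rich M := by
  classical
  by_contra hR
  obtain ⟨ψ, hψ⟩ := exists_dual hz
  set fi := ((f⁻¹ : GL (α × β) F) : Mn) with hfi
  have hfix' : ∀ x : α → F, fi *ᵥ tmul x z = tmul x z := fun x => by
    conv_lhs => rw [← hfix x, hfi, inv_mulVec_cancel]
  -- a map into the line killing it gives scalar coefficients
  have extract : ∀ T : V →ₗ[F] (α → F), (∀ x, T (tmul x z) = 0) → In M ((fac z).comp T) →
      ∀ b : β → F, ∃ μ : F, ∀ x, T (tmul x b) = μ • x := by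
    intro T hT hin b
    by_contra hcon
    push Not at hcon
    obtain ⟨φ, hφ0, hφz, hφb⟩ := exists_perp2 hb z b
    obtain ⟨B, hB, -, hBx⟩ := hM.exists_root (v := b) (φ := φ) hφb
    have hBi : ∀ t, ((B⁻¹ : GL (α × β) F) : Mn) *ᵥ t = t - rootMap b φ LinearMap.id t := fun t =>
      gl_mulVec_injective B (by
        show (B : Mn) *ᵥ _ = (B : Mn) *ᵥ _
        rw [mulVec_inv_cancel, hBx, map_sub, rootMap_sq hφb, sub_zero, sub_add_cancel])
    have hc := (hin.conj hB).sub hin
      (fun t => by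
        rw [conjL_apply]
        have h0 : ((fac z).comp T) (((B⁻¹ : GL (α × β) F) : Mn) *ᵥ ((fac z).comp T t)) = 0 := by
          rw [hBi]
          simp only [LinearMap.comp_apply, fac_apply, rootMap_apply, LinearMap.id_apply, slice_tmul, hφz,
            zero_smul, tmul_zero_left, sub_zero, hT]
        rw [h0, Matrix.mulVec_zero])
      (fun t => by simp only [LinearMap.comp_apply, fac_apply, hT, tmul_zero_left])
    refine hR ⟨z, φ, -(T.comp (fac b)), hz, hφ0, hφz, fun c hc' => ?_, ?_⟩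
    · obtain ⟨x, hx⟩ := hcon (-c)
      refine hx ?_
      have := LinearMap.congr_fun hc' x
      rw [LinearMap.neg_apply, LinearMap.comp_apply, fac_apply, LinearMap.smul_apply, LinearMap.id_apply,
        neg_eq_iff_eq_neg] at this
      rw [this, neg_smul]
    · convert hc using 1
      refine LinearMap.ext fun t => ?_
      rw [rootMap_apply, LinearMap.sub_apply, conjL_apply, hBi]
      simp only [LinearMap.comp_apply, fac_apply, rootMap_apply, LinearMap.id_apply, map_sub,
        LinearMap.neg_apply]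
      simp only [hBx, rootMap_apply, LinearMap.id_apply, map_sub, slice_tmul, hφz, zero_smul, sub_zero,
        tmul_zero_left, add_zero, sub_sub_cancel_left]
      rw [← fac_apply (-_), map_neg, fac_apply]
  -- modulo the line the element acts on the second factor only
  have hstep : ∀ φ : β → F, φ ⬝ᵥ z = 0 → ∀ b : β → F, ∃ μ : F, ∀ x,
      slice φ (fi *ᵥ tmul x b) = μ • x := by
    intro φ hφ b
    obtain ⟨S, hS, -, hSx⟩ := hM.exists_root (α := α) (v := z) (φ := φ) hφ
    have hin0 : In M (conjL f (rootMap z φ LinearMap.id)) := In.conj ⟨S, hS, hSx⟩ hf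
    have hin := hin0.sub (hM.inRoot hφ)
      (fun t => by
        rw [rootMap_apply, conjL_apply, hfix', rootMap_apply, slice_tmul, hφ, zero_smul, map_zero,
          tmul_zero_left, Matrix.mulVec_zero])
      (fun t => rootMap_sq hφ _ _ _)
    obtain ⟨μ, hμ⟩ := extract ((slice φ).comp (Matrix.toLin' fi) - slice φ)
      (fun x => by rw [LinearMap.sub_apply, LinearMap.comp_apply, Matrix.toLin'_apply, hfix', sub_self])
      (by
        convert hin using 1
        refine LinearMap.ext fun t => ?_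
        simp only [LinearMap.comp_apply, LinearMap.sub_apply, conjL_apply, rootMap_apply, LinearMap.id_apply,
          fac_apply, Matrix.toLin'_apply, hfix, tmul_sub_left]
        rfl) b
    refine ⟨μ + φ ⬝ᵥ b, fun x => ?_⟩
    have := hμ x
    rw [LinearMap.sub_apply, LinearMap.comp_apply, Matrix.toLin'_apply, slice_tmul, sub_eq_iff_eq_add] at this
    rw [this, add_smul]
  obtain ⟨i₀⟩ := ‹Nonempty α›
  set x₀ : α → F := Pi.single i₀ 1
  set ξ : α → F := Pi.single i₀ 1
  have hξ : ξ ⬝ᵥ x₀ = 1 := by simp [ξ, x₀]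
  let G : (β → F) →ₗ[F] (β → F) := (lslice ξ).comp ((Matrix.toLin' fi).comp
    { toFun := fun y => tmul x₀ y
      map_add' := tmul_add_right x₀
      map_smul' := fun c y => by rw [RingHom.id_apply]; exact tmul_smul_right c x₀ y })
  have hsl : ∀ (φ : β → F) (t : V), φ ⬝ᵥ lslice ξ t = ξ ⬝ᵥ slice φ t := fun φ t => by
    show ∑ j, φ j * ∑ i, ξ i * t (i, j) = ∑ i, ξ i * ∑ j, t (i, j) * φ j
    simp only [Finset.mul_sum]
    rw [Finset.sum_comm]
    exact Finset.sum_congr rfl fun i _ => Finset.sum_congr rfl fun j _ => by ring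
  have hdec : ∀ x y, fi *ᵥ tmul x y = tmul x (G y) +
      tmul (slice ψ (fi *ᵥ tmul x y - tmul x (G y))) z := fun x y => by
    rw [← eq_tmul_of_slices hψ (t := fi *ᵥ tmul x y - tmul x (G y)), add_sub_cancel]
    intro φ hφ
    obtain ⟨μ, hμ⟩ := hstep φ hφ y
    have hG : φ ⬝ᵥ G y = μ := by
      show φ ⬝ᵥ lslice ξ (Matrix.toLin' fi (tmul x₀ y)) = μ
      rw [Matrix.toLin'_apply, hsl, hμ, dotProduct_smul, hξ, smul_eq_mul, mul_one]
    rw [map_sub, hμ, slice_tmul, hG, sub_self]
  have hGz : G z = z := by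
    show lslice ξ (Matrix.toLin' fi (tmul x₀ z)) = z
    rw [Matrix.toLin'_apply, hfix', lslice_tmul, hξ, one_smul]
  have hGi : Function.Injective G := by
    refine (injective_iff_map_eq_zero G).2 fun y hy => ?_
    have h1 := hdec x₀ y
    rw [hy, tmul_zero_right, zero_add, sub_zero] at h1
    have h2 := congrArg (fun t => (f : Mn) *ᵥ t) h1
    simp only [hfi, mulVec_inv_cancel, hfix] at h2
    have h3 := congrArg (lslice ξ) h2
    rw [lslice_tmul, lslice_tmul, hξ, one_smul] at h3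
    rw [h3, map_smul, hGz] at hy
    rw [h3, hy]
  obtain ⟨Gg, hGg⟩ := exists_gl_of_injective G hGi
  set Km : GL (α × β) F := Matrix.GeneralLinearGroup.mkOfDetNeZero
    ((1 : Matrix α α F) ⊗ₖ (Gg : Matrix β β F)) (by
      rw [Matrix.det_kronecker, Matrix.det_one, one_pow, one_mul]
      exact pow_ne_zero _ (Matrix.GeneralLinearGroup.det Gg).ne_zero) with hKm
  have hKx : ∀ x y, (Km : Mn) *ᵥ tmul x y = tmul x (G y) := fun x y => by
    show ((1 : Matrix α α F) ⊗ₖ (Gg : Matrix β β F)) *ᵥ tmul x y = _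
    rw [kronecker_mulVec, Matrix.one_mulVec, hGg]
  -- the quotient of the two is unipotent
  set T : V →ₗ[F] (α → F) := (slice ψ).comp (Matrix.toLin' (fi * ((Km⁻¹ : GL (α × β) F) : Mn)) - LinearMap.id)
    with hT
  have hT0 : ∀ t, fi *ᵥ (((Km⁻¹ : GL (α × β) F) : Mn) *ᵥ t) = t + tmul (T t) z := fun t => by
    refine LinearMap.congr_fun (f := Matrix.toLin' (fi * ((Km⁻¹ : GL (α × β) F) : Mn)))
      (g := LinearMap.id + (fac z).comp T) (ext_tmul fun x y => ?_) t |> fun h => by
        simpa [Matrix.mulVec_mulVec, fac_apply] using h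
    obtain ⟨y', rfl⟩ : ∃ y', y = G y' :=
      (Finite.injective_iff_surjective.1 hGi y).imp fun _ h => h.symm
    have hk : ((Km⁻¹ : GL (α × β) F) : Mn) *ᵥ tmul x (G y') = tmul x y' := by
      rw [← hKx, inv_mulVec_cancel]
    simp only [LinearMap.add_apply, LinearMap.id_apply, LinearMap.comp_apply, fac_apply, hT, LinearMap.sub_apply,
      Matrix.toLin'_apply, ← Matrix.mulVec_mulVec, hk]
    exact hdec x y'
  have hTz : ∀ x, T (tmul x z) = 0 := fun x => by
    have hk : ((Km⁻¹ : GL (α × β) F) : Mn) *ᵥ tmul x z = tmul x z := by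
      conv_lhs => rw [← hGz, ← hKx, inv_mulVec_cancel]
    rw [hT, LinearMap.comp_apply, LinearMap.sub_apply, LinearMap.id_apply, Matrix.toLin'_apply,
      ← Matrix.mulVec_mulVec, hk, hfix', sub_self, map_zero]
  have hsq : ∀ t, (fac z).comp T ((fac z).comp T t) = 0 := fun t => by
    show tmul (T (tmul (T t) z)) z = 0
    rw [hTz, tmul_zero_left]
  have hdet : ((f⁻¹ * Km⁻¹ : GL (α × β) F) : Mn).det = 1 := by
    have h1 : ((f⁻¹ * Km⁻¹ : GL (α × β) F) : Mn) - 1 = LinearMap.toMatrix' ((fac z).comp T) := by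
      refine Matrix.ext_iff_mulVec.2 fun t => ?_
      rw [Matrix.sub_mulVec, LinearMap.toMatrix'_mulVec, Units.val_mul, ← Matrix.mulVec_mulVec, ← hfi, hT0,
        Matrix.one_mulVec, add_sub_cancel_left]
      rfl
    rw [show ((f⁻¹ * Km⁻¹ : GL (α × β) F) : Mn) = 1 + ((LinearMap.toMatrix' (fac z) : Matrix (α × β) α F) *
        (LinearMap.toMatrix' T : Matrix α (α × β) F)) by
      rw [← LinearMap.toMatrix'_comp, ← h1]; abel, Matrix.det_one_add_mul_comm, ← LinearMap.toMatrix'_comp,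
      show T.comp (fac z) = 0 from LinearMap.ext hTz, map_zero, add_zero, Matrix.det_one]
  have hKM : Km ∈ M := hM.right Gg _ rfl (MonoidHom.mem_ker.2 (Units.ext (by
      rw [Matrix.GeneralLinearGroup.val_det_apply]
      rw [Units.val_mul, Matrix.det_mul] at hdet
      have hfd : ((f⁻¹ : GL (α × β) F) : Mn).det = 1 :=
        congrArg Units.val (MonoidHom.mem_ker.1 (hM.le (inv_mem hf)))
      rw [hfd, one_mul] at hdet
      have h3 : (Km : Mn).det * ((Km⁻¹ : GL (α × β) F) : Mn).det = 1 := by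
        rw [← Matrix.det_mul, ← Units.val_mul, mul_inv_cancel, Units.val_one, Matrix.det_one]
      rw [hdet, mul_one] at h3
      exact h3)))
  have hin : In M ((fac z).comp T) := ⟨f⁻¹ * Km⁻¹, mul_mem (inv_mem hf) (inv_mem hKM), fun t => by
    rw [Units.val_mul, ← Matrix.mulVec_mulVec, ← hfi, hT0]; rfl⟩
  choose μ hμ using fun b => extract T hTz hin b
  refine hfk ?_
  have hk : IsKron (f⁻¹ * Km⁻¹) := by
    let C : (β → F) →ₗ[F] (β → F) :=
      { toFun := fun b => b + μ b • z
        map_add' := fun a b => by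
          have : μ (a + b) = μ a + μ b := smul_left_injective F (show x₀ ≠ 0 by simp [x₀]) (by
            show μ (a + b) • x₀ = (μ a + μ b) • x₀
            rw [add_smul, ← hμ, ← hμ, ← hμ, tmul_add_right, map_add])
          rw [this]; module
        map_smul' := fun c a => by
          have : μ (c • a) = c * μ a := smul_left_injective F (show x₀ ≠ 0 by simp [x₀]) (by
            show μ (c • a) • x₀ = (c * μ a) • x₀
            rw [mul_smul, ← hμ, ← hμ, tmul_smul_right, map_smul])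
          rw [this, RingHom.id_apply]; module }
    have hμz : μ z = 0 := by
      have := hμ z x₀
      rw [hTz, eq_comm, smul_eq_zero] at this
      exact this.resolve_right (by simp [x₀])
    have hCi : Function.Injective C := by
      refine (injective_iff_map_eq_zero C).2 fun b hb' => ?_
      have hb1 : b = -(μ b • z) := eq_neg_of_add_eq_zero_left hb'
      have : μ b = 0 := by
        have h1 := hμ b x₀
        rw [hb1, ← neg_smul, tmul_smul_right, map_smul, hTz, smul_zero, neg_smul, ← hb1, eq_comm,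
          smul_eq_zero] at h1
        exact h1.resolve_right (by simp [x₀])
      rw [hb1, this, zero_smul, neg_zero]
    obtain ⟨Cg, hCg⟩ := exists_gl_of_injective C hCi
    refine isKron_of_apply 1 Cg fun x y => ?_
    rw [Units.val_mul, ← Matrix.mulVec_mulVec, ← hfi, hT0, Units.val_one, Matrix.one_mulVec, hCg, hμ]
    show _ = tmul x (y + μ y • z)
    rw [tmul_add_right, tmul_smul_right, tmul_smul_left]
  obtain ⟨A, B, hAB⟩ := hk.inv
  refine isKron_of_apply A ((Gg⁻¹ : GL β F) * B) fun x y => ?_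
  have h1 : (f : Mn) = ((Km⁻¹ : GL (α × β) F) : Mn) * ((f⁻¹ * Km⁻¹)⁻¹ : GL (α × β) F) := by
    rw [← Units.val_mul]; congr 1; group
  rw [h1, ← Matrix.mulVec_mulVec, hAB, kronecker_mulVec]
  refine gl_mulVec_injective Km ?_
  show (Km : Mn) *ᵥ _ = (Km : Mn) *ᵥ _
  rw [mulVec_inv_cancel, hKx, ← hGg, Units.val_mul, ← Matrix.mulVec_mulVec, mulVec_inv_cancel]

theorem exists_perp_one {φ' v : β → F} {φ : β → F} (hφv : φ ⬝ᵥ v = 0) (hnot : φ ∉ (F ∙ φ')) :
    ∃ v' : β → F, φ ⬝ᵥ v' = 1 ∧ φ' ⬝ᵥ v' = 0 := by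
  obtain ⟨v', h1, h0⟩ := exists_dot_one hnot
  exact ⟨v', by rwa [dotProduct_comm], by rw [dotProduct_comm]; exact h0 _ (Submodule.mem_span_singleton_self _)⟩

theorem move_right {v φ φ' : β → F} {D : Ea} (h : In M (rootMap v φ D)) (hv : φ ⬝ᵥ v = 0)
    (hv' : φ' ⬝ᵥ v = 0) (hnot : φ ∉ (F ∙ φ')) : In M (rootMap v φ' D) := by
  obtain ⟨v', h1, h0⟩ := exists_perp_one hM hb hv hnot
  have := In.rootMul h (hM.inRoot (α := α) h0) hv h0 hv' h1
  rwa [LinearMap.comp_id] at this

theorem move_left {v v' φ' : β → F} {D : Ea} (h : In M (rootMap v' φ' D)) (hv' : φ' ⬝ᵥ v' = 0)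
    (hv : φ' ⬝ᵥ v = 0) (hnot : v' ∉ (F ∙ v)) : In M (rootMap v φ' D) := by
  obtain ⟨φ, h1, h0⟩ := exists_dot_one hnot
  have h00 : φ ⬝ᵥ v = 0 := h0 _ (Submodule.mem_span_singleton_self _)
  have := In.rootMul (hM.inRoot (α := α) h00) h h00 hv' hv h1
  rwa [LinearMap.id_comp] at this

theorem exists_perp_indep {v φ : β → F} (hφ : φ ≠ 0) :
    ∃ φ'' : β → F, φ'' ⬝ᵥ v = 0 ∧ φ ∉ (F ∙ φ'') ∧ φ'' ∉ (F ∙ φ) := by
  obtain ⟨j, hj⟩ := Function.ne_iff.1 hφ
  obtain ⟨φ'', hne, h1, h2⟩ := exists_perp2 hb v (Pi.single j 1)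
  rw [dotProduct_single, mul_one] at h2
  have hnot : φ'' ∉ (F ∙ φ) := fun h => by
    obtain ⟨c, rfl⟩ := Submodule.mem_span_singleton.1 h
    rcases eq_or_ne c 0 with rfl | hc
    · exact hne (zero_smul _ _)
    · exact mul_ne_zero hc hj h2
  refine ⟨φ'', h1, fun h => hnot ?_, hnot⟩
  obtain ⟨c, hc⟩ := Submodule.mem_span_singleton.1 h
  have hc0 : c ≠ 0 := fun e => hφ (by rw [← hc, e, zero_smul])
  exact Submodule.mem_span_singleton.2 ⟨c⁻¹, by rw [← hc, smul_smul, inv_mul_cancel₀ hc0, one_smul]⟩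

theorem move_right' {v φ φ' : β → F} {D : Ea} (h : In M (rootMap v φ D)) (hφ : φ ≠ 0) (hv : φ ⬝ᵥ v = 0)
    (hv' : φ' ⬝ᵥ v = 0) : In M (rootMap v φ' D) := by
  by_cases hnot : φ ∈ (F ∙ φ')
  · rcases eq_or_ne φ' 0 with rfl | hφ'
    · rw [rootMap_zero_right]; exact In.zero
    obtain ⟨φ'', h1, h2, h3⟩ := exists_perp_indep hM hb (v := v) hφ
    refine move_right hM hb (move_right hM hb h hv h1 h2) h1 hv' fun h4 => h3 ?_
    obtain ⟨c, hc⟩ := Submodule.mem_span_singleton.1 hnot
    obtain ⟨d, hd⟩ := Submodule.mem_span_singleton.1 h4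
    have hc0 : c ≠ 0 := fun e => hφ (by rw [← hc, e, zero_smul])
    exact Submodule.mem_span_singleton.2 ⟨d * c⁻¹, by
      rw [← hc, ← hd, smul_smul, mul_assoc, inv_mul_cancel₀ hc0, mul_one]⟩
  · exact move_right hM hb h hv hv' hnot

theorem move_left' {v v' φ : β → F} {D : Ea} (h : In M (rootMap v φ D)) (hne : v ≠ 0) (hv : φ ⬝ᵥ v = 0)
    (hv' : φ ⬝ᵥ v' = 0) : In M (rootMap v' φ D) := by
  by_cases hnot : v ∈ (F ∙ v')
  · rcases eq_or_ne v' 0 with rfl | hv'0
    · rw [rootMap_zero_left]; exact In.zero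
    obtain ⟨v'', h1, h2, h3⟩ := exists_perp_indep hM hb (v := φ) hne
    rw [dotProduct_comm] at h1
    refine move_left hM hb (move_left hM hb h hv h1 h2) h1 hv' fun h4 => h3 ?_
    obtain ⟨c, hc⟩ := Submodule.mem_span_singleton.1 hnot
    obtain ⟨d, hd⟩ := Submodule.mem_span_singleton.1 h4
    have hc0 : c ≠ 0 := fun e => hne (by rw [← hc, e, zero_smul])
    exact Submodule.mem_span_singleton.2 ⟨d * c⁻¹, by
      rw [← hc, ← hd, smul_smul, mul_assoc, inv_mul_cancel₀ hc0, mul_one]⟩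
  · exact move_left hM hb h hv hv' hnot

theorem coef_of_in {v φ : β → F} {D : Ea} (h : In M (rootMap v φ D)) (hv0 : v ≠ 0) (hφ : φ ≠ 0)
    (hv : φ ⬝ᵥ v = 0) : Coef M D := by
  intro v' φ' hv'
  rcases eq_or_ne v' 0 with rfl | hv'0
  · rw [rootMap_zero_left]; exact In.zero
  obtain ⟨φ'', hne, h1, h2⟩ := exists_perp2 hb v v'
  exact move_right' hM hb (move_left' hM hb (move_right' hM hb h hφ hv h1) hv0 h1 h2) hne h2 hv'

theorem coef_add {D D' : Ea} (h : Coef M D) (h' : Coef M D') : Coef M (D + D') := fun v φ hv => by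
  have := (h v φ hv).add (h' v φ hv) fun t => rootMap_sq hv _ _ t
  rwa [show rootMap v φ (D + D') = rootMap v φ D + rootMap v φ D' from LinearMap.ext fun t => by
    simp only [rootMap_apply, LinearMap.add_apply, tmul_add_left]]

theorem coef_smul {D : Ea} (h : Coef M D) (c : F) : Coef M (c • D) := fun v φ hv => by
  have := h (c • v) φ (by rw [dotProduct_smul, hv, smul_zero])
  rwa [show rootMap v φ (c • D) = rootMap (c • v) φ D from LinearMap.ext fun t => by
    simp only [rootMap_apply, LinearMap.smul_apply, tmul_smul_left, tmul_smul_right]]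

theorem coef_sub {D D' : Ea} (h : Coef M D) (h' : Coef M D') : Coef M (D - D') := by
  rw [sub_eq_add_neg, ← neg_one_smul F D']
  exact coef_add hM hb h (coef_smul hM hb h' _)

theorem coef_mul {D D' : Ea} (h : Coef M D) (h' : Coef M D') : Coef M (D.comp D') := fun v φ' hv => by
  rcases eq_or_ne φ' 0 with rfl | hφ'
  · rw [rootMap_zero_right]; exact In.zero
  obtain ⟨φ, h1, -, h3⟩ := exists_perp_indep hM hb (v := v) hφ'
  obtain ⟨v', h4, h5⟩ := exists_perp_one hM hb h1 h3
  exact In.rootMul (h v φ h1) (h' v' φ' h5) h1 h5 hv h4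

theorem coef_conj {D : Ea} (h : Coef M D) {A : GL α F} (hA : k2 A 1 ∈ M) :
    Coef M ((Matrix.toLin' (A : Matrix α α F)).comp
      (D.comp (Matrix.toLin' ((A⁻¹ : GL α F) : Matrix α α F)))) := fun v φ hv => by
  set g := k2 A (1 : GL β F) with hgdef
  have hgx : ∀ x y, (g : Mn) *ᵥ tmul x y =
      tmul ((A : Matrix α α F) *ᵥ x) (((1 : GL β F) : Matrix β β F) *ᵥ y) := k2_mulVec A 1
  have hgi : ∀ t, slice φ (((g⁻¹ : GL (α × β) F) : Mn) *ᵥ t) =
      ((A⁻¹ : GL α F) : Matrix α α F) *ᵥ slice φ t := fun t => by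
    rw [← Matrix.toLin'_apply, ← Matrix.toLin'_apply ((A⁻¹ : GL α F) : Matrix α α F)]
    refine LinearMap.congr_fun (f := (slice φ).comp (Matrix.toLin' ((g⁻¹ : GL (α × β) F) : Mn)))
      (g := (Matrix.toLin' ((A⁻¹ : GL α F) : Matrix α α F)).comp (slice φ)) ?_ t
    refine LinearMap.ext fun s => ?_
    obtain ⟨u, rfl⟩ : ∃ u, s = (g : Mn) *ᵥ u :=
      ⟨((g⁻¹ : GL (α × β) F) : Mn) *ᵥ s, (mulVec_inv_cancel g s).symm⟩
    simp only [LinearMap.comp_apply, Matrix.toLin'_apply, inv_mulVec_cancel]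
    conv_rhs => rw [← Matrix.toLin'_apply]
    refine LinearMap.congr_fun (f := slice φ) (g := (Matrix.toLin' ((A⁻¹ : GL α F) : Matrix α α F)).comp
      ((slice φ).comp (Matrix.toLin' (g : Mn)))) (LinearMap.ext fun w => ?_) u
    rw [sum_tmul_basis w]
    simp only [map_sum, map_smul, LinearMap.comp_apply, Matrix.toLin'_apply, hgx, slice_tmul, Units.val_one,
      Matrix.one_mulVec, inv_mulVec_cancel]
  have h1 := (h v φ hv).conj hA
  convert h1 using 1
  refine LinearMap.ext fun t => ?_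
  rw [conjL_apply, rootMap_apply, rootMap_apply, hgi, hgx, Units.val_one, Matrix.one_mulVec]
  simp only [LinearMap.comp_apply, Matrix.toLin'_apply]

/-- All rank-one coefficients give the whole special linear group. -/
theorem specialLinear_le_of_rank1 [Nonempty α] (hall : ∀ y δ : α → F, Coef M (rank1 y δ)) :
    Geo.specialLinear (α × β) F ≤ M := by
  classical
  -- elementary maps
  let E : α × β → α × β → F → (V →ₗ[F] V) := fun a b c =>
    rootMap (Pi.single a.2 (1 : F)) (Pi.single b.2 1) (rank1 (Pi.single a.1 c) (Pi.single b.1 1))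
  have hEa : ∀ a b c t, E a b c t = t b • (Pi.single a c : V) := fun a b c t => by
    funext ⟨i, k⟩
    show ((Pi.single b.1 (1 : F) : α → F) ⬝ᵥ slice (Pi.single b.2 1) t) * (Pi.single a.1 c : α → F) i *
      (Pi.single a.2 (1 : F) : β → F) k = t b * (Pi.single a c : V) (i, k)
    rw [single_dotProduct, one_mul]
    have h1 : slice (Pi.single b.2 (1 : F)) t b.1 = t b := by
      show ∑ l, t (b.1, l) * (Pi.single b.2 (1 : F) : β → F) l = t b
      rw [Finset.sum_eq_single b.2] <;> simp +contextual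
    rw [h1]
    obtain ⟨a1, a2⟩ := a
    simp only [Pi.single_apply, Prod.mk.injEq]
    by_cases e1 : i = a1 <;> by_cases e2 : k = a2 <;> simp [e1, e2]
  have hE : ∀ a b, a.2 ≠ b.2 → ∀ c, In M (E a b c) := fun a b h c =>
    hall _ _ _ _ (by simp [h])
  have hE' : ∀ a b, a ≠ b → ∀ c, In M (E a b c) := fun a b h c => by
    by_cases h2 : a.2 = b.2
    · obtain ⟨m, hm⟩ : ∃ m, m ≠ a.2 := Fintype.exists_ne_of_one_lt_card (by omega) _
      have na : (a.1, m) ≠ a := fun e => hm (congrArg Prod.snd e)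
      have nb : b ≠ (a.1, m) := fun e => hm (by rw [h2, e])
      have h1 := In.comm (hE a (a.1, m) (Ne.symm hm) c) (hE (a.1, m) b (h2 ▸ hm) 1)
        (fun t => by rw [hEa, hEa]; simp [Pi.single_eq_of_ne na])
        (fun t => by rw [hEa, hEa]; simp [Pi.single_eq_of_ne nb])
        (fun t => by rw [hEa, hEa]; simp [Pi.single_eq_of_ne (Ne.symm h)])
      convert h1 using 1
      refine LinearMap.ext fun t => ?_
      rw [LinearMap.comp_apply, hEa, hEa, hEa]
      simp
    · exact hE a b h2 c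
  intro u hu
  have hle : (⊤ : Subgroup (Matrix.SpecialLinearGroup (α × β) F)) ≤
      M.comap Matrix.SpecialLinearGroup.toGL := by
    rw [← SL_closure_transvections, Subgroup.closure_le]
    rintro _ ⟨⟨i, l, hil, c⟩, rfl⟩
    obtain ⟨k, hk, hkx⟩ := hE' i l hil c
    show Matrix.SpecialLinearGroup.toGL _ ∈ M
    convert hk using 1
    refine Units.ext (Matrix.ext_iff_mulVec.2 fun t => ?_)
    rw [hkx, hEa]
    show Matrix.transvection i l c *ᵥ t = _
    funext a
    simp [Matrix.transvection, Matrix.add_mulVec, Matrix.single_mulVec_eq, Pi.single_apply]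
    split_ifs <;> ring
  have hdet : (u : Mn).det = 1 := congrArg Units.val (MonoidHom.mem_ker.1 hu)
  obtain ⟨w, hw⟩ : ∃ w : Matrix.SpecialLinearGroup (α × β) F, (w : Mn) = u := ⟨⟨(u : Mn), hdet⟩, rfl⟩
  have h1 : Matrix.SpecialLinearGroup.toGL w ∈ M := hle (Subgroup.mem_top w)
  exact (show Matrix.SpecialLinearGroup.toGL w = u from Units.ext hw) ▸ h1

/-- A product fixing a line pointwise and moving little. -/
theorem line_of_fix [Nonempty α] {f : GL (α × β) F} (hf : IsKron f) {z : β → F} (hz : z ≠ 0)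
    (hfix : ∀ x : α → F, (f : Mn) *ᵥ tmul x z = tmul x z) {W : Submodule F (α × β → F)}
    (hW : finrank F W ≤ Fintype.card α) (him : ∀ t, (f : Mn) *ᵥ t - t ∈ W) (hne : f ≠ 1) :
    ∃ v : β → F, v ≠ 0 ∧ W = LinearMap.range (fac v) := by
  classical
  obtain ⟨A, B, h⟩ := hf
  obtain ⟨ψ, hψ⟩ := exists_dual hz
  set c := ψ ⬝ᵥ ((B : Matrix β β F) *ᵥ z) with hc
  have hA : ∀ x, c • ((A : Matrix α α F) *ᵥ x) = x := fun x => by
    have h1 := congrArg (slice ψ) (hfix x)
    rwa [h, kronecker_mulVec, slice_tmul, slice_tmul, hψ, one_smul, ← hc] at h1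
  have hc0 : c ≠ 0 := fun e => by
    obtain ⟨i⟩ := ‹Nonempty α›
    have := congrFun (hA (Pi.single i 1)) i
    simp [e] at this
  have hfx : ∀ x y, (f : Mn) *ᵥ tmul x y = tmul x (c⁻¹ • ((B : Matrix β β F) *ᵥ y)) := fun x y => by
    conv_rhs => rw [← hA x, tmul_smul_left, tmul_smul_right, smul_smul, mul_inv_cancel₀ hc0, one_smul]
    rw [h, kronecker_mulVec]
  obtain ⟨y, hy⟩ : ∃ y, c⁻¹ • ((B : Matrix β β F) *ᵥ y) - y ≠ 0 := by
    by_contra hcon
    push Not at hcon
    refine hne (Units.ext (Matrix.ext_iff_mulVec.2 fun t => ?_))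
    rw [Units.val_one, ← Matrix.toLin'_apply, Matrix.one_mulVec]
    refine LinearMap.congr_fun (f := Matrix.toLin' (f : Mn)) (g := LinearMap.id) (ext_tmul fun x y => ?_) t
    rw [Matrix.toLin'_apply, hfx, sub_eq_zero.1 (hcon y), LinearMap.id_apply]
  refine ⟨_, hy, (Submodule.eq_of_le_of_finrank_le (fun t ht => ?_) ?_).symm⟩
  · obtain ⟨x, hx⟩ := LinearMap.mem_range.1 ht
    rw [← hx, fac_apply, tmul_sub_right, ← hfx]
    exact him _
  · rw [finrank_range_fac hy]; exact hW

end

end Cfsg.Agent.Classical.TensorPow
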