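import Cfsg.Agent.Lib.Classical.TensorPow.Wm
import Cfsg.Agent.Lib.Classical.TensorPow.Two

/-!
Splitting off one factor, the lines of a factor, and: mapping lines to lines characterises the stabiliser.
-/

set_option autoImplicit false
set_option linter.unusedSectionVars false

open scoped Kronecker

namespace Cfsg.Agent.Classical.TensorPow

open Matrix Module MaxTv TensorMax

variable {F : Type*} [Field F] [Fintype F] {κ β : Type} [Fintype κ] [DecidableEq κ] [Fintype β] [DecidableEq β]

local notation "X" => (κ → β)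
local notation "V" => ((κ → β) → F)
local notation "Mn" => Matrix (κ → β) (κ → β) F
local notation "Mb" => Matrix β β F

/-- The other factors. -/
abbrev Rst (i : κ) : Type := {j : κ // j ≠ i}

/-- Splitting off the factor `i`. -/
def spE (i : κ) : (κ → β) ≃ (Rst i → β) × β :=
  (Equiv.piSplitAt i fun _ => β).trans (Equiv.prodComm _ _)

theorem spE_apply (i : κ) (x : κ → β) : spE i x = (fun j => x j.1, x i) := rfl

/-- The group isomorphism. -/
def sp (i : κ) : GL (κ → β) F ≃* GL ((Rst i → β) × β) F := Geo.glReindex (spE i)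

/-- The isomorphism of spaces. -/
def spV (i : κ) : ((κ → β) → F) ≃ₗ[F] ((Rst i → β) × β → F) :=
  LinearEquiv.funCongrLeft F F (spE i).symm

theorem spV_apply (i : κ) (t : V) (p : (Rst i → β) × β) : spV i t p = t ((spE i).symm p) := rfl

theorem sp_val (i : κ) (g : GL X F) :
    (sp i g : Matrix ((Rst i → β) × β) ((Rst i → β) × β) F) = Matrix.reindex (spE i) (spE i) (g : Mn) := rfl

theorem sp_mulVec (i : κ) (g : GL X F) (t : V) :
    (sp i g : Matrix ((Rst i → β) × β) ((Rst i → β) × β) F) *ᵥ spV i t = spV i ((g : Mn) *ᵥ t) := by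
  funext p
  rw [spV_apply, sp_val]
  simp only [Matrix.mulVec, dotProduct, Matrix.reindex_apply, Matrix.submatrix_apply, spV_apply]
  exact Fintype.sum_equiv (spE i).symm _ _ fun q => rfl

theorem sp_det (i : κ) (g : GL X F) :
    (sp i g : Matrix ((Rst i → β) × β) ((Rst i → β) × β) F).det = (g : Mn).det := by
  rw [sp_val, Matrix.det_reindex_self]

theorem mem_sl_iff {ι : Type} [Fintype ι] [DecidableEq ι] (g : GL ι F) :
    g ∈ Geo.specialLinear ι F ↔ (g : Matrix ι ι F).det = 1 := by
  rw [Geo.specialLinear, MonoidHom.mem_ker, Units.ext_iff, Matrix.GeneralLinearGroup.val_det_apply, Units.val_one]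

theorem sp_mem_sl (i : κ) (g : GL X F) :
    sp i g ∈ Geo.specialLinear ((Rst i → β) × β) F ↔ g ∈ Geo.specialLinear X F := by
  rw [mem_sl_iff, mem_sl_iff, sp_det]

theorem spV_ptens (i : κ) (xs : κ → β → F) :
    spV i (ptens xs) = tmul (ptens fun j : Rst i => xs j.1) (xs i) := by
  funext p
  obtain ⟨x, rfl⟩ := (spE i).surjective p
  rw [spV_apply, Equiv.symm_apply_apply, spE_apply]
  show ∏ l, xs l (x l) = (∏ j : Rst i, xs j.1 (x j.1)) * xs i (x i)
  rw [Fintype.prod_eq_mul_prod_subtype_ne _ i, mul_comm]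

/-- The permutation of the other factors. -/
def rperm {i : κ} (σ : Equiv.Perm κ) (h : σ i = i) : Equiv.Perm (Rst i) :=
  σ.subtypePerm fun x => by
    constructor
    · intro hx e
      exact hx (by rw [e, h])
    · intro hx e
      exact hx (σ.injective (e.trans h.symm))

theorem sp_wgl {i : κ} (σ : Equiv.Perm κ) (h : σ i = i) (gs : κ → GL β F) :
    sp i (wgl σ gs) = k2 (wgl (rperm σ h) fun j => gs j.1) (gs i) := by
  refine Units.ext (Matrix.ext fun p q => ?_)
  obtain ⟨x, rfl⟩ := (spE i).surjective p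
  obtain ⟨y, rfl⟩ := (spE i).surjective q
  rw [sp_val, Matrix.reindex_apply, Matrix.submatrix_apply, Equiv.symm_apply_apply, Equiv.symm_apply_apply,
    k2_val, spE_apply, spE_apply, Matrix.kroneckerMap_apply, wgl_val, wgl_val]
  show ∏ l, (gs l : Mb) (x l) (y (σ l)) = (∏ j : Rst i, (gs j.1 : Mb) (x j.1) (y (σ j.1))) * (gs i : Mb) (x i) (y i)
  rw [Fintype.prod_eq_mul_prod_subtype_ne _ i, h, mul_comm]

theorem sp_pe (i : κ) (A : GL β F) : sp i (pe i A) = k2 1 A := by
  show sp i (wgl 1 (Function.update 1 i A)) = _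
  rw [sp_wgl (1 : Equiv.Perm κ) rfl, Function.update_self]
  congr 1
  rw [← wgl_one (F := F) (κ := Rst i) (β := β)]
  have h1 : (fun j : Rst i => Function.update (1 : κ → GL β F) i A j.1) = 1 :=
    funext fun j => Function.update_of_ne j.2 _ _
  have h2 : rperm (i := i) (1 : Equiv.Perm κ) rfl = 1 := Equiv.ext fun j => rfl
  rw [h1, h2]

theorem sp_pe_ne {i j : κ} (h : j ≠ i) (A : GL β F) : sp i (pe j A) = k2 (pe ⟨j, h⟩ A) 1 := by
  show sp i (wgl 1 (Function.update 1 j A)) = _
  rw [sp_wgl (1 : Equiv.Perm κ) rfl, Function.update_of_ne (Ne.symm h)]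
  have h1 : (fun k : Rst i => Function.update (1 : κ → GL β F) j A k.1) = Function.update (1 : Rst i → GL β F) ⟨j, h⟩ A := by
    funext k
    by_cases e : k = ⟨j, h⟩
    · subst e
      rw [Function.update_self, Function.update_self]
    · rw [Function.update_of_ne e, Function.update_of_ne (fun e' : k.1 = j => e (Subtype.ext e'))]
      rfl
  have h2 : rperm (i := i) (1 : Equiv.Perm κ) rfl = 1 := Equiv.ext fun k => rfl
  rw [h1, h2]
  rfl

theorem pe_det (i : κ) (A : GL β F) :
    (pe i A : Mn).det = (A : Mb).det ^ Fintype.card (Rst i → β) := by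
  rw [← sp_det i, sp_pe, k2_det]
  simp

theorem mem_Wr_of_sp {i : κ} {g : GL X F} {A : GL (Rst i → β) F} {B : GL β F} (h : sp i g = k2 A B)
    (hA : A ∈ Wr F (Rst i) β) : g ∈ Wr F κ β := by
  obtain ⟨π, ks, rfl⟩ := hA
  let gs : κ → GL β F := fun l => if hl : l = i then B else ks ⟨l, hl⟩
  have hσ : Equiv.Perm.ofSubtype π i = i := Equiv.Perm.ofSubtype_apply_of_not_mem π (by simp)
  have h1 : sp i (wgl (Equiv.Perm.ofSubtype π) gs) = k2 (wgl π ks) B := by
    rw [sp_wgl _ hσ]
    congr 1
    · congr 1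
      · ext j
        exact Equiv.Perm.ofSubtype_apply_coe π j
      · funext j
        exact dif_neg j.2
    · exact dif_pos rfl
  rw [← h] at h1
  rw [← (sp i).injective h1]
  exact wgl_mem _ _

/-- The tensors whose factor `i` is a multiple of `v`. -/
def line (i : κ) (v : β → F) : Submodule F ((κ → β) → F) :=
  Submodule.span F (Set.range fun xs : κ → β → F => ptens (Function.update xs i v))

theorem ptens_mem_line {i : κ} {v : β → F} (xs : κ → β → F) :
    ptens (Function.update xs i v) ∈ line i v := Submodule.subset_span ⟨xs, rfl⟩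

theorem line_le_of {i : κ} {v : β → F} {S : Submodule F V}
    (h : ∀ xs : κ → β → F, xs i = v → ptens xs ∈ S) : line i v ≤ S :=
  Submodule.span_le.2 (Set.range_subset_iff.2 fun xs => h _ (Function.update_self _ _ _))

theorem mem_line_iff {i : κ} {v : β → F} {t : V} :
    t ∈ line i v ↔ ∃ r, spV i t = tmul r v := by
  constructor
  · intro ht
    have h1 : line i v ≤ (LinearMap.range (fac (α := Rst i → β) v)).comap (spV i).toLinearMap :=
      line_le_of fun xs hxs => by
        refine ⟨ptens fun j : Rst i => xs j.1, ?_⟩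
        show fac v _ = spV i (ptens xs)
        rw [spV_ptens, fac_apply, hxs]
    obtain ⟨r, hr⟩ := h1 ht
    exact ⟨r, hr.symm⟩
  · rintro ⟨r, hr⟩
    have key : ∀ p : Rst i → β, (spV i).symm (tmul (Pi.single p 1) v) ∈ line i v := fun p => by
      have : (spV i).symm (tmul (Pi.single p 1) v) =
          ptens (fun l : κ => if hl : l = i then v else Pi.single (p ⟨l, hl⟩) (1 : F)) := by
        rw [LinearEquiv.symm_apply_eq, spV_ptens, dif_pos rfl]
        congr 1
        funext q
        simp only [ptens]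
        rw [Finset.prod_congr rfl fun (j : Rst i) _ => by rw [dif_neg j.2]]
        by_cases e : q = p
        · subst e; simp
        · obtain ⟨j, hj⟩ := Function.ne_iff.1 e
          rw [Pi.single_eq_of_ne e, Finset.prod_eq_zero (Finset.mem_univ j)]
          exact Pi.single_eq_of_ne hj _
      rw [this]
      convert ptens_mem_line (i := i) (v := v) (fun l : κ => if hl : l = i then v else Pi.single (p ⟨l, hl⟩) (1 : F))
        using 2
      simp
    rw [← LinearEquiv.symm_apply_apply (spV i) t, hr, ← fac_apply, pi_eq_sum_univ' r, map_sum, map_sum]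
    refine Submodule.sum_mem _ fun p _ => ?_
    rw [map_smul, map_smul, fac_apply]
    exact Submodule.smul_mem _ _ (key p)

theorem line_eq_comap (i : κ) (v : β → F) :
    line i v = (LinearMap.range (fac (α := Rst i → β) v)).map (spV (F := F) (β := β) i).symm.toLinearMap := by
  ext t
  rw [mem_line_iff, Submodule.mem_map_equiv]
  exact ⟨fun ⟨r, hr⟩ => ⟨r, hr.symm⟩, fun ⟨r, hr⟩ => ⟨r, hr.symm⟩⟩

theorem finrank_line (i : κ) {v : β → F} (hv : v ≠ 0) :
    finrank F (line (κ := κ) i v) = Fintype.card (Rst i → β) := by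
  rw [line_eq_comap, LinearEquiv.finrank_map_eq, finrank_range_fac hv]

theorem card_rst (i : κ) : Fintype.card (Rst i → β) = Fintype.card β ^ (Fintype.card κ - 1) := by
  rw [Fintype.card_fun, Fintype.card_subtype_compl, Fintype.card_subtype_eq]

theorem finrank_line_eq (i j : κ) {v w : β → F} (hv : v ≠ 0) (hw : w ≠ 0) :
    finrank F (line (κ := κ) i v) = finrank F (line (κ := κ) j w) := by
  rw [finrank_line i hv, finrank_line j hw, card_rst, card_rst]

/-- Image of a line, as an inclusion. -/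
theorem map_line_eq_of_le {g : GL X F} {i j : κ} {v w : β → F} (hv : v ≠ 0) (hw : w ≠ 0)
    (h : (line i v).map (Matrix.toLin' (g : Mn)) ≤ line j w) :
    (line i v).map (Matrix.toLin' (g : Mn)) = line j w := by
  refine Submodule.eq_of_le_of_finrank_le h (le_of_eq ?_)
  rw [← (Submodule.equivMapOfInjective _ ?_ (line i v)).finrank_eq, finrank_line_eq j i hw hv]
  intro a b hab
  refine MaxTv.gl_mulVec_injective g ?_
  simpa [Matrix.toLin'_apply] using hab

theorem wgl_line (σ : Equiv.Perm κ) (gs : κ → GL β F) (j : κ) {v : β → F} (hv : v ≠ 0) :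
    (line (σ j) v).map (Matrix.toLin' (wgl σ gs : Mn)) = line j ((gs j : Mb) *ᵥ v) := by
  refine map_line_eq_of_le hv (gl_mulVec_ne_zero _ hv) ?_
  rw [Submodule.map_le_iff_le_comap]
  refine line_le_of fun xs hxs => ?_
  show Matrix.toLin' (wgl σ gs : Mn) (ptens xs) ∈ line j ((gs j : Mb) *ᵥ v)
  rw [Matrix.toLin'_apply, wgl_mulVec]
  convert ptens_mem_line (i := j) (fun l => (gs l : Mb) *ᵥ xs (σ l)) using 2
  rw [Function.update_eq_self_iff.2 (by rw [hxs])]

theorem wgl_line' (σ : Equiv.Perm κ) (gs : κ → GL β F) (j : κ) {v : β → F} (hv : v ≠ 0) :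
    (line j v).map (Matrix.toLin' (wgl σ gs : Mn)) = line (σ⁻¹ j) ((gs (σ⁻¹ j) : Mb) *ᵥ v) := by
  conv_lhs => rw [← perm_apply_inv σ j]
  exact wgl_line σ gs _ hv

theorem prop_of_mem_line {i : κ} {v : β → F} {xs : κ → β → F} (hxs : ∀ l, l ≠ i → xs l ≠ 0)
    (h : ptens xs ∈ line i v) : ∃ c : F, xs i = c • v := by
  obtain ⟨r, hr⟩ := mem_line_iff.1 h
  rw [spV_ptens] at hr
  obtain ⟨ξ, hξ⟩ := exists_dual (ptens_ne_zero (xs := fun j : Rst i => xs j.1) fun j => hxs _ j.2)
  have h1 := congrArg (lslice ξ) hr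
  rw [lslice_tmul, lslice_tmul, hξ, one_smul] at h1
  exact ⟨_, h1⟩

/-- A line determines its factor. -/
theorem line_eq_slot [Nontrivial β] {i j : κ} {v w : β → F} (hv : v ≠ 0) (hw : w ≠ 0)
    (h : line i v = line j w) : i = j := by
  by_contra hne
  obtain ⟨a, b, hab⟩ := exists_pair_ne β
  obtain ⟨u, hu, huw⟩ : ∃ u : β → F, u ≠ 0 ∧ ∀ c : F, u ≠ c • w := by
    by_contra hcon
    push Not at hcon
    obtain ⟨c, hc⟩ := hcon (Pi.single a 1) (by simp)
    obtain ⟨d, hd⟩ := hcon (Pi.single b 1) (by simp)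
    have hd0 : d ≠ 0 := fun e => by simp [e] at hd
    have h1 : (Pi.single a (1 : F) : β → F) = (c / d) • Pi.single b 1 := by
      rw [hc, hd, smul_smul, div_mul_cancel₀ _ hd0]
    simpa [hab] using congrFun h1 a
  have hm : ptens (Function.update (fun _ => u) i v) ∈ line j w := h ▸ ptens_mem_line (fun _ => u)
  obtain ⟨c, hc⟩ := prop_of_mem_line (fun l _ => by by_cases e : l = i <;> simp [e, hv, hu]) hm
  exact huw c (by rwa [Function.update_of_ne (Ne.symm hne)] at hc)

theorem line_inter {i : κ} {v v' : β → F} (h : ∀ c : F, v' ≠ c • v) {t : V} (ht : t ∈ line i v)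
    (ht' : t ∈ line i v') : t = 0 := by
  obtain ⟨r, hr⟩ := mem_line_iff.1 ht
  obtain ⟨r', hr'⟩ := mem_line_iff.1 ht'
  have hnm : v' ∉ (F ∙ v) := fun hm => by
    obtain ⟨c, hc⟩ := Submodule.mem_span_singleton.1 hm
    exact h c hc.symm
  obtain ⟨φ, h1, h0⟩ := exists_dot_one hnm
  have h2 := congrArg (slice φ) (hr'.symm.trans hr)
  rw [slice_tmul, slice_tmul, h1, h0 v (Submodule.mem_span_singleton_self v), one_smul, zero_smul] at h2
  refine (spV i).injective ?_
  rw [hr', h2, tmul_zero_left, map_zero]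

theorem slice_mem_line {i : κ} {j : Rst i} {v : β → F} {t : V} (ht : t ∈ line j.1 v) (φ : β → F) :
    slice φ (spV i t) ∈ line j v := by
  have h1 : line j.1 v ≤ (line j v).comap ((slice φ).comp (spV i).toLinearMap) := line_le_of fun xs hxs => by
    show slice φ (spV i (ptens xs)) ∈ line j v
    rw [spV_ptens, slice_tmul]
    refine Submodule.smul_mem _ _ ?_
    convert ptens_mem_line (i := j) (fun l : Rst i => xs l.1) using 2
    rw [Function.update_eq_self_iff.2 hxs.symm]
  exact h1 ht

theorem tmul_mem_line {i : κ} {j : Rst i} {v : β → F} {r : (Rst i → β) → F} (hr : r ∈ line j v) (e : β → F) :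
    (spV i).symm (tmul r e) ∈ line j.1 v := by
  have h1 : line j v ≤ (line j.1 v).comap ((spV i).symm.toLinearMap.comp (fac e)) := line_le_of fun xs hxs => by
    show (spV i).symm (fac e (ptens xs)) ∈ line j.1 v
    have he : (spV i).symm (fac e (ptens xs)) = ptens (fun l : κ => if hl : l = i then e else xs ⟨l, hl⟩) := by
      rw [LinearEquiv.symm_apply_eq, spV_ptens, dif_pos rfl, fac_apply]
      congr 2
      funext l
      rw [dif_neg l.2]
    rw [he]
    convert ptens_mem_line (i := j.1) (fun l : κ => if hl : l = i then e else xs ⟨l, hl⟩) using 2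
    rw [Function.update_eq_self_iff.2]
    rw [dif_neg j.2]
    exact hxs.symm
  exact h1 hr

/-- The element moves every line of the factor `i` to a line of the factor `j`. -/
def SlotMap (g : GL (κ → β) F) (i j : κ) : Prop :=
  ∀ v : β → F, v ≠ 0 → ∃ w : β → F, w ≠ 0 ∧ (line i v).map (Matrix.toLin' (g : Matrix (κ → β) (κ → β) F)) = line j w

theorem map_mul_line (g h : GL X F) (S : Submodule F V) :
    S.map (Matrix.toLin' ((g * h : GL X F) : Mn)) =
      (S.map (Matrix.toLin' (h : Mn))).map (Matrix.toLin' (g : Mn)) := by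
  rw [Units.val_mul, Matrix.toLin'_mul, Submodule.map_comp]

/-- After a permutation the element is of product shape at the factor. -/
theorem kron_of_slotMap [Nonempty β] {g : GL X F} {i j : κ} (h : SlotMap g i j) :
    IsKron (sp i (wgl (Equiv.swap i j) 1 * g)) := by
  refine isKron_of_lines fun v hv => ?_
  obtain ⟨w, hw, hgw⟩ := h v hv
  refine ⟨w, fun r => ?_⟩
  have hr : (spV i).symm (tmul r v) ∈ line i v := mem_line_iff.2 ⟨r, LinearEquiv.apply_symm_apply _ _⟩
  have h1 : ((wgl (Equiv.swap i j) 1 * g : GL X F) : Mn) *ᵥ (spV i).symm (tmul r v) ∈ line i w := by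
    have := Submodule.mem_map_of_mem (f := Matrix.toLin' ((wgl (Equiv.swap i j) 1 * g : GL X F) : Mn)) hr
    rw [map_mul_line, hgw, wgl_line' _ _ _ hw, Equiv.swap_inv, Equiv.swap_apply_right] at this
    simpa [Matrix.toLin'_apply] using this
  obtain ⟨r', hr'⟩ := mem_line_iff.1 h1
  refine ⟨r', ?_⟩
  rw [← LinearEquiv.apply_symm_apply (spV i) (tmul r v), sp_mulVec, hr']

theorem map_line_of_kron {g : GL X F} {i : κ} {A : GL (Rst i → β) F} {B : GL β F} (h : sp i g = k2 A B)
    {v : β → F} (hv : v ≠ 0) :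
    (line i v).map (Matrix.toLin' (g : Mn)) = line i ((B : Mb) *ᵥ v) := by
  refine map_line_eq_of_le hv (gl_mulVec_ne_zero B hv) ?_
  rintro _ ⟨t, ht, rfl⟩
  obtain ⟨r, hr⟩ := mem_line_iff.1 ht
  refine mem_line_iff.2 ⟨(A : Matrix _ _ F) *ᵥ r, ?_⟩
  rw [Matrix.toLin'_apply, ← sp_mulVec, hr, h, k2_mulVec]

theorem one_of_subsingleton {i : κ} (h : ∀ l : κ, l = i) (g : GL X F) : g ∈ Wr F κ β := by
  haveI : IsEmpty (Rst i) := ⟨fun j => j.2 (h j.1)⟩
  let e : (Rst i → β) × β ≃ β := Equiv.uniqueProd β (Rst i → β)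
  refine mem_Wr_of_sp (i := i) (A := 1) (B := Geo.glReindex e (sp i g)) ?_ (one_mem _)
  refine Units.ext (Matrix.ext fun p q => ?_)
  rw [k2_val, Units.val_one, Matrix.kroneckerMap_apply, Matrix.one_apply, if_pos (Subsingleton.elim _ _), one_mul]
  show _ = (sp i g : Matrix _ _ F) (e.symm p.2) (e.symm q.2)
  have he : ∀ r : (Rst i → β) × β, e.symm r.2 = r := fun r => Prod.ext (Subsingleton.elim _ _) rfl
  rw [he, he]

end Cfsg.Agent.Classical.TensorPow

namespace Cfsg.Agent.Classical.TensorPow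

open Matrix Module MaxTv TensorMax

variable {F : Type*} [Field F] [Fintype F] {β : Type} [Fintype β] [DecidableEq β] [Nontrivial β]

/-- Mapping all lines to lines. -/
theorem mem_Wr_of_lines : ∀ (t : ℕ) (κ : Type) [Fintype κ] [DecidableEq κ] [Nonempty κ], Fintype.card κ = t →
    ∀ g : GL (κ → β) F, (∀ (i : κ) (v : β → F), v ≠ 0 → ∃ (j : κ) (w : β → F), w ≠ 0 ∧
      (line i v).map (Matrix.toLin' (g : Matrix (κ → β) (κ → β) F)) = line j w) → g ∈ Wr F κ β := by
  intro t
  induction t using Nat.strong_induction_on with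
  | _ t ih =>
    intro κ _ _ _ hcard g hg
    obtain ⟨i⟩ := ‹Nonempty κ›
    by_cases hsub : ∀ l : κ, l = i
    · exact one_of_subsingleton hsub g
    push Not at hsub
    obtain ⟨l₀, hl₀⟩ := hsub
    obtain ⟨a, b, hab⟩ := exists_pair_ne β
    obtain ⟨k, hk⟩ : ∃ k, SlotMap g i k := by
      obtain ⟨k, w₀, hw₀, hgw₀⟩ := hg i (Pi.single a 1) (by simp)
      refine ⟨k, fun v hv => ?_⟩
      obtain ⟨k', w, hw, hgw⟩ := hg i v hv
      suffices k' = k by exact ⟨w, hw, this ▸ hgw⟩
      by_cases hdep : ∀ c : F, v ≠ c • Pi.single a 1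
      · by_contra hne
        set xs : κ → β → F := Function.update (Function.update (fun _ => Pi.single a 1) k w₀) k' w with hxs
        have hm' : ptens xs ∈ line k' w := ptens_mem_line _
        have hm : ptens xs ∈ line k w₀ := by
          rw [hxs, Function.update_comm (Ne.symm hne)]
          exact ptens_mem_line _
        rw [← hgw] at hm'
        rw [← hgw₀] at hm
        obtain ⟨s, hs, hse⟩ := hm
        obtain ⟨s', hs', hse'⟩ := hm'
        have hss : s' = s := MaxTv.gl_mulVec_injective g (by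
          simpa [Matrix.toLin'_apply] using hse'.trans hse.symm)
        have h0 : s = 0 := line_inter hdep hs (hss ▸ hs')
        rw [h0, map_zero] at hse
        refine ptens_ne_zero (xs := xs) (fun l => ?_) hse.symm
        rw [hxs]
        by_cases e : l = k' <;> by_cases e' : l = k <;> simp [e, e', hw, hw₀, Ne.symm hne]
      · push Not at hdep
        obtain ⟨c, hc⟩ := hdep
        have hc0 : c ≠ 0 := fun e => hv (by rw [hc, e, zero_smul])
        have hl : line (κ := κ) i v = line i (Pi.single a 1) := by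
          refine Submodule.eq_of_le_of_finrank_le (fun s hs => ?_) (le_of_eq (finrank_line_eq i i (by simp) hv))
          obtain ⟨r, hr⟩ := mem_line_iff.1 hs
          exact mem_line_iff.2 ⟨c • r, by rw [hr, hc, tmul_smul_right, tmul_smul_left]⟩
        rw [hl] at hgw
        exact line_eq_slot hw hw₀ (hgw.symm.trans hgw₀)
    set P : GL (κ → β) F := wgl (Equiv.swap i k) 1 with hP
    obtain ⟨A, B, hAB⟩ := isKron_iff.1 (kron_of_slotMap hk)
    have hg' : sp i (P * g) = k2 A B := hAB
    suffices hA : A ∈ Wr F (Rst i) β by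
      have h1 := mem_Wr_of_sp hg' hA
      exact (Subgroup.mul_mem_cancel_left _ (wgl_mem _ _)).1 h1
    haveI : Nonempty (Rst i) := ⟨⟨l₀, hl₀⟩⟩
    have hlt : Fintype.card (Rst i) < t := hcard ▸ Fintype.card_subtype_lt (x := i) (by simp)
    refine ih _ hlt (Rst i) rfl A fun j v hv => ?_
    obtain ⟨l, w, hw, hgw⟩ := hg j.1 v hv
    have hgw' : (line j.1 v).map (Matrix.toLin' ((P * g : GL (κ → β) F) : Matrix (κ → β) (κ → β) F)) =
        line (Equiv.swap i k l) w := by
      rw [map_mul_line, hgw, hP, wgl_line' _ _ _ hw, Equiv.swap_inv]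
      simp
    have hli : Equiv.swap i k l ≠ i := fun e => by
      rw [e] at hgw'
      set w' := ((B⁻¹ : GL β F) : Matrix β β F) *ᵥ w
      have hw' : w' ≠ 0 := gl_mulVec_ne_zero _ hw
      have h2 := map_line_of_kron hg' hw'
      rw [show (B : Matrix β β F) *ᵥ w' = w by
        rw [Matrix.mulVec_mulVec, ← Units.val_mul, mul_inv_cancel, Units.val_one, Matrix.one_mulVec], ← hgw'] at h2
      have hinj : Function.Injective (Matrix.toLin' ((P * g : GL (κ → β) F) : Matrix (κ → β) (κ → β) F)) :=
        fun x y hxy => MaxTv.gl_mulVec_injective (P * g) (by simpa [Matrix.toLin'_apply] using hxy)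
      exact j.2 (line_eq_slot hw' hv (Submodule.map_injective_of_injective hinj h2)).symm
    refine ⟨⟨_, hli⟩, w, hw, map_line_eq_of_le hv hw ?_⟩
    rintro _ ⟨r, hr, rfl⟩
    obtain ⟨e', he'⟩ : ∃ e' : β → F, e' ≠ 0 := ⟨Pi.single a 1, by simp⟩
    obtain ⟨φ, hφ⟩ := exists_dual (gl_mulVec_ne_zero B he')
    have h3 := Submodule.mem_map_of_mem (f := Matrix.toLin' ((P * g : GL (κ → β) F) : Matrix (κ → β) (κ → β) F))
      (tmul_mem_line hr e')
    rw [hgw'] at h3
    have h4 := slice_mem_line (j := (⟨_, hli⟩ : Rst i)) h3 φ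
    rw [Matrix.toLin'_apply, ← sp_mulVec, LinearEquiv.apply_symm_apply, hg', k2_mulVec, slice_tmul, hφ, one_smul]
      at h4
    exact h4

end Cfsg.Agent.Classical.TensorPow
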