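import Cfsg.Agent.Lib.Classical.TensorPow.Ctx
import Cfsg.Agent.Lib.Classical.TensorPow.Local
import Cfsg.Agent.Lib.Classical.TensorPow.RankMono

/-!
The decomposition in two factors of dimension three: the centraliser of an involution exchanging the factors.
-/

set_option autoImplicit false
set_option linter.unusedSectionVars false

open scoped Kronecker

namespace Cfsg.Agent.Classical.TensorPow

open Matrix Module MaxTv TensorMax

variable {F : Type*} [Field F] [Fintype F] {κ β : Type} [Fintype κ] [DecidableEq κ] [Fintype β] [DecidableEq β]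

local notation "X" => (κ → β)
local notation "Mn" => Matrix (κ → β) (κ → β) F
local notation "Mb" => Matrix β β F

theorem pe_conj_eq {σ : Equiv.Perm κ} {gs : κ → GL β F} (j : κ) (A : GL β F) {i : κ} (hi : σ i = j) :
    wgl σ gs * pe j A * (wgl σ gs)⁻¹ = pe i (gs i * A * (gs i)⁻¹) := by
  rw [conj_pe, ← hi, perm_inv_apply]

/-- An element of the stabiliser commuting with a non-scalar pure element fixes its slot and commutes there. -/
theorem comm_pe [Nontrivial β] {π : Equiv.Perm κ} {hs : κ → GL β F} {i : κ} {U : GL β F}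
    (hU : ∀ c : F, (U : Mb) ≠ c • 1) (h : wgl π hs * pe i U = pe i U * wgl π hs) :
    π i = i ∧ hs i * U = U * hs i := by
  have h1 : pe i U = pe (π⁻¹ i) (hs (π⁻¹ i) * U * (hs (π⁻¹ i))⁻¹) := by
    rw [← conj_pe, h, mul_inv_cancel_right]
  obtain ⟨e1, e2⟩ := pe_eq hU h1
  have e3 : π i = i := by
    conv_lhs => rw [e1, perm_apply_inv]
  refine ⟨e3, ?_⟩
  rw [← e1] at e2
  conv_rhs => rw [e2]
  rw [inv_mul_cancel_right]

theorem two_slots (h2 : Fintype.card κ = 2) {a b : κ} (hab : a ≠ b) (l : κ) : l = a ∨ l = b := by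
  by_contra hcon
  rw [not_or] at hcon
  have : ({l, a, b} : Finset κ).card ≤ 2 := (Finset.card_le_univ _).trans h2.le
  rw [Finset.card_insert_of_notMem (by simp [hcon.1, hcon.2]), Finset.card_pair hab] at this
  omega

theorem perm_eq_one_of_two (h2 : Fintype.card κ = 2) {π : Equiv.Perm κ} {i : κ} (h : π i = i) : π = 1 := by
  refine Equiv.ext fun l => ?_
  by_cases e : l = i
  · rw [e, h]; rfl
  · rcases two_slots h2 (Ne.symm e) (π l) with h' | h'
    · exact absurd (π.injective (h'.trans h.symm)) e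
    · exact h'

/-- The diagonal of the centraliser of a swap. -/
def diagPair (a b : κ) (g : GL β F) (hab : a ≠ b) : GL β F →* GL (κ → β) F where
  toFun A := pe a A * pe b (g * A * g⁻¹)
  map_one' := by rw [mul_one, mul_inv_cancel, map_one, map_one, one_mul]
  map_mul' A B := by
    rw [show g * (A * B) * g⁻¹ = g * A * g⁻¹ * (g * B * g⁻¹) by group, map_mul, map_mul]
    rw [mul_assoc (pe a A) (pe b (g * A * g⁻¹)), ← mul_assoc (pe b (g * A * g⁻¹)) (pe a B), ← pe_comm hab]
    simp only [mul_assoc]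

theorem diagPair_mem {a b : κ} {g : GL β F} (hab : a ≠ b) (A : GL β F) : diagPair a b g hab A ∈ Wr F κ β :=
  mul_mem (pe_mem _ _) (pe_mem _ _)

theorem diagPair_det {a b : κ} {g : GL β F} (hab : a ≠ b) {A : GL β F} (hA : (A : Mb).det = 1) :
    (diagPair a b g hab A : Mn).det = 1 := by
  show ((pe a A * pe b (g * A * g⁻¹) : GL X F) : Mn).det = 1
  rw [Units.val_mul, Matrix.det_mul, pe_det, pe_det, hA, Units.val_mul, Units.val_mul, Matrix.det_units_conj, hA,
    one_pow, one_pow, one_mul]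

theorem diagPair_comm [Nontrivial β] {σ : Equiv.Perm κ} {gs : κ → GL β F} {a b : κ} (hab : a ≠ b) (ha : σ a = b)
    (hb' : σ b = a) (hz : wgl σ gs * wgl σ gs = 1) (A : GL β F) :
    wgl σ gs * diagPair a b (gs b) hab A = diagPair a b (gs b) hab A * wgl σ gs := by
  show wgl σ gs * (pe a A * pe b (gs b * A * (gs b)⁻¹)) = pe a A * pe b (gs b * A * (gs b)⁻¹) * wgl σ gs
  rw [← mul_inv_eq_iff_eq_mul]
  have hc : gs a * gs b * A = A * (gs a * gs b) := by
    rw [wgl_mul] at hz
    obtain ⟨c, hc⟩ := (wgl_eq_one hz).2 a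
    rw [ha] at hc
    refine Units.ext ?_
    have hc' : (gs a : Mb) * (gs b : Mb) = c • 1 := by rw [← Units.val_mul]; exact hc
    simp only [Units.val_mul, hc', Matrix.smul_mul, Matrix.mul_smul, one_mul, mul_one]
  have e : wgl σ gs * (pe a A * pe b (gs b * A * (gs b)⁻¹)) * (wgl σ gs)⁻¹ =
      (wgl σ gs * pe a A * (wgl σ gs)⁻¹) * (wgl σ gs * pe b (gs b * A * (gs b)⁻¹) * (wgl σ gs)⁻¹) := by
    group
  rw [e, pe_conj_eq a A hb', pe_conj_eq b _ ha, ← pe_comm hab]
  congr 2
  rw [show gs a * (gs b * A * (gs b)⁻¹) * (gs a)⁻¹ = gs a * gs b * A * (gs a * gs b)⁻¹ by group, hc,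
    mul_inv_cancel_right]

theorem diagPair_rank [Nontrivial β] (hm : Fintype.card β = 3) (h2 : Fintype.card κ = 2) {a b : κ} {g : GL β F}
    (hab : a ≠ b) {u ψ : β → F} (hu : u ≠ 0) (hψ : ψ ≠ 0) (hψu : ψ ⬝ᵥ u = 0) {A : GL β F}
    (hA : (A : Mb) = 1 + vecMulVec u ψ) :
    4 ≤ ((diagPair a b g hab A : Mn) - 1).rank ∧ ((diagPair a b g hab A : Mn) - 1).rank ≤ 5 := by
  classical
  set u' := (g : Mb) *ᵥ u
  set ψ' := ψ ᵥ* ((g⁻¹ : GL β F) : Mb)
  have hu' : u' ≠ 0 := gl_mulVec_ne_zero g hu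
  have hψu' : ψ' ⬝ᵥ u' = 0 := by rw [vecMul_inv_dot, hψu]
  have hψ' : ψ' ≠ 0 := fun e => hψ (by
    obtain ⟨x, hx⟩ := exists_dual hψ
    have := vecMul_inv_dot g ψ x
    rw [show ψ ᵥ* ((g⁻¹ : GL β F) : Mb) = 0 from e, zero_dotProduct, dotProduct_comm, hx] at this
    exact absurd this zero_ne_one)
  have hA' : ((g * A * g⁻¹ : GL β F) : Mb) = 1 + vecMulVec u' ψ' := by
    rw [Units.val_mul, Units.val_mul, hA, mul_add, add_mul, mul_one, ← Units.val_mul, mul_inv_cancel, Units.val_one,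
      Matrix.mul_vecMulVec, Matrix.vecMulVec_mul]
  have hc : Fintype.card (Rst a) = 1 := by
    rw [Fintype.card_subtype_compl, Fintype.card_subtype_eq, h2]
  haveI : Subsingleton (Rst a) := Fintype.card_le_one_iff_subsingleton.1 hc.le
  set C : Matrix (Rst a → β) (Rst a → β) F :=
    vecMulVec (ptens fun _ : Rst a => u') (ptens fun _ : Rst a => ψ') with hC
  have hpe : (pe (⟨b, Ne.symm hab⟩ : Rst a) (g * A * g⁻¹) : Matrix (Rst a → β) (Rst a → β) F) = 1 + C := by
    rw [← et_val, hA', et_add, et_one]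
    congr 1
    ext x y
    rw [et, wm, Matrix.of_apply, hC, Matrix.vecMulVec_apply, ptens, ptens, ← Finset.prod_mul_distrib]
    refine Finset.prod_congr rfl fun l _ => ?_
    rw [Subsingleton.elim l ⟨b, Ne.symm hab⟩, Function.update_self]
    rfl
  have e : (sp a (diagPair a b g hab A) : GL ((Rst a → β) × β) F).val - 1 =
      C ⊗ₖ (1 : Mb) + (1 : Matrix (Rst a → β) (Rst a → β) F) ⊗ₖ vecMulVec u ψ + C ⊗ₖ vecMulVec u ψ := by
    show (sp a (pe a A * pe b (g * A * g⁻¹)) : GL ((Rst a → β) × β) F).val - 1 = _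
    rw [map_mul, sp_pe, sp_pe_ne (Ne.symm hab), k2_mul, one_mul, mul_one, k2_val, hpe, hA, Matrix.add_kronecker,
      Matrix.kronecker_add, Matrix.kronecker_add, Matrix.one_kronecker_one]
    abel
  have hr : ((diagPair a b g hab A : Mn) - 1).rank =
      ((sp a (diagPair a b g hab A) : GL ((Rst a → β) × β) F).val - 1).rank := by
    rw [← Matrix.rank_reindex (spE a) (spE a) ((diagPair a b g hab A : Mn) - 1)]
    congr 1
    ext x y
    rw [sp_val]
    simp [Matrix.one_apply]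
  rw [hr, e]
  have hca : Fintype.card (Rst a → β) = 3 := by rw [card_rst, hm, h2]; norm_num
  have hpu : ptens (fun _ : Rst a => u') ≠ (0 : (Rst a → β) → F) := ptens_ne_zero fun _ => hu'
  have hpψ : ptens (fun _ : Rst a => ψ') ≠ (0 : (Rst a → β) → F) := ptens_ne_zero fun _ => hψ'
  have hC2 : C * C = 0 := by
    rw [hC, vmv_mul, dot_ptens, Finset.prod_eq_zero (Finset.mem_univ (⟨b, Ne.symm hab⟩ : Rst a)) hψu', zero_smul]
  have hrank1 : ∀ {ι : Type} [Fintype ι] [DecidableEq ι] (x y : ι → F), x ≠ 0 → y ≠ 0 →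
      (vecMulVec x y).rank = 1 := by
    intro ι _ _ x y hx hy
    refine le_antisymm (Matrix.rank_vecMulVec_le x y) ?_
    rw [Nat.one_le_iff_ne_zero, Ne, rank_zero_iff]
    obtain ⟨p, hp⟩ := Function.ne_iff.1 hx
    obtain ⟨q, hq⟩ := Function.ne_iff.1 hy
    exact fun e => mul_ne_zero hp hq (congrFun (congrFun e p) q)
  constructor
  · obtain ⟨-, h⟩ := rank_pair_ge C (vecMulVec u ψ) hC2 (by rw [vmv_mul, hψu, zero_smul])
    rw [hca, hm, hrank1 u ψ hu hψ, show C.rank = 1 from hrank1 _ _ hpu hpψ] at h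
    exact h
  · haveI : Nonempty (Rst a → β) := Fintype.card_pos_iff.1 (by omega)
    have := rank_pair_le (γ := ptens fun _ : Rst a => ψ') (δ := ψ) hpu hu
    rw [hca, hm] at this
    rw [hC]
    omega

/-- A scalar component makes the rank a multiple of three. -/
theorem dvd_rank_of_scalar [Nontrivial β] (hm : Fintype.card β = 3) (h2 : Fintype.card κ = 2) {gs : κ → GL β F}
    {i : κ} {c : F} (hc : (gs i : Mb) = c • 1) : 3 ∣ ((wgl 1 gs : Mn) - 1).rank := by
  classical
  obtain ⟨j, hj⟩ : ∃ j, j ≠ i := Fintype.exists_ne_of_one_lt_card (by omega) i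
  have hc' : Fintype.card (Rst j) = 1 := by
    rw [Fintype.card_subtype_compl, Fintype.card_subtype_eq, h2]
  have hu : ∀ l : Rst j, l.1 = i := fun l => (two_slots h2 hj l.1).resolve_left l.2
  have e : (sp j (wgl 1 gs) : GL ((Rst j → β) × β) F).val - 1 =
      (1 : Matrix (Rst j → β) (Rst j → β) F) ⊗ₖ (c • (gs j : Mb) - 1) := by
    rw [sp_wgl (1 : Equiv.Perm κ) rfl, k2_val]
    have : (wgl (rperm (i := j) (1 : Equiv.Perm κ) rfl) (fun l : Rst j => gs l.1) : Matrix (Rst j → β) (Rst j → β) F) =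
        c • 1 := by
      ext x y
      rw [wgl_scalar_apply _ _ (fun _ => c) (fun l => by rw [hu l, hc]), Finset.prod_const, Finset.card_univ, hc',
        pow_one, Matrix.smul_apply, smul_eq_mul, Matrix.one_apply]
      congr 1
    rw [this]
    ext p q
    simp only [Matrix.sub_apply, Matrix.kroneckerMap_apply, Matrix.smul_apply, smul_eq_mul, Matrix.one_apply,
      Prod.ext_iff]
    by_cases e1 : p.1 = q.1 <;> by_cases e2 : p.2 = q.2 <;> simp [e1, e2]
  have hr : ((wgl 1 gs : Mn) - 1).rank = ((sp j (wgl 1 gs) : GL ((Rst j → β) × β) F).val - 1).rank := by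
    rw [← Matrix.rank_reindex (spE j) (spE j) ((wgl 1 gs : Mn) - 1)]
    congr 1
    ext x y
    rw [sp_val]
    simp [Matrix.one_apply]
  rw [hr, e, rank_one_kron, card_rst, hm, h2]
  exact dvd_mul_right _ _

/-- Components preserving the line and the functional. -/
def Tri (v φ : β → F) (a : GL β F) : Prop :=
  ∃ c : F, (a : Matrix β β F) *ᵥ v = c • v ∧ φ ᵥ* (a : Matrix β β F) = c • φ

theorem tri_of_comm {v φ : β → F} (hv : v ≠ 0) (hφ : φ ≠ 0) {a : GL β F}
    (h : (a : Mb) * vecMulVec v φ = vecMulVec v φ * (a : Mb)) : Tri v φ a := by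
  rw [Matrix.mul_vecMulVec, Matrix.vecMulVec_mul] at h
  obtain ⟨p, hp⟩ := Function.ne_iff.1 hv
  obtain ⟨q, hq⟩ := Function.ne_iff.1 hφ
  set c := (φ ᵥ* (a : Mb)) q / φ q
  have h1 : (a : Mb) *ᵥ v = c • v := by
    funext r
    have := congrFun (congrFun h r) q
    simp only [Matrix.vecMulVec_apply] at this
    rw [Pi.smul_apply, smul_eq_mul]
    simp only [c]
    field_simp [show φ q ≠ 0 from hq]
    linear_combination this
  refine ⟨c, h1, funext fun r => ?_⟩
  have := congrFun (congrFun h p) r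
  rw [h1] at this
  simp only [Matrix.vecMulVec_apply, Pi.smul_apply, smul_eq_mul] at this ⊢
  refine mul_left_cancel₀ (show v p ≠ 0 from hp) ?_
  linear_combination -this

theorem tri_mul {v φ : β → F} {a a' : GL β F} (h : Tri v φ a) (h' : Tri v φ a') : Tri v φ (a * a') := by
  obtain ⟨c, h1, h2⟩ := h
  obtain ⟨c', h1', h2'⟩ := h'
  refine ⟨c * c', ?_, ?_⟩
  · rw [Units.val_mul, ← Matrix.mulVec_mulVec, h1', Matrix.mulVec_smul, h1, smul_smul, mul_comm]
  · rw [Units.val_mul, ← Matrix.vecMul_vecMul, h2, Matrix.smul_vecMul, h2', smul_smul]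

theorem tri_inv {v φ : β → F} (hv : v ≠ 0) {a : GL β F} (h : Tri v φ a) : Tri v φ a⁻¹ := by
  obtain ⟨c, h1, h2⟩ := h
  have hc : c ≠ 0 := fun e => gl_mulVec_ne_zero a hv (by rw [h1, e, zero_smul])
  refine ⟨c⁻¹, ?_, ?_⟩
  · have := congrArg (((a⁻¹ : GL β F) : Mb) *ᵥ ·) h1
    simp only [inv_mulVec_cancel, Matrix.mulVec_smul] at this
    conv_rhs => rw [this]
    rw [smul_smul, inv_mul_cancel₀ hc, one_smul]
  · have := congrArg (· ᵥ* ((a⁻¹ : GL β F) : Mb)) h2
    simp only [Matrix.vecMul_vecMul, ← Units.val_mul, mul_inv_cancel, Units.val_one, Matrix.vecMul_one,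
      Matrix.smul_vecMul] at this
    conv_rhs => rw [this]
    rw [smul_smul, inv_mul_cancel₀ hc, one_smul]

/-- The images in the stabiliser of the diagonal group under a conjugation. -/
theorem exists_image [Nontrivial β] {M : Subgroup (GL (κ → β) F)} (hM : Cx M) (h2 : Fintype.card κ = 2)
    {x : GL X F} (hx : x ∈ M) {i : κ} {S : GL β F} (hS : ∀ c : F, (S : Mb) ≠ c • 1)
    (hC : ∀ y ∈ M, y * pe i S = pe i S * y → y ∈ Wr F κ β)
    {σ : Equiv.Perm κ} {gs : κ → GL β F} (hz : x * pe i S * x⁻¹ = wgl σ gs) (hz2 : wgl σ gs * wgl σ gs = 1)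
    {a b : κ} (hab : a ≠ b) (ha : σ a = b) (hb' : σ b = a) (A : GL β F) (hA : (A : Mb).det = 1) :
    ∃ hs : κ → GL β F, x⁻¹ * diagPair a b (gs b) hab A * x = wgl 1 hs ∧ hs i * S = S * hs i := by
  have hk : diagPair a b (gs b) hab A ∈ M := hM.mem_wr (diagPair_mem hab A) (diagPair_det hab hA)
  have hcm : x⁻¹ * diagPair a b (gs b) hab A * x * pe i S = pe i S * (x⁻¹ * diagPair a b (gs b) hab A * x) := by
    have hzk := diagPair_comm hab ha hb' hz2 A
    rw [← hz] at hzk
    calc x⁻¹ * diagPair a b (gs b) hab A * x * pe i S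
        = x⁻¹ * (diagPair a b (gs b) hab A * (x * pe i S * x⁻¹)) * x := by group
      _ = x⁻¹ * (x * pe i S * x⁻¹ * diagPair a b (gs b) hab A) * x := by rw [hzk]
      _ = _ := by group
  have hy := hC _ (mul_mem (mul_mem (inv_mem hx) hk) hx) hcm
  obtain ⟨π, hs, hq⟩ := hy
  rw [hq] at hcm
  obtain ⟨hπ, hcomm⟩ := comm_pe hS hcm
  rw [perm_eq_one_of_two h2 hπ] at hq
  exact ⟨hs, hq, hcomm⟩

end Cfsg.Agent.Classical.TensorPow
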