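import Cfsg.Agent.Lib.Classical.TensorPow.Large
import Cfsg.Agent.Lib.Classical.TensorPow.Flip

/-!
Factors of dimension three: no admissible bad set.
-/

set_option autoImplicit false
set_option linter.unusedSectionVars false

namespace Cfsg.Agent.Classical.TensorPow

open Matrix Module MaxTv TensorMax

variable {F : Type*} [Field F] [Fintype F] {κ β : Type} [Fintype κ] [DecidableEq κ] [Fintype β] [DecidableEq β]

local notation "X" => (κ → β)
local notation "Mn" => Matrix (κ → β) (κ → β) F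
local notation "Mb" => Matrix β β F

variable {M : Subgroup (GL (κ → β) F)}

theorem sigT_or_neg (hm : Fintype.card β = 3) {N : GL β F} (hN : N * N = 1) (hns : ∀ c : F, (N : Mb) ≠ c • 1) :
    ∃ (S : GL β F) (c : F), SigT S ∧ (S : Mb) = c • (N : Mb) := by
  have hNN : (N : Mb) * (N : Mb) = 1 := by rw [← Units.val_mul, hN, Units.val_one]
  have hle := Matrix.rank_add_rank_le_card_of_mul_eq_zero (A := (N : Mb) - 1) (B := (N : Mb) + 1) (by
    rw [sub_mul, mul_add, hNN, mul_one, one_mul]; abel)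
  have h1 : ((N : Mb) - 1).rank ≠ 0 := fun e => hns 1 (by
    rw [one_smul]; exact sub_eq_zero.1 ((rank_zero_iff _).1 e))
  have h2 : ((N : Mb) + 1).rank ≠ 0 := fun e => hns (-1) (by
    rw [neg_smul, one_smul]; exact eq_neg_of_add_eq_zero_left ((rank_zero_iff _).1 e))
  rw [hm] at hle
  rcases (show ((N : Mb) + 1).rank = 1 ∨ ((N : Mb) - 1).rank = 1 by omega) with h | h
  · exact ⟨N, 1, sigT_of_rank_one hN h, (one_smul F _).symm⟩
  · refine ⟨scal (-1) (neg_ne_zero.2 one_ne_zero) N, -1, sigT_of_rank_one ?_ ?_, scal_val _ _ _⟩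
    · refine Units.ext ?_
      rw [Units.val_mul, scal_val, Matrix.smul_mul, Matrix.mul_smul, smul_smul, hNN, Units.val_one]
      norm_num
    · rw [scal_val, show (-1 : F) • (N : Mb) + 1 = -((N : Mb) - 1) by rw [neg_smul, one_smul, neg_sub, ← sub_eq_neg_add],
        rank_neg, h]

theorem rank_le_one_of_three (hm : Fintype.card β = 3) (h2 : (2 : F) = 0) {N : GL β F} (hN : N * N = 1) :
    ((N : Mb) - 1).rank ≤ 1 := by
  have hNN : (N : Mb) * (N : Mb) = 1 := by rw [← Units.val_mul, hN, Units.val_one]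
  have hle := Matrix.rank_add_rank_le_card_of_mul_eq_zero (A := (N : Mb) - 1) (B := (N : Mb) + 1) (by
    rw [sub_mul, mul_add, hNN, mul_one, one_mul]; abel)
  rw [← sub_one_eq_add_one h2, hm] at hle
  omega

/-- An involution with a non-scalar component at a fixed slot. -/
theorem Cx.cent_fixed (hM : Cx M) (hm : Fintype.card β = 3) {σ : Equiv.Perm κ} {gs : κ → GL β F}
    (hzM : wgl σ gs ∈ M) (hz2 : wgl σ gs * wgl σ gs = 1) {l : κ} (hl : σ l = l)
    (hns : ∀ c : F, (gs l : Mb) ≠ c • 1) {y : GL X F} (hy : y ∈ M) (hc : y * wgl σ gs = wgl σ gs * y) :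
    y ∈ Wr F κ β := by
  by_contra hno
  haveI := hM.nempty
  set z := wgl σ gs with hz
  have hA : Comp l z (gs l) := comp_of_wgl gs hl
  obtain ⟨c, hc0, hAA⟩ := hA.invol hM.hb hz2
  obtain ⟨N, ⟨d, hd⟩, hNN⟩ := exists_norm (Or.inr (hm ▸ ⟨1, rfl⟩)) (gs l) hc0 hAA
  have hd0 : d ≠ 0 := fun e => Units.ne_zero N (by rw [hd, e, zero_smul])
  have hNns : ∀ c' : F, (N : Mb) ≠ c' • 1 := fun c' e => hns (d⁻¹ * c') (by
    rw [← smul_smul, ← e, hd, smul_smul, inv_mul_cancel₀ hd0, one_smul])
  obtain ⟨S, e', hS, hSe⟩ := sigT_or_neg hm hNN hNns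
  have hcS : Comp l z S := (hA.smul hd).smul hSe
  have hok : Ok M l {z} := ⟨fun e he => by rw [Set.mem_singleton_iff.1 he]; exact ⟨hzM, wgl_mem _ _, hz2⟩,
    fun e he f hf => by rw [Set.mem_singleton_iff.1 he, Set.mem_singleton_iff.1 hf],
    ⟨y, hy, hno, fun e he => by rw [Set.mem_singleton_iff.1 he]; exact hc⟩,
    ⟨S, hS, fun e he => by rw [Set.mem_singleton_iff.1 he]; exact (hcS.comm_pe rfl).symm⟩⟩
  obtain ⟨E, hle, hE⟩ := exists_maxE hok
  exact hE.theoremA hM (hle (Set.mem_singleton z)) hS hcS fun h2 _ _ N' _ hN' => rank_le_one_of_three hm h2 hN'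

theorem fix_of_conj [Nontrivial β] {π : Equiv.Perm κ} {ks : κ → GL β F} {r : κ} {A A' : GL β F}
    (hA : ∀ c : F, (A : Mb) ≠ c • 1) (h : wgl π ks * pe r A * (wgl π ks)⁻¹ = pe r A') : π r = r := by
  rw [pe_conj_eq r A (perm_apply_inv π r)] at h
  obtain ⟨e, -⟩ := pe_eq (conj_nonscalar hA _) h
  conv_lhs => rw [← e, perm_apply_inv]

theorem det_wgl_one (D : κ → GL β F) (hD : ∀ l, (pe l (D l) : Mn).det = 1) : (wgl 1 D : Mn).det = 1 := by
  classical
  suffices h : ∀ s : Finset κ, (wgl 1 (fun l => if l ∈ s then D l else 1) : Mn).det = 1 by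
    simpa using h Finset.univ
  intro s
  induction s using Finset.induction_on with
  | empty =>
    have e : (fun l : κ => if l ∈ (∅ : Finset κ) then D l else 1) = (1 : κ → GL β F) := funext fun l => by simp
    rw [e, wgl_one, Units.val_one, Matrix.det_one]
  | insert a s ha ih =>
    have e : wgl 1 (fun l => if l ∈ insert a s then D l else 1) =
        pe a (D a) * wgl 1 (fun l => if l ∈ s then D l else 1) := by
      show _ = wgl 1 (Function.update 1 a (D a)) * _
      rw [wgl_mul, mul_one]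
      congr 1
      funext l
      by_cases h : l = a
      · subst h; simp [ha]
      · by_cases hs : l ∈ s <;> simp [h, hs]
    rw [e, Units.val_mul, Matrix.det_mul, hD, ih, one_mul]

theorem conj_base {π : Equiv.Perm κ} {hs D : κ → GL β F} :
    wgl π hs * wgl 1 D * (wgl π hs)⁻¹ = wgl 1 fun l => hs l * D (π l) * (hs l)⁻¹ := by
  rw [mul_inv_eq_iff_eq_mul, wgl_mul, wgl_mul, one_mul, mul_one]
  simp

theorem wgl_pe (i : κ) (D : κ → GL β F) (S : GL β F) :
    pe i S * wgl 1 D = wgl 1 (Function.update D i (S * D i)) := by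
  show wgl 1 (Function.update 1 i S) * _ = _
  rw [wgl_mul, mul_one]
  congr 1
  funext l
  by_cases h : l = i
  · subst h; simp
  · simp [h]

theorem pe_wgl (i : κ) (D : κ → GL β F) (S : GL β F) :
    wgl 1 D * pe i S = wgl 1 (Function.update D i (D i * S)) := by
  show _ * wgl 1 (Function.update 1 i S) = _
  rw [wgl_mul, mul_one]
  congr 1
  funext l
  by_cases h : l = i
  · subst h; simp
  · simp [h]

theorem three_le_fixZ (hm : Fintype.card β = 3) [Nonempty κ] (σ : Equiv.Perm κ) :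
    3 ≤ (fixZ (β := β) σ).card := by
  rw [← hm, ← Finset.card_univ]
  refine Finset.card_le_card_of_injOn (fun b _ => b) (fun b _ => ?_) fun b _ b' _ h => ?_
  · simp only [Finset.mem_coe, fixZ, Finset.mem_filter, Finset.mem_univ, true_and]
    rfl
  · obtain ⟨l⟩ := ‹Nonempty κ›
    exact congrFun h l

theorem exists_transversal {ι : Type} [Fintype ι] [DecidableEq ι] (R : ι → ι → Prop) (hR : Equivalence R) (i : ι) :
    ∃ rep : ι → ι, (∀ l, R l (rep l)) ∧ (∀ l l', R l l' → rep l = rep l') ∧ rep i = i := by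
  classical
  let st : Setoid ι := ⟨R, hR⟩
  refine ⟨fun l => if R l i then i else (Quotient.mk st l).out, fun l => ?_, fun l l' h => ?_, ?_⟩
  · show R l (if R l i then i else (Quotient.mk st l).out)
    split_ifs with h
    · exact h
    · exact hR.symm (Quotient.exact (s := st) (Quotient.out_eq (Quotient.mk st l)))
  · by_cases hl : R l i
    · simp [hl, hR.trans (hR.symm h) hl]
    · have hl' : ¬ R l' i := fun e => hl (hR.trans h e)
      simp only [hl, hl', if_false]
      rw [Quotient.sound (s := st) h]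
  · simp [hR.refl i]

theorem Cx.no_ok_three (hM : Cx M) (hm : Fintype.card β = 3) {i : κ} {E₀ : Set (GL X F)} (h0 : Ok M i E₀) :
    False := by
  classical
  haveI := hM.nontriv
  haveI := hM.nempty
  haveI : Nonempty κ := ⟨i⟩
  have hb := hM.hb
  obtain ⟨E, -, hE⟩ := exists_maxE h0
  obtain ⟨x, hx, hno, hxE⟩ := hE.1.bad
  obtain ⟨S, hS, hSE⟩ := hE.1.adm
  have hSn := sigT_nonscalar (by omega) hS
  have hcl : ∀ y, CommE E y → ∀ g ∈ Subgroup.closure E, y * g = g * y := fun y hy g hg => by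
    induction hg using Subgroup.closure_induction with
    | mem e he => exact hy e he
    | one => rw [mul_one, one_mul]
    | mul a b _ _ ha hb => exact ((show Commute y a from ha).mul_right hb).eq
    | inv a _ ha => exact (show Commute y a from ha).inv_right.eq
  have hsq : ∀ g ∈ Subgroup.closure E, g ∈ M ∧ g ∈ Wr F κ β ∧ g * g = 1 := fun g hg => by
    induction hg using Subgroup.closure_induction with
    | mem e he => exact hE.1.mem e he
    | one => exact ⟨one_mem M, one_mem _, one_mul 1⟩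
    | mul a b ha hb iha ihb =>
      refine ⟨mul_mem iha.1 ihb.1, mul_mem iha.2.1 ihb.2.1, ?_⟩
      have hab : b * a = a * b := hcl b (fun e he => (hcl e (hE.1.comm e he) b hb).symm) a ha
      rw [mul_assoc a b (a * b), ← mul_assoc b a b, hab, mul_assoc a b b, ihb.2.2, mul_one, iha.2.2]
    | inv a _ iha =>
      refine ⟨inv_mem iha.1, inv_mem iha.2.1, ?_⟩
      rw [← _root_.mul_inv_rev, iha.2.2, inv_one]
  have hstab : ∀ g ∈ Subgroup.closure E, ∀ π ks, g = wgl π ks → ∀ l, π l = l → ∃ c : F, (ks l : Mb) = c • 1 := by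
    intro g hg π ks hgw l hl
    by_contra hcon
    push Not at hcon
    obtain ⟨hgM, -, hg2⟩ := hsq g hg
    subst hgw
    exact hno (hM.cent_fixed hm hgM hg2 hl hcon hx (hcl x hxE _ hg))
  let R : κ → κ → Prop := fun l l' => ∃ g ∈ Subgroup.closure E, ∃ π ks, g = wgl π ks ∧ π l = l'
  have hR : Equivalence R := by
    refine ⟨fun l => ⟨1, one_mem _, 1, 1, wgl_one.symm, rfl⟩, ?_, ?_⟩
    · rintro l l' ⟨g, hg, π, ks, rfl, rfl⟩
      exact ⟨_, inv_mem hg, _, _, wgl_inv π ks, perm_inv_apply π l⟩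
    · rintro l l' l'' ⟨g, hg, π, ks, rfl, rfl⟩ ⟨g', hg', π', ks', rfl, rfl⟩
      exact ⟨_, mul_mem hg hg', _, _, wgl_mul π π' ks ks', rfl⟩
  obtain ⟨rep, hrep, hrepc, hrepi⟩ := exists_transversal R hR i
  choose G hG πG kG hGw hGl using hrep
  let D : κ → GL β F := fun l => kG l l * S * (kG l l)⁻¹
  have hDS : ∀ l, SigT (D l) := fun l => hS.conj _
  have hGp : ∀ (l : κ) (A : GL β F), G l * pe (rep l) A * (G l)⁻¹ = pe l (kG l l * A * (kG l l)⁻¹) := fun l A => by
    rw [hGw l]; exact pe_conj_eq (rep l) A (hGl l)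
  have hDi : D i = S := by
    obtain ⟨c, hc⟩ := hstab _ (hG i) _ _ (hGw i) i ((hGl i).trans hrepi)
    have := conj_eq_of_smul (A := 1) (A' := kG i i) (c := c) (by rw [hc, Units.val_one]) S
    rwa [one_mul, inv_one, mul_one] at this
  have hDinv : ∀ g ∈ Subgroup.closure E, ∀ π ks, g = wgl π ks → ∀ l, ks l * D (π l) * (ks l)⁻¹ = D l := by
    intro g hg π ks hgw l
    have hr : rep (π l) = rep l := (hrepc l (π l) ⟨g, hg, π, ks, hgw, rfl⟩).symm
    set g' := (G l)⁻¹ * g * G (π l) with hg'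
    have hg'H : g' ∈ Subgroup.closure E := mul_mem (mul_mem (inv_mem (hG l)) hg) (hG (π l))
    obtain ⟨-, ⟨π', ks', hw'⟩, -⟩ := hsq g' hg'H
    set Z := ks l * D (π l) * (ks l)⁻¹ with hZ
    have h1 : g' * pe (rep l) S * g'⁻¹ = pe (rep l) ((kG l l)⁻¹ * Z * kG l l) := by
      have h2 := hGp l ((kG l l)⁻¹ * Z * kG l l)
      rw [show kG l l * ((kG l l)⁻¹ * Z * kG l l) * (kG l l)⁻¹ = Z by group] at h2
      have h3 := hGp (π l) S
      rw [hr] at h3
      calc g' * pe (rep l) S * g'⁻¹ = (G l)⁻¹ * (g * (G (π l) * pe (rep l) S * (G (π l))⁻¹) * g⁻¹) * G l := by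
            rw [hg']; group
        _ = (G l)⁻¹ * pe l Z * G l := by rw [h3, hgw, pe_conj_eq (π l) _ rfl]
        _ = pe (rep l) ((kG l l)⁻¹ * Z * kG l l) := by rw [← h2]; group
    rw [hw'] at h1
    have hfix := fix_of_conj hSn h1
    obtain ⟨c, hc⟩ := hstab g' hg'H π' ks' hw' (rep l) hfix
    rw [pe_conj_eq _ S hfix, conj_eq_of_smul (A := 1) (c := c) (by rw [hc, Units.val_one]), one_mul, inv_one,
      mul_one] at h1
    show Z = kG l l * S * (kG l l)⁻¹
    rw [pe_injective _ h1]
    group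
  set u := wgl 1 D with hu
  have huu : u * u = 1 := by
    rw [hu, wgl_mul, mul_one, ← wgl_one]
    congr 1
    funext l
    exact sigT_sq (hDS l)
  have huM : u ∈ M := hM.mem_wr (wgl_mem _ _) (det_wgl_one D fun l => sigT_det_pe hM.ht (hDS l) l)
  have huE : CommE E u := fun e he => by
    obtain ⟨-, ⟨π, ks, hew⟩, -⟩ := hE.1.mem e he
    have h := fun l => hDinv e (Subgroup.subset_closure he) π ks hew l
    rw [hew, ← eq_comm, ← mul_inv_eq_iff_eq_mul, hu, conj_base]
    exact congrArg (wgl 1) (funext h)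
  have hsu : pe i S * u = u * pe i S := by rw [hu, wgl_pe, pe_wgl, hDi]
  have hfu : ∀ y ∈ M, CommE E y → y * u * y⁻¹ ∈ Wr F κ β → y ∈ Wr F κ β := by
    intro y hy _ hz
    obtain ⟨σ, gs, hzw⟩ := hz
    by_contra hny
    have hz2 : wgl σ gs * wgl σ gs = 1 := by rw [← hzw]; exact conj_invol huu
    have hfix : ∀ l, σ l = l → ∃ c : F, (gs l : Mb) = c • 1 := fun l hl => by
      by_contra hcon
      push Not at hcon
      have hsM : pe i S ∈ M := hM.mem_wr (TensorPow.pe_mem i S) (sigT_det_pe hM.ht hS i)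
      refine hny (hM.sig_fusion hy hS (hM.cent_fixed hm (hzw ▸ mul_mem (mul_mem hy huM) (inv_mem hy)) hz2 hl hcon
        (mul_mem (mul_mem hy hsM) (inv_mem hy)) ?_))
      rw [← hzw]
      calc y * pe i S * y⁻¹ * (y * u * y⁻¹) = y * (pe i S * u) * y⁻¹ := by group
        _ = y * (u * pe i S) * y⁻¹ := by rw [hsu]
        _ = _ := by group
    have hσ : σ * σ = 1 := by
      rw [wgl_mul] at hz2
      exact (wgl_eq_one hz2).1
    have hr : ((wgl σ gs : Mn) - 1).rank = ((u : Mn) - 1).rank := by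
      have := rank_conj_sub u y⁻¹ (1 : F)
      rwa [inv_inv, one_smul, hzw] at this
    have hc := card_halves (β := β) hσ
    have h3 := three_le_fixZ hm σ
    have hb' := rank_base (F := F) hm hDS
    rw [← hu, ← hr] at hb'
    rcases rank_mono hσ hz2 hfix with h | h <;> omega
  have hout := hE.orient2 hM hS hSE huM (wgl_mem _ _) huu huE hfu
  have hss : pe i S * pe i S = 1 := by rw [← map_mul, sigT_sq hS, map_one]
  rcases hout with ⟨h, e, -, ⟨π, hs, rfl⟩, -, he, heq⟩ | ⟨e, y₁, y₂, he, he1, hy₁, ⟨π, hs, rfl⟩, h1, h2⟩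
  · set D' := fun l => hs l * D (π l) * (hs l)⁻¹ with hD'
    have hee : e = wgl 1 (Function.update D' i (S * D' i)) := by
      rw [← wgl_pe, hD', ← conj_base, ← hu, heq, ← mul_assoc, hss, one_mul]
    obtain ⟨l, hl⟩ := Fintype.exists_ne_of_one_lt_card (show 1 < Fintype.card κ by have := hM.ht; omega) i
    have hns : ∀ c : F, ((Function.update D' i (S * D' i) l : GL β F) : Mb) ≠ c • 1 := by
      rw [Function.update_of_ne hl]
      exact sigT_nonscalar (by omega) ((hDS (π l)).conj (hs l))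
    rcases he with he | he
    · obtain ⟨heM, -, he2⟩ := hE.1.mem e he
      subst hee
      exact hno (hM.cent_fixed hm heM he2 rfl hns hx (hxE _ he))
    · rw [he, eq_comm] at hee
      obtain ⟨c, hc⟩ := (wgl_eq_one hee).2 l
      exact hns c hc
  · set D' := fun l => hs l * D (π l) * (hs l)⁻¹ with hD'
    have hee : e = wgl 1 fun l => D l * D' l := by
      have h3 : u * (u * e) = e := by rw [← mul_assoc, huu, one_mul]
      rw [← h3, ← h2, hu, conj_base, wgl_mul, mul_one]
      simp [hD']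
    obtain ⟨heM, -, he2⟩ := hE.1.mem e he
    have hscal : ∀ l, ∃ c : F, ((D l * D' l : GL β F) : Mb) = c • 1 := fun l => by
      by_contra hcon
      push Not at hcon
      subst hee
      exact hno (hM.cent_fixed hm heM he2 rfl hcon hx (hxE _ he))
    choose c hc using hscal
    have hμ : ∏ l, c l ≠ 0 := Finset.prod_ne_zero_iff.2 fun l _ e0 => Units.ne_zero (D l * D' l) (by
      rw [hc l, e0, zero_smul])
    set W := scal (∏ l, c l) hμ (1 : GL β F)
    have heW : e = pe i W := by
      refine Units.ext ?_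
      rw [← et_val, scal_val, Units.val_one, et_smul, et_one, hee]
      ext p q
      rw [wgl_scalar_apply 1 _ c hc, Matrix.smul_apply, Matrix.one_apply, smul_eq_mul]
      congr 1
    obtain ⟨k, C, hk, -⟩ := conj_pure hy₁ i S
    rw [h1, heW, ← map_mul] at hk
    obtain ⟨-, hk2⟩ := pe_eq (A := C * S * C⁻¹) (conj_nonscalar hSn C) hk.symm
    have h4 : ((C * S * C⁻¹ : GL β F) : Mb) = (∏ l, c l) • (S : Mb) := by
      rw [hk2, Units.val_mul, scal_val, Units.val_one, Matrix.mul_smul, mul_one]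
    have hμ1 := sig_scalar hb (hS.conj C) hS h4
    exact he1 (heW.trans (pe_scalar_one (i := i) (by rw [scal_val, hμ1, Units.val_one])))

end Cfsg.Agent.Classical.TensorPow
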