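import Cfsg.Prelude.Def_GeometricClasses

/-!
Tensor powers: the products of factor permutations and pure tensors of matrices, with uniqueness of components.
-/

set_option autoImplicit false
set_option linter.unusedSectionVars false

namespace Cfsg.Agent.Classical.TensorPow

open Matrix

variable {F : Type*} [Field F] {κ β : Type} [Fintype κ] [DecidableEq κ] [Fintype β] [DecidableEq β]

local notation "X" => (κ → β)
local notation "Mb" => Matrix β β F

/-- The pure tensor of a family of vectors. -/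
def ptens (xs : κ → β → F) : (κ → β) → F := fun a => ∏ l, xs l (a l)

/-- The matrix permuting the factors by `σ` and acting by `gs`. -/
def wm (σ : Equiv.Perm κ) (gs : κ → Matrix β β F) : Matrix (κ → β) (κ → β) F :=
  Matrix.of fun x y => ∏ l, gs l (x l) (y (σ l))

theorem sum_prod_perm (σ : Equiv.Perm κ) (f : κ → β → F) :
    ∑ y : κ → β, ∏ l, f l (y (σ l)) = ∏ l, ∑ b, f l b := by
  rw [Fintype.prod_sum]
  exact Fintype.sum_equiv (Equiv.arrowCongr σ.symm (Equiv.refl β)) _ _ fun y => rfl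

theorem wm_mul (σ τ : Equiv.Perm κ) (gs hs : κ → Mb) :
    wm σ gs * wm τ hs = wm (τ * σ) fun l => gs l * hs (σ l) := by
  ext x z
  simp only [Matrix.mul_apply, wm, Matrix.of_apply, Equiv.Perm.mul_apply]
  rw [← sum_prod_perm σ fun l b => gs l (x l) b * hs (σ l) b (z (τ (σ l)))]
  refine Finset.sum_congr rfl fun y _ => ?_
  rw [← Equiv.prod_comp σ fun l => hs l (y l) (z (τ l)), ← Finset.prod_mul_distrib]

theorem wm_one : wm (1 : Equiv.Perm κ) (fun _ => (1 : Mb)) = 1 := by
  ext x y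
  simp only [wm, Matrix.of_apply, Equiv.Perm.coe_one, id_eq, Matrix.one_apply]
  by_cases h : x = y
  · subst h
    simp
  · obtain ⟨l, hl⟩ := Function.ne_iff.1 h
    rw [if_neg h, Finset.prod_eq_zero (Finset.mem_univ l) (if_neg hl)]

theorem wm_mulVec (σ : Equiv.Perm κ) (gs : κ → Mb) (xs : κ → β → F) :
    wm σ gs *ᵥ ptens xs = ptens fun l => gs l *ᵥ xs (σ l) := by
  funext x
  simp only [Matrix.mulVec, dotProduct, wm, Matrix.of_apply, ptens]
  rw [← sum_prod_perm σ fun l b => gs l (x l) b * xs (σ l) b]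
  refine Finset.sum_congr rfl fun y _ => ?_
  rw [← Equiv.prod_comp σ fun l => xs l (y l), ← Finset.prod_mul_distrib]

theorem perm_inv_apply (σ : Equiv.Perm κ) (l : κ) : σ⁻¹ (σ l) = l := by
  rw [Equiv.Perm.coe_inv, Equiv.symm_apply_apply]

theorem perm_apply_inv (σ : Equiv.Perm κ) (l : κ) : σ (σ⁻¹ l) = l := by
  rw [Equiv.Perm.coe_inv, Equiv.apply_symm_apply]

theorem wm_congr {σ τ : Equiv.Perm κ} {gs hs : κ → Mb} (h : σ = τ) (h' : ∀ l, gs l = hs l) :
    wm σ gs = wm τ hs := by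
  rw [h, funext h']

/-- The invertible form. -/
def wgl (σ : Equiv.Perm κ) (gs : κ → GL β F) : GL (κ → β) F where
  val := wm σ fun l => (gs l : Mb)
  inv := wm σ⁻¹ fun l => (((gs (σ⁻¹ l))⁻¹ : GL β F) : Mb)
  val_inv := by
    rw [wm_mul, ← wm_one]
    refine wm_congr (inv_mul_cancel σ) fun l => ?_
    rw [perm_inv_apply, ← Units.val_mul, mul_inv_cancel, Units.val_one]
  inv_val := by
    rw [wm_mul, ← wm_one]
    refine wm_congr (mul_inv_cancel σ) fun l => ?_
    rw [← Units.val_mul, inv_mul_cancel, Units.val_one]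

theorem wgl_val (σ : Equiv.Perm κ) (gs : κ → GL β F) :
    (wgl σ gs : Matrix X X F) = wm σ fun l => (gs l : Mb) := rfl

theorem wgl_mulVec (σ : Equiv.Perm κ) (gs : κ → GL β F) (xs : κ → β → F) :
    (wgl σ gs : Matrix X X F) *ᵥ ptens xs = ptens fun l => (gs l : Mb) *ᵥ xs (σ l) :=
  wm_mulVec σ _ xs

theorem wgl_mul (σ τ : Equiv.Perm κ) (gs hs : κ → GL β F) :
    wgl σ gs * wgl τ hs = wgl (τ * σ) fun l => gs l * hs (σ l) :=
  Units.ext (by rw [Units.val_mul]; exact wm_mul σ τ _ _)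

theorem wgl_one : wgl (1 : Equiv.Perm κ) (1 : κ → GL β F) = 1 :=
  Units.ext (by rw [wgl_val, Units.val_one]; exact wm_one)

theorem wgl_inv (σ : Equiv.Perm κ) (gs : κ → GL β F) :
    (wgl σ gs)⁻¹ = wgl σ⁻¹ fun l => (gs (σ⁻¹ l))⁻¹ :=
  Units.ext rfl

/-- The stabiliser of the decomposition. -/
def Wr (F : Type*) [Field F] (κ β : Type) [Fintype κ] [DecidableEq κ] [Fintype β] [DecidableEq β] :
    Subgroup (GL (κ → β) F) where
  carrier := {g | ∃ σ gs, g = wgl σ gs}
  mul_mem' := by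
    rintro _ _ ⟨σ, gs, rfl⟩ ⟨τ, hs, rfl⟩
    exact ⟨_, _, wgl_mul σ τ gs hs⟩
  one_mem' := ⟨1, 1, wgl_one.symm⟩
  inv_mem' := by
    rintro _ ⟨σ, gs, rfl⟩
    exact ⟨_, _, wgl_inv σ gs⟩

theorem wgl_mem (σ : Equiv.Perm κ) (gs : κ → GL β F) : wgl σ gs ∈ Wr F κ β := ⟨σ, gs, rfl⟩

theorem ptens_ne_zero {xs : κ → β → F} (h : ∀ l, xs l ≠ 0) : ptens xs ≠ 0 := by
  choose b hb using fun l => Function.ne_iff.1 (h l)
  exact Function.ne_iff.2 ⟨b, Finset.prod_ne_zero_iff.2 fun l _ => hb l⟩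

theorem ptens_update (xs : κ → β → F) (l : κ) (v : β → F) (a : κ → β) :
    ptens (Function.update xs l v) a = v (a l) * ∏ k ∈ Finset.univ.erase l, xs k (a k) := by
  rw [ptens, ← Finset.mul_prod_erase _ _ (Finset.mem_univ l), Function.update_self]
  congr 1
  refine Finset.prod_congr rfl fun k hk => ?_
  rw [Function.update_of_ne (Finset.ne_of_mem_erase hk)]

/-- Equal non-zero pure tensors have proportional factors. -/
theorem ptens_prop {xs ys : κ → β → F} (h : ptens xs = ptens ys) (hy : ∀ l, ys l ≠ 0) (l : κ) :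
    ∃ c : F, xs l = c • ys l := by
  choose b hb using fun k => Function.ne_iff.1 (hy k)
  have hb' : ∀ k, ys k (b k) ≠ 0 := hb
  have hp : ∏ k ∈ Finset.univ.erase l, xs k (b k) ≠ 0 := by
    have h1 := congrFun h b
    rw [ptens, ptens, ← Finset.mul_prod_erase _ _ (Finset.mem_univ l)] at h1
    intro e
    rw [e, mul_zero] at h1
    exact Finset.prod_ne_zero_iff.2 (fun k _ => hb' k) h1.symm
  refine ⟨(∏ k ∈ Finset.univ.erase l, ys k (b k)) / ∏ k ∈ Finset.univ.erase l, xs k (b k), funext fun c => ?_⟩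
  have h1 := congrFun h (Function.update b l c)
  have e : ∀ zs : κ → β → F,
      ptens zs (Function.update b l c) = zs l c * ∏ k ∈ Finset.univ.erase l, zs k (b k) := fun zs => by
    rw [ptens, ← Finset.mul_prod_erase _ _ (Finset.mem_univ l), Function.update_self]
    congr 1
    exact Finset.prod_congr rfl fun k hk => by rw [Function.update_of_ne (Finset.ne_of_mem_erase hk)]
  rw [e, e] at h1
  rw [Pi.smul_apply, smul_eq_mul, div_mul_eq_mul_div, eq_div_iff hp, h1, mul_comm]

theorem gl_mulVec_ne_zero (g : GL β F) {v : β → F} (hv : v ≠ 0) : (g : Mb) *ᵥ v ≠ 0 := fun e => hv (by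
  have := congrArg (((g⁻¹ : GL β F) : Mb) *ᵥ ·) e
  simpa [Matrix.mulVec_mulVec, ← Units.val_mul] using this)

theorem scalar_of_eigen {A : Mb} (h : ∀ v : β → F, ∃ c : F, A *ᵥ v = c • v) :
    ∃ c : F, A = c • (1 : Mb) := by
  rcases isEmpty_or_nonempty β with hb | ⟨⟨b₀⟩⟩
  · exact ⟨0, Matrix.ext fun i => isEmptyElim i⟩
  choose c hc using h
  refine ⟨c (Pi.single b₀ 1), Matrix.ext fun i j => ?_⟩
  have hj : ∀ k, A k j = c (Pi.single j 1) * (Pi.single j (1 : F) : β → F) k := fun k => by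
    have := congrFun (hc (Pi.single j 1)) k
    rwa [Matrix.mulVec_single_one, Pi.smul_apply, smul_eq_mul, Matrix.col_apply] at this
  have hcj : c (Pi.single j 1) = c (Pi.single b₀ 1) := by
    by_cases e : j = b₀
    · rw [e]
    have h1 := hc (Pi.single j (1 : F) + Pi.single b₀ 1)
    rw [Matrix.mulVec_add, hc, hc] at h1
    have h2 := congrFun h1 j
    have h3 := congrFun h1 b₀
    simp [e, Ne.symm e] at h2 h3
    rw [h2, h3]
  rw [hj, hcj, Matrix.smul_apply, smul_eq_mul]
  congr 1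
  simp [Matrix.one_apply, Pi.single_apply]

theorem wgl_eq_one [Nontrivial β] {π : Equiv.Perm κ} {ks : κ → GL β F} (h : wgl π ks = 1) :
    π = 1 ∧ ∀ l, ∃ c : F, (ks l : Mb) = c • (1 : Mb) := by
  obtain ⟨a, b, hab⟩ := exists_pair_ne β
  have key : ∀ xs : κ → β → F, (∀ l, xs l ≠ 0) → ∀ l, ∃ c : F, (ks l : Mb) *ᵥ xs (π l) = c • xs l := by
    intro xs hxs l
    refine ptens_prop (xs := fun l => (ks l : Mb) *ᵥ xs (π l)) ?_ hxs l
    rw [← wgl_mulVec, h, Units.val_one, Matrix.one_mulVec]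
  have hπ : ∀ l, π l = l := by
    intro l
    by_contra hl
    have h1 : ∀ d : β, ∃ c : F, (ks l : Mb) *ᵥ Pi.single a (1 : F) = c • Pi.single d 1 := fun d => by
      obtain ⟨c, hc⟩ := key (Function.update (fun _ => Pi.single a (1 : F)) l (Pi.single d 1))
        (fun k => by by_cases e : k = l <;> simp [Function.update_apply, e]) l
      exact ⟨c, by rwa [Function.update_of_ne hl, Function.update_self] at hc⟩
    obtain ⟨c, hc⟩ := h1 a
    obtain ⟨c', hc'⟩ := h1 b
    refine gl_mulVec_ne_zero (ks l) (v := Pi.single a (1 : F)) (by simp) ?_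
    rw [hc]
    have := congrFun (hc.symm.trans hc') a
    simp [hab] at this
    rw [this, zero_smul]
  refine ⟨Equiv.ext hπ, fun l => scalar_of_eigen fun v => ?_⟩
  rcases eq_or_ne v 0 with rfl | hv
  · exact ⟨0, by rw [Matrix.mulVec_zero, smul_zero]⟩
  obtain ⟨c, hc⟩ := key (fun _ => v) (fun _ => hv) l
  exact ⟨c, hc⟩

/-- The permutation is determined, the components up to scalars. -/
theorem wgl_unique [Nontrivial β] {σ τ : Equiv.Perm κ} {gs hs : κ → GL β F} (h : wgl σ gs = wgl τ hs) :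
    σ = τ ∧ ∀ l, ∃ c : F, c ≠ 0 ∧ (hs l : Mb) = c • (gs l : Mb) := by
  have h1 : (wgl σ gs)⁻¹ * wgl τ hs = 1 := by rw [h, inv_mul_cancel]
  rw [wgl_inv, wgl_mul] at h1
  obtain ⟨h2, h3⟩ := wgl_eq_one h1
  have hστ : σ = τ := (mul_inv_eq_one.1 h2).symm
  refine ⟨hστ, fun l => ?_⟩
  obtain ⟨c, hc⟩ := h3 (σ l)
  simp only [perm_inv_apply, Units.val_mul] at hc
  have hc2 := congrArg ((gs l : Mb) * ·) hc
  simp only [← mul_assoc, ← Units.val_mul, mul_inv_cancel, Units.val_one, one_mul, Matrix.mul_smul,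
    mul_one] at hc2
  refine ⟨c, ?_, hc2⟩
  rintro rfl
  rw [zero_smul] at hc2
  exact Units.ne_zero (hs l) hc2

/-- The pure element at one slot. -/
def pe (i : κ) : GL β F →* GL (κ → β) F where
  toFun A := wgl 1 (Function.update 1 i A)
  map_one' := by rw [Function.update_eq_self_iff.2 (show (1 : GL β F) = (1 : κ → GL β F) i from rfl), wgl_one]
  map_mul' A B := by
    rw [wgl_mul, mul_one]
    congr 1
    funext l
    by_cases e : l = i <;> simp [Function.update_apply, e]

theorem pe_mem (i : κ) (A : GL β F) : pe i A ∈ Wr F κ β := wgl_mem _ _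

theorem pe_comm {i j : κ} (hij : i ≠ j) (A B : GL β F) : pe i A * pe j B = pe j B * pe i A := by
  show wgl 1 _ * wgl 1 _ = wgl 1 _ * wgl 1 _
  rw [wgl_mul, wgl_mul]
  congr 1
  funext l
  by_cases e : l = i <;> by_cases e' : l = j <;> simp_all [Function.update_apply]

/-- Conjugation of pure elements. -/
theorem conj_pe (σ : Equiv.Perm κ) (gs : κ → GL β F) (j : κ) (A : GL β F) :
    wgl σ gs * pe j A * (wgl σ gs)⁻¹ = pe (σ⁻¹ j) (gs (σ⁻¹ j) * A * (gs (σ⁻¹ j))⁻¹) := by
  show wgl σ gs * wgl 1 _ * _ = wgl 1 _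
  rw [wgl_inv, wgl_mul, wgl_mul, one_mul, inv_mul_cancel]
  congr 1
  funext l
  simp only [perm_inv_apply, Function.update_apply, Pi.one_apply]
  by_cases e : l = σ⁻¹ j
  · subst e
    simp
  · have e' : σ l ≠ j := fun h => e (by rw [← h, perm_inv_apply])
    rw [if_neg e, if_neg e']
    simp

theorem pe_mulVec (i : κ) (A : GL β F) (xs : κ → β → F) :
    (pe i A : Matrix X X F) *ᵥ ptens xs = ptens (Function.update xs i ((A : Mb) *ᵥ xs i)) := by
  show (wgl 1 (Function.update 1 i A) : Matrix X X F) *ᵥ _ = _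
  rw [wgl_mulVec]
  congr 1
  funext l
  by_cases e : l = i
  · subst e; simp
  · simp [e]

theorem pe_injective (i : κ) [Nonempty β] : Function.Injective (pe (F := F) (κ := κ) (β := β) i) := by
  obtain ⟨b⟩ := ‹Nonempty β›
  intro A B h
  refine Units.ext (Matrix.ext_iff_mulVec.2 fun v => funext fun c => ?_)
  have h1 := congrFun (congrArg (fun g : GL X F => (g : Matrix X X F) *ᵥ
    ptens (Function.update (fun _ => Pi.single b (1 : F)) i v)) h) (Function.update (fun _ => b) i c)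
  simp only [pe_mulVec, Function.update_self, Function.update_idem, ptens_update] at h1
  refine mul_right_cancel₀ (Finset.prod_ne_zero_iff.2 fun l hl => ?_) h1
  simp [Finset.ne_of_mem_erase hl]

/-- A non-scalar pure element determines its slot. -/
theorem pe_eq [Nontrivial β] {i j : κ} {A B : GL β F} (hA : ∀ c : F, (A : Mb) ≠ c • (1 : Mb))
    (h : pe i A = pe j B) : i = j ∧ A = B := by
  have hij : i = j := by
    by_contra hne
    obtain ⟨c, hc0, hc⟩ := (wgl_unique h).2 i
    simp [hne] at hc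
    exact hA c⁻¹ (by rw [hc, smul_smul, inv_mul_cancel₀ hc0, one_smul])
  subst hij
  exact ⟨rfl, pe_injective i h⟩

end Cfsg.Agent.Classical.TensorPow
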